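import Groth.Agent.Lib.SHens6.NormFlat
import Groth.Agent.Lib.GRing6.Nagata
import Groth.Agent.Lib.Hens.Semilocal
import Mathlib

/-! # Finiteness of normalizations inside an essentially étale algebra -/

set_option autoImplicit false
universe u

open IsLocalRing

namespace Groth.Agent.SHens6

theorem isNagata_of_isExcellent (A : Type u) [CommRing A] (hA : EGA4.IsExcellent A) : CAlg.IsNagata A := by
  haveI := hA.1
  exact GRing6.isNagata_of_gAll A (GRing6.reducedProp.gAll_of_isGRing A hA.2.2.1) hA.2.2.2

set_option maxHeartbeats 1000000 in
/-- The integral closure of a Nagata ring in a reduced finite algebra over its total fraction ring is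
finite. -/
theorem finite_integralClosure_of_isNagata (A F : Type u) [CommRing A] [CommRing F] [Algebra A F]
    (hN : CAlg.IsNagata A) [IsReduced F] (t : Finset F)
    (hu : ∀ a ∈ nonZeroDivisors A, IsUnit (algebraMap A F a))
    (ht : ∀ x : F, ∃ a ∈ nonZeroDivisors A, algebraMap A F a * x ∈ Submodule.span A (t : Set F))
    [IsArtinianRing F] : Module.Finite A (integralClosure A F) := by
  classical
  haveI := hN.1
  letI := fun m : MaximalSpectrum F => Ideal.Quotient.field m.asIdeal
  haveI hfin : ∀ m : MaximalSpectrum F, Module.Finite A (integralClosure A (F ⧸ m.asIdeal)) := by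
    intro m
    let M := F ⧸ m.asIdeal
    let p : Ideal A := RingHom.ker (algebraMap A M)
    haveI : p.IsPrime := RingHom.ker_isPrime _
    letI : Algebra (A ⧸ p) M := (Ideal.Quotient.lift p (algebraMap A M) fun x hx => hx).toAlgebra
    haveI : IsScalarTower A (A ⧸ p) M := IsScalarTower.of_algebraMap_eq fun a => rfl
    let κ := FractionRing (A ⧸ p)
    have hinj : Function.Injective (algebraMap (A ⧸ p) M) := by
      rw [injective_iff_map_eq_zero]
      intro z hz
      obtain ⟨a, rfl⟩ := Ideal.Quotient.mk_surjective z
      exact Ideal.Quotient.eq_zero_iff_mem.2 hz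
    letI : Algebra κ M := (IsFractionRing.lift hinj : κ →+* M).toAlgebra
    haveI : IsScalarTower (A ⧸ p) κ M :=
      IsScalarTower.of_algebraMap_eq fun z => (IsFractionRing.lift_algebraMap hinj z).symm
    haveI : IsScalarTower A κ M := IsScalarTower.of_algebraMap_eq fun a => by
      rw [IsScalarTower.algebraMap_apply A (A ⧸ p) κ, ← IsScalarTower.algebraMap_apply (A ⧸ p) κ M,
        ← IsScalarTower.algebraMap_apply]
    haveI : Module.Finite κ M := ⟨⟨t.image (Ideal.Quotient.mk m.asIdeal), by
      refine Submodule.eq_top_iff'.2 fun x => ?_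
      obtain ⟨x, rfl⟩ := Ideal.Quotient.mk_surjective x
      obtain ⟨a, ha, hax⟩ := ht x
      have h1 := Submodule.mem_map_of_mem (f := (Ideal.Quotient.mkₐ A m.asIdeal).toLinearMap) hax
      rw [Submodule.map_span] at h1
      have h2 : (Ideal.Quotient.mkₐ A m.asIdeal).toLinearMap (algebraMap A F a * x) ∈
          Submodule.span κ ((t.image (Ideal.Quotient.mk m.asIdeal) : Finset M) : Set M) := by
        rw [Finset.coe_image]
        exact Submodule.span_le_restrictScalars A κ _ h1
      have hau : algebraMap A M a ≠ 0 := ((hu a ha).map (Ideal.Quotient.mk m.asIdeal)).ne_zero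
      have h3 := Submodule.smul_mem _ (algebraMap A κ a)⁻¹ h2
      rw [Algebra.smul_def, map_inv₀, ← IsScalarTower.algebraMap_apply] at h3
      change (algebraMap A M a)⁻¹ * (algebraMap A M a * Ideal.Quotient.mk m.asIdeal x) ∈ _ at h3
      rwa [inv_mul_cancel_left₀ hau] at h3⟩⟩
    haveI : Module.Finite (A ⧸ p) (integralClosure (A ⧸ p) M) := hN.2 p M inferInstance
    haveI : Module.Finite A (integralClosure (A ⧸ p) M) := Module.Finite.trans (A ⧸ p) _
    let ι : integralClosure A M →ₗ[A] integralClosure (A ⧸ p) M :=
      { toFun := fun x => ⟨x.1, (x.2 : IsIntegral A x.1).tower_top⟩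
        map_add' := fun x y => rfl
        map_smul' := fun a x => rfl }
    exact Module.Finite.of_injective ι fun x y h => by
      have h' := congrArg Subtype.val h
      exact Subtype.ext h'
  let f : integralClosure A F →ₗ[A] ((m : MaximalSpectrum F) → integralClosure A (F ⧸ m.asIdeal)) :=
    { toFun := fun x m => ⟨Ideal.Quotient.mkₐ A m.asIdeal x.1, x.2.map _⟩
      map_add' := fun x y => funext fun m => Subtype.ext (map_add _ _ _)
      map_smul' := fun b x => funext fun m => Subtype.ext (map_smul (Ideal.Quotient.mkₐ A m.asIdeal) b x.1) }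
  refine Module.Finite.of_injective f fun x y hxy => Subtype.ext ?_
  exact (IsArtinianRing.equivPi F).injective (funext fun m => congrArg Subtype.val (congrFun hxy m))

/-- The integral closure of an excellent reduced local ring in the total fraction ring of an essentially
étale algebra is finite. -/
theorem finite_integralClosure_fractionRing (A E : Type u) [CommRing A] [IsLocalRing A] [IsReduced A]
    (hA : EGA4.IsExcellent A) [CommRing E] [Algebra A E] (hE : EGA4loc.IsEssentiallyEtale A E) :
    Module.Finite A (integralClosure A (FractionRing E)) := by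
  haveI := hA.1
  have hmin := minimalPrimes.finite_of_isNoetherianRing A
  obtain ⟨hloc, t, ht⟩ := isLocalization_fractionRing_and_fg A E hmin hE
  obtain ⟨C₀, _, _, q, _, hC₀, -, ⟨e⟩⟩ := hE
  haveI := hC₀
  haveI : IsReduced C₀ := Hens.isReduced_of_etale A C₀
  haveI : IsReduced (Localization.AtPrime q) := isReduced_localizationPreserves q.primeCompl _ inferInstance
  haveI : IsReduced E := isReduced_of_injective e e.injective
  haveI : IsNoetherianRing E := by
    haveI : IsNoetherianRing C₀ := Algebra.FiniteType.isNoetherianRing A C₀
    haveI : IsNoetherianRing (Localization.AtPrime q) := IsLocalization.isNoetherianRing q.primeCompl _ inferInstance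
    exact isNoetherianRing_of_ringEquiv (Localization.AtPrime q) e.symm.toRingEquiv
  haveI : IsReduced (FractionRing E) := isReduced_localizationPreserves (nonZeroDivisors E) _ inferInstance
  haveI : IsArtinianRing (FractionRing E) :=
    Branch14.isArtinianRing_fractionRing E (minimalPrimes.finite_of_isNoetherianRing E)
  refine finite_integralClosure_of_isNagata A _ (isNagata_of_isExcellent A hA) t (fun a ha => ?_) ht
  rw [IsScalarTower.algebraMap_apply A E (FractionRing E)]
  exact IsLocalization.map_units (FractionRing E)
    (⟨_, ⟨a, ha, rfl⟩⟩ : (nonZeroDivisors A).map (algebraMap A E))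

end Groth.Agent.SHens6
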