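import Groth.Agent.Lib.Hens.EssEtale
import Groth.Agent.Lib.Hens.EtaleLift
import Groth.Agent.Lib.Hens.FiniteType
import Groth.Agent.Lib.Hens.Finite

/-! # Essentially étale algebras over complete local rings descend to a henselian coefficient ring -/

set_option autoImplicit false
universe u

open IsLocalRing
open scoped TensorProduct

namespace Groth.Agent.SHens6

/-- Two finite étale algebras over a henselian pair with the same reduction are isomorphic. -/
theorem nonempty_algEquiv_of_reduction {A : Type u} [CommRing A] {I : Ideal A} (h : HenselianRing A I)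
    {E₁ E₂ C : Type u} [CommRing E₁] [CommRing E₂] [CommRing C] [Algebra A E₁] [Algebra A E₂] [Algebra A C]
    [Algebra.Etale A E₁] [Algebra.Etale A E₂] [Module.Finite A E₁] [Module.Finite A E₂]
    (π₁ : E₁ →ₐ[A] C) (π₂ : E₂ →ₐ[A] C) (h₁ : Function.Surjective π₁) (h₂ : Function.Surjective π₂)
    (k₁ : RingHom.ker π₁ = I.map (algebraMap A E₁)) (k₂ : RingHom.ker π₂ = I.map (algebraMap A E₂)) :
    Nonempty (E₁ ≃ₐ[A] E₂) := by
  haveI : Algebra.IsIntegral A E₁ := Algebra.IsIntegral.of_finite _ _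
  haveI : Algebra.IsIntegral A E₂ := Algebra.IsIntegral.of_finite _ _
  have H₁ := Hens.henselianRing_of_isIntegral (B := E₁) h
  have H₂ := Hens.henselianRing_of_isIntegral (B := E₂) h
  obtain ⟨f, hf, -⟩ := Hens.existsUnique_algHom_lift_of_surjective H₂ π₂ h₂ k₂ π₁
  obtain ⟨g, hg, -⟩ := Hens.existsUnique_algHom_lift_of_surjective H₁ π₁ h₁ k₁ π₂
  refine ⟨AlgEquiv.ofAlgHom f g ?_ ?_⟩
  · exact (Hens.existsUnique_algHom_lift_of_surjective H₂ π₂ h₂ k₂ π₂).unique
      (by rw [← AlgHom.comp_assoc, hf, hg]) (AlgHom.comp_id _)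
  · exact (Hens.existsUnique_algHom_lift_of_surjective H₁ π₁ h₁ k₁ π₁).unique
      (by rw [← AlgHom.comp_assoc, hg, hf]) (AlgHom.comp_id _)

theorem exists_finite_etale_of_complete (R A E : Type u) [CommRing R] [HenselianLocalRing R]
    [CommRing A] [IsLocalRing A] [IsNoetherianRing A] [IsAdicComplete (maximalIdeal A) A]
    [Algebra R A] [IsLocalHom (algebraMap R A)]
    (hres : Function.Bijective (ResidueField.map (algebraMap R A)))
    [CommRing E] [IsLocalRing E] [Algebra A E] [IsLocalHom (algebraMap A E)]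
    (hE : EGA4loc.IsEssentiallyEtale A E) :
    ∃ (S : Type u) (_ : CommRing S) (_ : IsLocalRing S) (_ : Algebra R S),
      Module.Finite R S ∧ Algebra.Etale R S ∧ Nonempty (E ≃ₐ[A] A ⊗[R] S) := by
  haveI : HenselianLocalRing A :=
    Hens.henselianLocalRing_iff.2 (inferInstance : HenselianRing A (maximalIdeal A))
  haveI hfinE : Module.Finite A E := by
    obtain ⟨C, _, _, q, _, hC, hq, ⟨e⟩⟩ := hE
    haveI := hC
    haveI : q.LiesOver (maximalIdeal A) := ⟨hq.symm⟩
    haveI := Hens.finite_localization_atPrime q ⟨hq.symm⟩ inferInstance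
    exact Module.Finite.equiv e.symm.toLinearEquiv
  haveI : Algebra.FormallyEtale A E := (Hens.essEtale_formallyEtale hE).1
  haveI : Algebra.FinitePresentation A E := Algebra.FinitePresentation.of_finiteType.1 inferInstance
  haveI : Algebra.Etale A E := {}
  let I := maximalIdeal A
  let J := maximalIdeal R
  let ρ : (R ⧸ J) →+* (A ⧸ I) := ResidueField.map (algebraMap R A)
  have hρ : ∀ r, ρ (Ideal.Quotient.mk J r) = Ideal.Quotient.mk I (algebraMap R A r) := fun r => rfl
  let C := (A ⧸ I) ⊗[A] E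
  letI : Algebra (R ⧸ J) (A ⧸ I) := ρ.toAlgebra
  haveI : SMulCommClass A (R ⧸ J) (A ⧸ I) := ⟨fun a r x => by
    rw [Algebra.smul_def r, Algebra.smul_def r, Algebra.mul_smul_comm]⟩
  let eρ : (R ⧸ J) ≃ₐ[R ⧸ J] (A ⧸ I) := AlgEquiv.ofBijective (Algebra.ofId _ _) hres
  haveI : Module.Finite (R ⧸ J) (A ⧸ I) := Module.Finite.equiv eρ.toLinearEquiv
  haveI : Algebra.Etale (R ⧸ J) (A ⧸ I) := Algebra.Etale.of_equiv eρ
  haveI : Module.Finite (R ⧸ J) C := Module.Finite.trans (A ⧸ I) C
  haveI : Algebra.Etale (R ⧸ J) C := Algebra.Etale.comp (R ⧸ J) (A ⧸ I) C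
  obtain ⟨B, _, _, hBfin, hBet, ⟨eB⟩⟩ :=
    Hens.exists_finite_etale_lift (Hens.henselianRing_maximalIdeal R) C
  haveI := hBfin
  haveI := hBet
  let π₁ : E →ₐ[A] C := Algebra.TensorProduct.includeRight
  have h₁ : Function.Surjective π₁ := Hens.surjective_includeRight_quotient I E
  have k₁ : RingHom.ker π₁ = I.map (algebraMap A E) := Hens.ker_includeRight_quotient I E
  let incB : B →ₐ[R] (R ⧸ J) ⊗[R] B := Algebra.TensorProduct.includeRight
  let β : B →ₐ[R] C :=
    { (eB : ((R ⧸ J) ⊗[R] B) →+* C).comp incB.toRingHom with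
      commutes' := fun r => by
        show eB (incB (algebraMap R B r)) = algebraMap A C (algebraMap R A r)
        rw [incB.commutes, IsScalarTower.algebraMap_apply R (R ⧸ J) ((R ⧸ J) ⊗[R] B), eB.commutes]
        show algebraMap (A ⧸ I) C (ρ (Ideal.Quotient.mk J r)) = _
        rw [hρ, IsScalarTower.algebraMap_apply A (A ⧸ I) C]
        rfl }
  have hβ : Function.Surjective β := fun c => by
    obtain ⟨b, hb⟩ := Hens.surjective_includeRight_quotient J B (eB.symm c)
    exact ⟨b, by show eB (incB b) = c; rw [hb, AlgEquiv.apply_symm_apply]⟩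
  have hβk : ∀ b, β b = 0 → b ∈ J.map (algebraMap R B) := fun b hb => by
    rw [← Hens.ker_includeRight_quotient J B, RingHom.mem_ker]
    exact (map_eq_zero_iff eB eB.injective).1 hb
  let π₂ : A ⊗[R] B →ₐ[A] C := Algebra.TensorProduct.lift (Algebra.ofId A C) β fun _ _ => Commute.all _ _
  have hπ₂ : ∀ b, π₂ (1 ⊗ₜ b) = β b := fun b => by simp [π₂]
  have h₂ : Function.Surjective π₂ := fun c => by
    obtain ⟨b, rfl⟩ := hβ c
    exact ⟨1 ⊗ₜ b, hπ₂ b⟩
  have k₂ : RingHom.ker π₂ = I.map (algebraMap A (A ⊗[R] B)) := by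
    refine le_antisymm ?_ (Ideal.map_le_iff_le_comap.2 fun a ha => ?_)
    · intro z hz
      have hdec : ∀ z : A ⊗[R] B, ∃ b : B, z - 1 ⊗ₜ b ∈ I.map (algebraMap A (A ⊗[R] B)) := by
        intro z
        induction z with
        | zero => exact ⟨0, by simp⟩
        | add x y hx hy =>
          obtain ⟨b, hb⟩ := hx
          obtain ⟨b', hb'⟩ := hy
          exact ⟨b + b', by rw [TensorProduct.tmul_add, add_sub_add_comm]; exact add_mem hb hb'⟩
        | tmul a b =>
          obtain ⟨r, hr⟩ := hres.2 (residue A a)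
          obtain ⟨r, rfl⟩ := residue_surjective r
          have ha : a - algebraMap R A r ∈ I := Ideal.Quotient.eq.1 hr.symm
          refine ⟨r • b, ?_⟩
          have : a ⊗ₜ[R] b - 1 ⊗ₜ (r • b) = algebraMap A (A ⊗[R] B) (a - algebraMap R A r) * (1 ⊗ₜ b) := by
            rw [Algebra.TensorProduct.algebraMap_apply, Algebra.algebraMap_self, RingHom.id_apply,
              Algebra.TensorProduct.tmul_mul_tmul, mul_one, one_mul, TensorProduct.sub_tmul,
              TensorProduct.tmul_smul, TensorProduct.smul_tmul', Algebra.smul_def, mul_one]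
          rw [this]
          exact Ideal.mul_mem_right _ _ (Ideal.mem_map_of_mem _ ha)
      obtain ⟨b, hb⟩ := hdec z
      have hle : I.map (algebraMap A (A ⊗[R] B)) ≤ RingHom.ker π₂ :=
        Ideal.map_le_iff_le_comap.2 fun a ha => by
          rw [Ideal.mem_comap, RingHom.mem_ker, π₂.commutes, IsScalarTower.algebraMap_apply A (A ⧸ I) C,
            Ideal.Quotient.algebraMap_eq, Ideal.Quotient.eq_zero_iff_mem.2 ha, map_zero]
      have h0 : β b = 0 := by
        have h3 := RingHom.mem_ker.1 (hle hb)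
        rw [map_sub, RingHom.mem_ker.1 hz, hπ₂, zero_sub, neg_eq_zero] at h3
        exact h3
      have h4 : (1 : A) ⊗ₜ[R] b ∈ I.map (algebraMap A (A ⊗[R] B)) := by
        have h5 : J.map (algebraMap R B) ≤
            (I.map (algebraMap A (A ⊗[R] B))).comap (Algebra.TensorProduct.includeRight : B →ₐ[R] A ⊗[R] B) :=
          Ideal.map_le_iff_le_comap.2 fun r hr => by
            rw [Ideal.mem_comap, Ideal.mem_comap, AlgHom.commutes, IsScalarTower.algebraMap_apply R A (A ⊗[R] B)]
            exact Ideal.mem_map_of_mem _ (map_nonunit (algebraMap R A) r hr)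
        exact h5 (hβk b h0)
      simpa using add_mem hb h4
    · rw [Ideal.mem_comap, RingHom.mem_ker, π₂.commutes, IsScalarTower.algebraMap_apply A (A ⧸ I) C,
        Ideal.Quotient.algebraMap_eq, Ideal.Quotient.eq_zero_iff_mem.2 ha, map_zero]
  have hClocal : IsLocalRing C := by
    haveI : Nontrivial C := by
      by_contra hC
      rw [not_nontrivial_iff_subsingleton] at hC
      have h1 : (1 : E) ∈ I.map (algebraMap A E) := k₁ ▸ (Subsingleton.elim _ _ : π₁ 1 = 0)
      exact (maximalIdeal.isMaximal E).ne_top ((Ideal.eq_top_iff_one _).2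
        (((local_hom_TFAE (algebraMap A E)).out 0 2 rfl rfl).1 inferInstance h1))
    exact IsLocalRing.of_surjective' π₁.toRingHom h₁
  haveI := hClocal
  haveI : Algebra.IsIntegral R B := Algebra.IsIntegral.of_finite _ _
  haveI : IsLocalRing B := by
    haveI : Nontrivial B := ⟨⟨0, 1, fun h => zero_ne_one (α := C) (by rw [← map_zero β, h, map_one])⟩⟩
    refine IsLocalRing.of_unique_max_ideal ⟨(maximalIdeal C).comap β.toRingHom,
      Ideal.comap_isMaximal_of_surjective _ hβ, fun M hM => ?_⟩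
    have hJM : J.map (algebraMap R B) ≤ M := by
      refine Ideal.map_le_iff_le_comap.2 (le_of_eq ?_)
      haveI := hM
      exact (IsLocalRing.eq_maximalIdeal (Ideal.isMaximal_comap_of_isIntegral_of_isMaximal M)).symm
    refine hM.eq_of_le (Ideal.comap_isMaximal_of_surjective _ hβ).ne_top fun b hb => ?_
    rw [Ideal.mem_comap, mem_maximalIdeal, mem_nonunits_iff]
    intro hu
    obtain ⟨c, hc⟩ := hβ ↑hu.unit⁻¹
    have h1 : b * c - 1 ∈ M := hJM (hβk _ (by
      rw [map_sub, map_mul, map_one, hc]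
      show (β b) * _ - 1 = 0
      exact sub_eq_zero.2 hu.mul_val_inv))
    exact hM.ne_top ((Ideal.eq_top_iff_one M).2 (by simpa using sub_mem (M.mul_mem_right c hb) h1))
  haveI : Algebra.Etale A (A ⊗[R] B) := inferInstance
  haveI : Module.Finite A (A ⊗[R] B) := inferInstance
  exact ⟨B, inferInstance, inferInstance, inferInstance, hBfin, hBet,
    nonempty_algEquiv_of_reduction (Hens.henselianRing_maximalIdeal A) π₁ π₂ h₁ h₂ k₁ k₂⟩

end Groth.Agent.SHens6
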