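import Groth.Agent.Lib.CplLocH7.Basic
import Groth.Agent.Lib.Compl.Algebraize
import Groth.Prelude.Def_EGA4b
import Mathlib

/-! # Completion of the base change to the completion of the base -/

set_option autoImplicit false
universe u

open IsLocalRing
open scoped TensorProduct

namespace Groth.Agent.SHens6

theorem nonempty_cpl_equiv_of_levelwise (B L : Type u) [CommRing B] [IsLocalRing B] [CommRing L] [IsLocalRing L]
    (h : B →+* L) (hmap : ∀ n, maximalIdeal B ^ n ≤ (maximalIdeal L ^ n).comap h)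
    (hbij : ∀ n, Function.Bijective (Ideal.quotientMap (maximalIdeal L ^ n) h (hmap n))) :
    Nonempty (EGA4.Cpl B ≃+* EGA4.Cpl L) := by
  let σ : ∀ n, (B ⧸ maximalIdeal B ^ n) ≃+* (L ⧸ maximalIdeal L ^ n) := fun n =>
    RingEquiv.ofBijective _ (hbij n)
  have hσ : ∀ (n : ℕ) (b : B), σ n (Ideal.Quotient.mk (maximalIdeal B ^ n) b) = Ideal.Quotient.mk (maximalIdeal L ^ n) (h b) := fun n b => rfl
  have hσc : ∀ {m n : ℕ} (hle : m ≤ n) x,
      σ m (Ideal.Quotient.factorPow (maximalIdeal B) hle x) =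
        Ideal.Quotient.factorPow (maximalIdeal L) hle (σ n x) := fun {m n} hle x => by
    obtain ⟨b, rfl⟩ := Ideal.Quotient.mk_surjective x
    rw [hσ n b]
    exact hσ m b
  have hev : ∀ (R : Type u) [CommRing R] [IsLocalRing R] {m n : ℕ} (hle : m ≤ n) (x : EGA4.Cpl R),
      Ideal.Quotient.factorPow (maximalIdeal R) hle (AdicCompletion.evalₐ (maximalIdeal R) n x) =
        AdicCompletion.evalₐ (maximalIdeal R) m x := fun R _ _ m n hle x => by
    obtain ⟨x, rfl⟩ := AdicCompletion.mk_surjective (maximalIdeal R) R x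
    rw [AdicCompletion.evalₐ_mk, AdicCompletion.evalₐ_mk, Ideal.Quotient.factorPow, Ideal.Quotient.factor_mk,
      Ideal.Quotient.eq]
    have := x.property hle
    rw [SModEq.sub_mem, smul_eq_mul, Ideal.mul_top] at this
    rw [← neg_sub]
    exact neg_mem this
  let fF : ∀ n, EGA4.Cpl B →+* L ⧸ maximalIdeal L ^ n := fun n =>
    (σ n).toRingHom.comp (AdicCompletion.evalₐ (maximalIdeal B) n).toRingHom
  have hfF : ∀ {m n : ℕ} (hle : m ≤ n), (Ideal.Quotient.factorPow (maximalIdeal L) hle).comp (fF n) = fF m :=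
    fun {m n} hle => RingHom.ext fun x => by
      show Ideal.Quotient.factorPow (maximalIdeal L) hle (σ n _) = σ m _
      rw [← hσc hle]
      exact congrArg (σ m) (hev B hle x)
  let fG : ∀ n, EGA4.Cpl L →+* B ⧸ maximalIdeal B ^ n := fun n =>
    (σ n).symm.toRingHom.comp (AdicCompletion.evalₐ (maximalIdeal L) n).toRingHom
  have hfG : ∀ {m n : ℕ} (hle : m ≤ n), (Ideal.Quotient.factorPow (maximalIdeal B) hle).comp (fG n) = fG m :=
    fun {m n} hle => RingHom.ext fun x => by
      show Ideal.Quotient.factorPow (maximalIdeal B) hle ((σ n).symm _) = (σ m).symm _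
      rw [RingEquiv.eq_symm_apply, hσc hle, RingEquiv.apply_symm_apply]
      exact hev L hle x
  let F := AdicCompletion.liftRingHom (maximalIdeal L) fF hfF
  let G := AdicCompletion.liftRingHom (maximalIdeal B) fG hfG
  have hF : ∀ n x, AdicCompletion.evalₐ (maximalIdeal L) n (F x) = σ n (AdicCompletion.evalₐ (maximalIdeal B) n x) :=
    fun n x => AdicCompletion.evalₐ_liftRingHom _ _ hfF n x
  have hG : ∀ n x, AdicCompletion.evalₐ (maximalIdeal B) n (G x) = (σ n).symm (AdicCompletion.evalₐ (maximalIdeal L) n x) :=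
    fun n x => AdicCompletion.evalₐ_liftRingHom _ _ hfG n x
  exact ⟨RingEquiv.ofRingHom F G
    (RingHom.ext fun x => AdicCompletion.ext_evalₐ fun n => by
      rw [RingHom.comp_apply, hF, hG, RingEquiv.apply_symm_apply]; rfl)
    (RingHom.ext fun x => AdicCompletion.ext_evalₐ fun n => by
      rw [RingHom.comp_apply, hG, hF, RingEquiv.symm_apply_apply]; rfl)⟩

theorem nonempty_cpl_equiv_localization {B S : Type u} [CommRing B] [IsLocalRing B] [CommRing S]
    (ι : B →+* S) (n' : Ideal S) [n'.IsPrime] (hn' : n' = (maximalIdeal B).map ι)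
    (hdec : ∀ k (z : S), ∃ b, z - ι b ∈ (maximalIdeal B ^ k).map ι)
    (Φ : ∀ k, S →+* B ⧸ maximalIdeal B ^ k) (hΦ : ∀ k b, Φ k (ι b) = Ideal.Quotient.mk _ b) :
    Nonempty (EGA4.Cpl B ≃+* EGA4.Cpl (Localization.AtPrime n')) := by
  let L := Localization.AtPrime n'
  let h : B →+* L := (algebraMap S L).comp ι
  have hmL : ∀ k, maximalIdeal L ^ k = (maximalIdeal B ^ k).map h := fun k => by
    rw [← Localization.AtPrime.map_eq_maximalIdeal, ← Ideal.map_map, Ideal.map_pow (f := ι), Ideal.map_pow, ← hn']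
  have hmap : ∀ k, maximalIdeal B ^ k ≤ (maximalIdeal L ^ k).comap h := fun k =>
    Ideal.map_le_iff_le_comap.1 (hmL k).ge
  refine nonempty_cpl_equiv_of_levelwise B L h hmap fun k => ⟨?_, ?_⟩
  · rw [injective_iff_map_eq_zero]
    intro x hx
    obtain ⟨b, rfl⟩ := Ideal.Quotient.mk_surjective x
    rw [Ideal.quotientMap_mk, Ideal.Quotient.eq_zero_iff_mem, hmL, ← Ideal.map_map] at hx
    rw [RingHom.comp_apply, IsLocalization.algebraMap_mem_map_algebraMap_iff n'.primeCompl L] at hx
    obtain ⟨t, ht, htb⟩ := hx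
    have h0 : Φ k (t * ι b) = 0 := by
      have : (maximalIdeal B ^ k).map ι ≤ RingHom.ker (Φ k) := Ideal.map_le_iff_le_comap.2 fun r hr => by
        rw [Ideal.mem_comap, RingHom.mem_ker, hΦ, Ideal.Quotient.eq_zero_iff_mem.2 hr]
      exact RingHom.mem_ker.1 (this htb)
    obtain ⟨c, hc⟩ := hdec k t
    rcases Nat.eq_zero_or_pos k with rfl | hk
    · rw [Ideal.Quotient.eq_zero_iff_mem, pow_zero, Ideal.one_eq_top]; trivial
    have hcu : IsUnit c := by
      by_contra hcn
      refine ht ?_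
      have h2 := Ideal.map_mono (f := ι) (Ideal.pow_le_self hk.ne') hc
      rw [← hn'] at h2
      have : ι c ∈ n' := Ideal.map_le_iff_le_comap.1 (hn'.ge) (hcn : c ∈ maximalIdeal B)
      simpa using add_mem h2 this
    have hct : Φ k t = Ideal.Quotient.mk _ c := by
      have : (maximalIdeal B ^ k).map ι ≤ RingHom.ker (Φ k) := Ideal.map_le_iff_le_comap.2 fun r hr => by
        rw [Ideal.mem_comap, RingHom.mem_ker, hΦ, Ideal.Quotient.eq_zero_iff_mem.2 hr]
      have := RingHom.mem_ker.1 (this hc)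
      rw [map_sub, hΦ, sub_eq_zero] at this
      exact this
    rw [map_mul, hct, hΦ] at h0
    exact (IsUnit.mul_right_eq_zero (hcu.map (Ideal.Quotient.mk _))).1 h0
  · intro y
    obtain ⟨y, rfl⟩ := Ideal.Quotient.mk_surjective y
    obtain ⟨⟨z, s⟩, rfl⟩ := IsLocalization.mk'_surjective n'.primeCompl y
    obtain ⟨b, hb⟩ := hdec k z
    obtain ⟨c, hc⟩ := hdec k (s : S)
    have hmem : ∀ {w : S}, w ∈ (maximalIdeal B ^ k).map ι → algebraMap S L w ∈ maximalIdeal L ^ k := fun hw => by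
      rw [hmL, ← Ideal.map_map]; exact Ideal.mem_map_of_mem _ hw
    rcases Nat.eq_zero_or_pos k with rfl | hk
    · exact ⟨0, by rw [map_zero]; symm; rw [Ideal.Quotient.eq_zero_iff_mem, pow_zero, Ideal.one_eq_top]; trivial⟩
    have hcu : IsUnit c := by
      by_contra hcn
      refine s.2 ?_
      have h2 := Ideal.map_mono (f := ι) (Ideal.pow_le_self hk.ne') hc
      rw [← hn'] at h2
      have : ι c ∈ n' := Ideal.map_le_iff_le_comap.1 (hn'.ge) (hcn : c ∈ maximalIdeal B)
      simpa using add_mem h2 this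
    refine ⟨Ideal.Quotient.mk _ (↑hcu.unit⁻¹ * b), ?_⟩
    rw [Ideal.quotientMap_mk, Ideal.Quotient.eq]
    have hu := IsLocalization.map_units L s
    dsimp only
    rw [← Ideal.mul_unit_mem_iff_mem _ hu]
    have e6 := IsLocalization.mk'_spec L z s
    suffices hs6 : h (↑hcu.unit⁻¹ * b) * algebraMap S L (s : S) -
        algebraMap S L z ∈ maximalIdeal L ^ k by
      convert hs6 using 1
      linear_combination -e6
    have h5 : h (↑hcu.unit⁻¹ * b) * algebraMap S L (s : S) - algebraMap S L z =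
        h (↑hcu.unit⁻¹ * b) * algebraMap S L ((s : S) - ι c) - algebraMap S L (z - ι b) := by
      have : h (↑hcu.unit⁻¹ * b) * algebraMap S L (ι c) = algebraMap S L (ι b) := by
        show h _ * h c = h b
        rw [← map_mul, mul_assoc, mul_comm b c, ← mul_assoc, IsUnit.val_inv_mul, one_mul]
      rw [map_sub, map_sub, mul_sub, this]; ring
    rw [h5]
    exact sub_mem (Ideal.mul_mem_left _ _ (hmem hc)) (hmem hb)


theorem nonempty_cpl_baseChange (A B : Type u) [CommRing A] [CommRing B] [IsNoetherianRing A]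
    [IsLocalRing A] [IsLocalRing B] [Algebra A B] [IsLocalHom (algebraMap A B)]
    (n' : Ideal (B ⊗[A] EGA4.Cpl A)) [n'.IsPrime]
    (h1 : n'.comap (algebraMap B (B ⊗[A] EGA4.Cpl A)) = maximalIdeal B) :
    Nonempty (EGA4.Cpl B ≃+* EGA4.Cpl (Localization.AtPrime n')) := by
  let ι := algebraMap B (B ⊗[A] EGA4.Cpl A)
  have hlev : ∀ k, maximalIdeal A ^ k ≤ (maximalIdeal B ^ k).comap (algebraMap A B) := fun k => by
    rw [← Ideal.map_le_iff_le_comap, Ideal.map_pow]
    exact Ideal.pow_right_mono (((local_hom_TFAE (algebraMap A B)).out 0 2 rfl rfl).1 inferInstance) k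
  let φ : ∀ k, EGA4.Cpl A →ₐ[A] B ⧸ maximalIdeal B ^ k := fun k =>
    (Ideal.quotientMapₐ (maximalIdeal B ^ k) (Algebra.ofId A B) (hlev k)).comp
      (AdicCompletion.evalₐ (maximalIdeal A) k)
  let Ψ : ∀ k, (B ⊗[A] EGA4.Cpl A) →ₐ[B] B ⧸ maximalIdeal B ^ k := fun k =>
    Algebra.TensorProduct.lift (Algebra.ofId B (B ⧸ maximalIdeal B ^ k)) (φ k) fun _ _ => Commute.all _ _
  have hΨ : ∀ k b, Ψ k (ι b) = Ideal.Quotient.mk _ b := fun k b => (Ψ k).commutes b
  have hdec : ∀ k (z : (B ⊗[A] EGA4.Cpl A)), ∃ b, z - ι b ∈ (maximalIdeal B ^ k).map ι := by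
    intro k z
    induction z with
    | zero => exact ⟨0, by simp⟩
    | add x y hx hy =>
      obtain ⟨b, hb⟩ := hx
      obtain ⟨b', hb'⟩ := hy
      exact ⟨b + b', by rw [map_add, add_sub_add_comm]; exact add_mem hb hb'⟩
    | tmul b x =>
      obtain ⟨a, ha⟩ := CplLocH7.exists_sub_mem_pow k x
      refine ⟨algebraMap A B a * b, ?_⟩
      rw [CplLocH7.maximalIdeal_cpl, ← Ideal.map_pow] at ha
      have h2 : (1 : B) ⊗ₜ[A] (x - algebraMap A (EGA4.Cpl A) a) ∈ (maximalIdeal B ^ k).map ι := by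
        have h3 : (maximalIdeal A ^ k).map (algebraMap A (EGA4.Cpl A)) ≤
            ((maximalIdeal B ^ k).map ι).comap
              (Algebra.TensorProduct.includeRight : EGA4.Cpl A →ₐ[A] (B ⊗[A] EGA4.Cpl A)).toRingHom := by
          refine Ideal.map_le_iff_le_comap.2 fun r hr => ?_
          rw [Ideal.mem_comap, Ideal.mem_comap, AlgHom.toRingHom_eq_coe, RingHom.coe_coe, AlgHom.commutes,
            IsScalarTower.algebraMap_apply A B (B ⊗[A] EGA4.Cpl A)]
          exact Ideal.mem_map_of_mem _ (hlev k hr)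
        exact h3 ha
      have h4 : b ⊗ₜ[A] x - ι (algebraMap A B a * b) = ι b * ((1 : B) ⊗ₜ[A] (x - algebraMap A (EGA4.Cpl A) a)) := by
        rw [show ι b = b ⊗ₜ[A] (1 : EGA4.Cpl A) from rfl,
          show ι (algebraMap A B a * b) = (algebraMap A B a * b) ⊗ₜ[A] (1 : EGA4.Cpl A) from rfl,
          Algebra.TensorProduct.tmul_mul_tmul, mul_one, one_mul, TensorProduct.tmul_sub,
          Algebra.algebraMap_eq_smul_one (A := EGA4.Cpl A), TensorProduct.tmul_smul,
          TensorProduct.smul_tmul', Algebra.smul_def]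
      rw [h4]
      exact Ideal.mul_mem_left _ _ h2
  have hker : ∀ k z, Ψ k z = 0 → z ∈ (maximalIdeal B ^ k).map ι := fun k z hz => by
    obtain ⟨b, hb⟩ := hdec k z
    have h0 : Ψ k (z - ι b) = 0 := by
      have : (maximalIdeal B ^ k).map ι ≤ RingHom.ker (Ψ k) := Ideal.map_le_iff_le_comap.2 fun r hr => by
        rw [Ideal.mem_comap, RingHom.mem_ker, hΨ, Ideal.Quotient.eq_zero_iff_mem.2 hr]
      exact RingHom.mem_ker.1 (this hb)
    rw [map_sub, hz, hΨ, zero_sub, neg_eq_zero, Ideal.Quotient.eq_zero_iff_mem] at h0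
    simpa using add_mem hb (Ideal.mem_map_of_mem ι h0)
  have hn' : n' = (maximalIdeal B).map ι := by
    refine le_antisymm (fun z hz => ?_) (Ideal.map_le_iff_le_comap.2 h1.ge)
    obtain ⟨b, hb⟩ := hdec 1 z
    rw [pow_one] at hb
    have hbn : ι b ∈ n' := by
      have := sub_mem hz (Ideal.map_le_iff_le_comap.2 h1.ge hb)
      simpa using this
    have : b ∈ maximalIdeal B := h1.le hbn
    simpa using add_mem hb (Ideal.mem_map_of_mem ι this)
  exact nonempty_cpl_equiv_localization ι n' hn' hdec (fun k => (Ψ k).toRingHom) hΨ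

end Groth.Agent.SHens6
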