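import Groth.Agent.Lib.SHens6.NormFinite
import Groth.Prelude.Def_EssEt
import Mathlib

/-! # Local subrings with semilocal normalization in an essentially étale algebra -/

set_option autoImplicit false
universe u

open IsLocalRing

namespace Groth.Agent.SHens6

set_option maxHeartbeats 4000000 in
set_option synthInstance.maxHeartbeats 200000 in
/-- If the normalization of `D` is semilocal and semilocally dominated by that of `E`, then `D` is
essentially of finite type and its normalization is finite over it. -/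
theorem essFiniteType_of_normalization (A E : Type u) [CommRing A] [IsLocalRing A] [IsReduced A]
    (hA : EGA4.IsExcellent A) [CommRing E] [IsLocalRing E] [Algebra A E] [IsLocalHom (algebraMap A E)]
    (hE : EGA4loc.IsEssentiallyEtale A E)
    (D : Subalgebra A E) [IsLocalRing D] [IsLocalHom (algebraMap D E)]
    (D' : Subalgebra A (FractionRing E))
    (hD' : ∀ x : (FractionRing E), x ∈ D' ↔ (IsIntegral D x ∧
      ∃ a ∈ nonZeroDivisors A, ∃ d ∈ D, algebraMap A (FractionRing E) a * x = algebraMap E (FractionRing E) d))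
    (hle : D' ≤ ((integralClosure E (FractionRing E)).restrictScalars A))
    (hfin : {N : Ideal D' | N.IsMaximal}.Finite)
    (hmax : ∀ M : Ideal ((integralClosure E (FractionRing E)).restrictScalars A), M.IsMaximal → (M.comap (Subalgebra.inclusion hle)).IsMaximal)
    (hsurj : ∀ N : Ideal D', N.IsMaximal →
      ∃ M : Ideal ((integralClosure E (FractionRing E)).restrictScalars A), M.IsMaximal ∧ M.comap (Subalgebra.inclusion hle) = N) :
    Algebra.EssFiniteType A D ∧
      ∃ S : Finset (FractionRing E), (S : Set (FractionRing E)) ⊆ D' ∧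
        ∀ x ∈ D', x ∈ Submodule.span D (S : Set (FractionRing E)) := by
  classical
  haveI := hA.1
  have hmin := minimalPrimes.finite_of_isNoetherianRing A
  let F := FractionRing E
  have hau : ∀ a ∈ nonZeroDivisors A, IsUnit (algebraMap A F a) :=
    isUnit_algebraMap_fractionRing A E hmin hE
  have hEF : Function.Injective (algebraMap E F) := IsFractionRing.injective E F
  -- `T = D[(nzd A)⁻¹]`
  let T : Subalgebra A F :=
    { carrier := {x | ∃ a ∈ nonZeroDivisors A, ∃ d ∈ D, algebraMap A F a * x = algebraMap E F d}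
      mul_mem' := by
        rintro x y ⟨a, ha, d, hd, h⟩ ⟨a', ha', d', hd', h'⟩
        exact ⟨a * a', mul_mem ha ha', d * d', mul_mem hd hd', by rw [map_mul, map_mul, ← h, ← h']; ring⟩
      one_mem' := ⟨1, one_mem _, 1, one_mem _, by simp⟩
      add_mem' := by
        rintro x y ⟨a, ha, d, hd, h⟩ ⟨a', ha', d', hd', h'⟩
        exact ⟨a * a', mul_mem ha ha', algebraMap A E a' * d + algebraMap A E a * d',
          add_mem (mul_mem (D.algebraMap_mem a') hd) (mul_mem (D.algebraMap_mem a) hd'), by
            rw [map_mul, map_add, map_mul, map_mul, ← h, ← h', ← IsScalarTower.algebraMap_apply,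
              ← IsScalarTower.algebraMap_apply]; ring⟩
      zero_mem' := ⟨1, one_mem _, 0, zero_mem _, by simp⟩
      algebraMap_mem' := fun a => ⟨1, one_mem _, algebraMap A E a, D.algebraMap_mem a, by
        rw [map_one, one_mul, ← IsScalarTower.algebraMap_apply]⟩ }
  have hT : ∀ s ∈ nonZeroDivisors A, ∃ y ∈ T, algebraMap A F s * y = 1 := fun s hs => by
    obtain ⟨y, hy⟩ := (hau s hs).exists_right_inv
    exact ⟨y, ⟨s, hs, 1, one_mem _, by rw [map_one]; exact hy⟩, hy⟩
  have hDT : ∀ d : D, algebraMap D F d ∈ T := fun d => ⟨1, one_mem _, d, d.2, by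
    rw [map_one, one_mul]; rfl⟩
  obtain ⟨f, hf, hflat⟩ := flat_integralClosure A E hmin hE T hT
  let C := integralClosure A T
  haveI : Module.Finite A (integralClosure A F) := finite_integralClosure_fractionRing A E hA hE
  haveI : Module.Finite A C := by
    let ι : C →ₗ[A] integralClosure A F :=
      { toFun := fun c => ⟨((c : T) : F), (c.2 : IsIntegral A (c : T)).map T.val⟩
        map_add' := fun _ _ => rfl
        map_smul' := fun _ _ => rfl }
    exact Module.Finite.of_injective ι fun x y h => by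
      have h' := congrArg Subtype.val h
      exact Subtype.ext (Subtype.ext h')
  have hCD : ∀ c : C, ((c : T) : F) ∈ D' := fun c =>
    (hD' _).2 ⟨((c.2 : IsIntegral A (c : T)).map T.val).tower_top, (c : T).2⟩
  let g : C →ₐ[A] D' := (T.val.comp C.val).codRestrict D' hCD
  let good : Set (Ideal C) := (fun N => N.comap g.toRingHom) '' {N : Ideal D' | N.IsMaximal}
  have hgood : good.Finite := hfin.image _
  have hgp : ∀ n ∈ hgood.toFinset, n ≠ ⊥ → n ≠ ⊥ → ((id : Ideal C → Ideal C) n).IsPrime := by
    intro n hn _ _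
    obtain ⟨N, hN, rfl⟩ := hgood.mem_toFinset.1 hn
    haveI := hN.isPrime
    exact (Ideal.IsPrime.comap _ : (N.comap g.toRingHom).IsPrime)
  let U : Set C := {c | IsUnit (g c)}
  have hU : ∀ c : C, (∀ n ∈ good, c ∉ n) → c ∈ U := fun c hc => by
    by_contra hcu
    obtain ⟨N, hN, hcN⟩ := exists_max_ideal_of_mem_nonunits hcu
    exact hc _ ⟨N, hN, rfl⟩ hcN
  -- every element of `D'` is a fraction with denominator in `U`
  have hfrac : ∀ x ∈ D', ∃ c : C, c ∈ U ∧ ∃ c' : C, ((c : T) : F) * x = ((c' : T) : F) := by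
    intro x hx
    obtain ⟨-, a₁, ha₁, d, hd, hxd⟩ := (hD' x).1 hx
    have hxT : x ∈ T := ⟨a₁, ha₁, d, hd, hxd⟩
    obtain ⟨hloc, t, ht⟩ := isLocalization_fractionRing_and_fg A E hmin hE
    have hcl : ∃ a ∈ nonZeroDivisors A, IsIntegral A (algebraMap A F a * x) := by
      let K := FractionRing A
      letI : Algebra K F := (IsLocalization.lift (fun a : nonZeroDivisors A => hau a a.2) : K →+* F).toAlgebra
      haveI : IsScalarTower A K F := IsScalarTower.of_algebraMap_eq fun a => (IsLocalization.lift_eq _ a).symm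
      haveI : Module.Finite K F := ⟨⟨t, by
        refine Submodule.eq_top_iff'.2 fun z => ?_
        obtain ⟨a, ha, haz⟩ := ht z
        have h1 : algebraMap A K a • z ∈ Submodule.span K (t : Set F) := by
          rw [algebraMap_smul, Algebra.smul_def]
          exact Submodule.span_le_restrictScalars A K (t : Set F) haz
        obtain ⟨u, hu⟩ := IsLocalization.map_units K (⟨a, ha⟩ : nonZeroDivisors A)
        have h2 := Submodule.smul_mem _ (↑u⁻¹ : K) h1
        rwa [smul_smul, ← hu, Units.inv_mul, one_smul] at h2⟩⟩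
      obtain ⟨⟨a, ha⟩, h⟩ := (IsIntegral.of_finite K x).exists_multiple_integral_of_isLocalization
        (nonZeroDivisors A) x
      refine ⟨a, ha, ?_⟩
      rw [← Algebra.smul_def]
      exact h
    obtain ⟨a, ha, hint⟩ := hcl
    have hxa : IsIntegral A (algebraMap A T a * ⟨x, hxT⟩) := by
      obtain ⟨p, hp, hp0⟩ := hint
      refine ⟨p, hp, Subtype.val_injective ?_⟩
      show T.val (Polynomial.aeval (algebraMap A T a * ⟨x, hxT⟩) p) = _
      rw [← Polynomial.aeval_algHom_apply]
      exact hp0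
    let c₀ : C := ⟨_, hxa⟩
    let I : Ideal C :=
      { carrier := {c | ∃ c' : C, ((c : T) : F) * x = ((c' : T) : F)}
        add_mem' := by
          rintro u v ⟨u', hu⟩ ⟨v', hv⟩
          exact ⟨u' + v', by
            show (((u : T) : F) + ((v : T) : F)) * x = ((u' : T) : F) + ((v' : T) : F)
            rw [add_mul, hu, hv]⟩
        zero_mem' := ⟨0, by show (0 : F) * x = 0; rw [zero_mul]⟩
        smul_mem' := by
          rintro r u ⟨u', hu⟩
          exact ⟨r * u', by
            show ((r : T) : F) * ((u : T) : F) * x = ((r : T) : F) * ((u' : T) : F)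
            rw [mul_assoc, hu]⟩ }
    letI : Algebra C (integralClosure E F) := f.toAlgebra
    haveI : Module.Flat C (integralClosure E F) := hflat
    have hxE : x ∈ integralClosure E F := hle hx
    have hrel : ∑ i : Fin 2, ![c₀, -(algebraMap A C a)] i • ![(1 : integralClosure E F), ⟨x, hxE⟩] i = 0 := by
      rw [Fin.sum_univ_two]
      refine Subtype.ext ?_
      show (f c₀ : F) * 1 + (f (-(algebraMap A C a)) : F) * x = 0
      rw [hf, hf]
      show algebraMap A F a * x * 1 + (-(algebraMap A F a)) * x = 0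
      ring
    obtain ⟨k, α, y, hy, hα⟩ := (Module.Flat.iff_forall_isTrivialRelation.1 ‹_›) hrel
    have hαI : ∀ j, α 0 j ∈ I := fun j => by
      refine ⟨α 1 j, ?_⟩
      have h := congrArg (fun c : C => ((c : T) : F)) (hα j)
      simp only [Fin.sum_univ_two, Matrix.cons_val_zero, Matrix.cons_val_one] at h
      change algebraMap A F a * x * ((α 0 j : T) : F) + -(algebraMap A F a) * ((α 1 j : T) : F) = 0 at h
      exact (hau a ha).mul_left_cancel (by linear_combination h)
    have htop : Ideal.map f I = ⊤ := by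
      rw [Ideal.eq_top_iff_one]
      have h := hy 0
      simp only [Matrix.cons_val_zero] at h
      rw [h]
      refine sum_mem fun j _ => ?_
      rw [Algebra.smul_def]
      exact Ideal.mul_mem_right _ _ (Ideal.mem_map_of_mem f (hαI j))
    obtain ⟨c, hcI, hcn⟩ : ∃ c ∈ I, ∀ n ∈ good, c ∉ n := by
      by_contra hne
      push Not at hne
      have hsub : (I : Set C) ⊆ ⋃ n ∈ (↑hgood.toFinset : Set (Ideal C)), ((id n : Ideal C) : Set C) := fun c hc => by
        obtain ⟨n, hn, hcn⟩ := hne c hc
        exact Set.mem_iUnion₂.2 ⟨n, hgood.mem_toFinset.2 hn, hcn⟩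
      obtain ⟨n, hn, hIn⟩ : ∃ i ∈ hgood.toFinset, I ≤ (id : Ideal C → Ideal C) i :=
        (@Ideal.subset_union_prime _ C _ hgood.toFinset id ⊥ ⊥ hgp I).1 hsub
      obtain ⟨N, hN, rfl⟩ := hgood.mem_toFinset.1 hn
      obtain ⟨M, hM, hMN⟩ := hsurj N hN
      refine hM.ne_top (Ideal.eq_top_iff_one _ |>.2 ?_)
      have h1 : (1 : integralClosure E F) ∈ Ideal.map f I := htop ▸ Submodule.mem_top
      have h2 : Ideal.map f I ≤ M := by
        refine Ideal.map_le_iff_le_comap.2 fun c hc => ?_
        have h3 := hIn hc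
        change g c ∈ N at h3
        rw [← hMN] at h3
        show f c ∈ M
        have hfc : f c = Subalgebra.inclusion hle (g c) := Subtype.ext (hf c)
        rw [hfc]
        exact h3
      exact h2 h1
    exact ⟨c, hU c hcn, hcI⟩
  -- finitely many maximal ideals of `C`
  haveI : Finite (MaximalSpectrum C) := Hens.finite_maximalSpectrum (A := A) (B := C)
  cases nonempty_fintype (MaximalSpectrum C)
  have hbad : ∀ n : MaximalSpectrum C, n.asIdeal ∉ good → ∃ u ∈ n.asIdeal, u ∈ U := by
    intro n hn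
    by_contra hne
    push Not at hne
    have hsub : (n.asIdeal : Set C) ⊆ ⋃ m ∈ (↑hgood.toFinset : Set (Ideal C)), ((id m : Ideal C) : Set C) := fun c hc => by
      by_contra hcn
      refine hne c hc (hU c fun m hm hcm => hcn ?_)
      exact Set.mem_iUnion₂.2 ⟨m, hgood.mem_toFinset.2 hm, hcm⟩
    obtain ⟨m, hm, hnm⟩ : ∃ i ∈ hgood.toFinset, n.asIdeal ≤ (id : Ideal C → Ideal C) i :=
        (@Ideal.subset_union_prime _ C _ hgood.toFinset id ⊥ ⊥ hgp n.asIdeal).1 hsub
    obtain ⟨N, hN, rfl⟩ := hgood.mem_toFinset.1 hm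
    haveI := hN.isPrime
    exact hn (n.isMaximal.eq_of_le (Ideal.IsPrime.comap _).ne_top hnm ▸ ⟨N, hN, rfl⟩)
  choose! ub hub hubU using hbad
  let inv : MaximalSpectrum C → F := fun n =>
    if h : ub n ∈ U then ((h.unit⁻¹ : D'ˣ) : D') else 1
  have hinvD : ∀ n, inv n ∈ D' := fun n => by
    by_cases h : ub n ∈ U
    · simp only [inv, dif_pos h]; exact SetLike.coe_mem _
    · simp only [inv, dif_neg h]; exact one_mem _
  have hinv : ∀ n : MaximalSpectrum C, n.asIdeal ∉ good → inv n * ((ub n : T) : F) = 1 := fun n hn => by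
    have h := hubU n hn
    simp only [inv, dif_pos h]
    exact congrArg Subtype.val h.val_inv_mul
  -- generators and their relations
  obtain ⟨gC, hgC⟩ := (inferInstance : Module.Finite A C).fg_top
  let S₀ : Finset F := gC.image (fun c : C => ((c : T) : F)) ∪ Finset.univ.image inv
  have hS₀D : ∀ x ∈ S₀, x ∈ D' := fun x hx => by
    rcases Finset.mem_union.1 hx with h | h
    · obtain ⟨c, -, rfl⟩ := Finset.mem_image.1 h; exact hCD c
    · obtain ⟨n, -, rfl⟩ := Finset.mem_image.1 h; exact hinvD n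
  have hrels : ∀ x ∈ S₀, ∃ p : Polynomial D, p.Monic ∧ Polynomial.aeval x p = 0 := fun x hx =>
    ((hD' x).1 (hS₀D x hx)).1
  choose! rel hrelm hrel0 using hrels
  let σ : Finset D := S₀.biUnion fun x => (rel x).coeffs
  let D₀ : Subalgebra A D := Algebra.adjoin A (σ : Set D)
  let D₁ : Subalgebra A D :=
    { carrier := {d | ∃ t ∈ D₀, IsUnit t ∧ d * t ∈ D₀}
      mul_mem' := by
        rintro x y ⟨t, ht, htu, hx⟩ ⟨t', ht', htu', hy⟩
        exact ⟨t * t', mul_mem ht ht', htu.mul htu', by rw [mul_mul_mul_comm]; exact mul_mem hx hy⟩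
      one_mem' := ⟨1, one_mem _, isUnit_one, by simp⟩
      add_mem' := by
        rintro x y ⟨t, ht, htu, hx⟩ ⟨t', ht', htu', hy⟩
        exact ⟨t * t', mul_mem ht ht', htu.mul htu', by
          rw [show (x + y) * (t * t') = x * t * t' + y * t' * t by ring]
          exact add_mem (mul_mem hx ht') (mul_mem hy ht)⟩
      zero_mem' := ⟨1, one_mem _, isUnit_one, by simp⟩
      algebraMap_mem' := fun a => ⟨1, one_mem _, isUnit_one, by simp⟩ }
  have hD₁unit : ∀ d : D₁, IsUnit (d : D) → IsUnit d := fun d hd => by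
    obtain ⟨v, hv⟩ := hd.exists_right_inv
    obtain ⟨t, ht, htu, hdt⟩ := d.2
    have hv₁ : v ∈ D₁ := ⟨(d : D) * t, hdt, hd.mul htu, by
      rw [show v * ((d : D) * t) = (d : D) * v * t by ring, hv, one_mul]; exact ht⟩
    exact IsUnit.of_mul_eq_one ⟨v, hv₁⟩ (Subtype.ext hv)
  haveI : IsLocalHom (algebraMap D₁ D) := ⟨hD₁unit⟩
  haveI : IsLocalRing D₁ := RingHom.domain_isLocalRing (algebraMap D₁ D)
  have hσ : ∀ d ∈ σ, d ∈ D₁ := fun d hd =>
    ⟨1, one_mem _, isUnit_one, by rw [mul_one]; exact Algebra.subset_adjoin hd⟩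
  haveI : Algebra.EssFiniteType A D₁ := by
    refine (Algebra.essFiniteType_iff A D₁).2 ⟨σ.attach.image fun d => ⟨d.1, hσ d.1 d.2⟩, fun s => ?_⟩
    obtain ⟨t, ht, htu, hst⟩ := s.2
    have hlift : ∀ y ∈ D₀, ∃ h : y ∈ D₁, (⟨y, h⟩ : D₁) ∈
        Algebra.adjoin A ((σ.attach.image fun d => (⟨d.1, hσ d.1 d.2⟩ : D₁) : Finset D₁) : Set D₁) := by
      intro y hy
      have hsub : D₀ ≤ (Algebra.adjoin A ((σ.attach.image fun d => (⟨d.1, hσ d.1 d.2⟩ : D₁) :
          Finset D₁) : Set D₁)).map D₁.val := by
        refine Algebra.adjoin_le fun d hd => ?_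
        exact ⟨⟨d, hσ d hd⟩, Algebra.subset_adjoin (Finset.mem_coe.2 (Finset.mem_image.2
          ⟨⟨d, hd⟩, Finset.mem_attach _ _, rfl⟩)), rfl⟩
      obtain ⟨⟨z, hz⟩, hzA, rfl⟩ := hsub hy
      exact ⟨hz, hzA⟩
    obtain ⟨ht₁, htA⟩ := hlift t ht
    obtain ⟨h₁, hstA⟩ := hlift _ hst
    exact ⟨⟨t, ht₁⟩, htA, hD₁unit _ htu, hstA⟩
  haveI : IsNoetherianRing D₁ := Algebra.EssFiniteType.isNoetherianRing A D₁
  -- the finite `D₁`-algebra generated by `S₀`
  let B₁ : Subalgebra D₁ F := Algebra.adjoin D₁ (S₀ : Set F)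
  have hB₁int : ∀ x ∈ (S₀ : Set F), IsIntegral D₁ x := fun x hx => by
    have hx' : x ∈ S₀ := hx
    have hl : rel x ∈ Polynomial.lifts (algebraMap D₁ D) := by
      rw [Polynomial.lifts_iff_coeff_lifts]
      intro i
      by_cases h0 : (rel x).coeff i = 0
      · exact ⟨0, by rw [map_zero, h0]⟩
      · exact ⟨⟨_, hσ _ (Finset.mem_biUnion.2 ⟨x, hx', Polynomial.coeff_mem_coeffs h0⟩)⟩, rfl⟩
    obtain ⟨p, hp, -, hpm⟩ := Polynomial.lifts_and_natDegree_eq_and_monic hl (hrelm x hx')
    refine ⟨p, hpm, ?_⟩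
    have := hrel0 x hx'
    rw [← hp, Polynomial.aeval_map_algebraMap] at this
    exact this
  haveI hB₁fin : Module.Finite D₁ B₁ :=
    Module.Finite.iff_fg.mpr (fg_adjoin_of_finite S₀.finite_toSet hB₁int)
  haveI : Algebra.IsIntegral D₁ B₁ := Algebra.IsIntegral.of_finite D₁ B₁
  have hCB : ∀ c : C, ((c : T) : F) ∈ B₁ := fun c => by
    have hc : c ∈ Submodule.span A (gC : Set C) := hgC ▸ Submodule.mem_top
    induction hc using Submodule.span_induction with
    | mem y hy => exact Algebra.subset_adjoin (Finset.mem_coe.2 (Finset.mem_union_left _ (Finset.mem_image_of_mem _ hy)))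
    | zero => exact zero_mem _
    | add u v _ _ hu hv => exact add_mem hu hv
    | smul r u _ hu =>
      show ((r • u : C) : T).1 ∈ B₁
      have : ((r • u : C) : T).1 = algebraMap A F r * ((u : T) : F) := Algebra.smul_def r ((u : T) : F)
      rw [this, IsScalarTower.algebraMap_apply A D₁ F]
      exact mul_mem (B₁.algebraMap_mem _) hu
  have hunitB : ∀ c : C, c ∈ U → IsUnit (⟨_, hCB c⟩ : B₁) := fun c hc => by
    by_contra hnu
    obtain ⟨N, hN, hcN⟩ := exists_max_ideal_of_mem_nonunits hnu
    haveI := hN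
    let h' : C →ₐ[A] B₁ :=
      { toFun := fun c => ⟨_, hCB c⟩
        map_one' := rfl
        map_mul' := fun _ _ => rfl
        map_zero' := rfl
        map_add' := fun _ _ => rfl
        commutes' := fun a => Subtype.ext rfl }
    have hP : (N.comap (algebraMap D₁ B₁)) = maximalIdeal D₁ :=
      eq_maximalIdeal (by exact Ideal.isMaximal_comap_of_isIntegral_of_isMaximal (R := D₁) (S := B₁) N)
    have hPA : (N.comap h'.toRingHom).comap (algebraMap A C) = maximalIdeal A := by
      refine (maximalIdeal.isMaximal A).eq_of_le ((Ideal.IsPrime.comap _).comap _ |> fun h => h.ne_top) ?_ |>.symm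
      intro a ha
      show h' (algebraMap A C a) ∈ N
      rw [h'.commutes, IsScalarTower.algebraMap_apply A D₁ B₁]
      show algebraMap A D₁ a ∈ N.comap (algebraMap D₁ B₁)
      rw [hP]
      intro hu
      exact ha (isUnit_of_map_unit (algebraMap A E) a (by
        have := (hu.map (algebraMap D₁ D)).map (algebraMap D E)
        rwa [← IsScalarTower.algebraMap_apply, ← IsScalarTower.algebraMap_apply] at this))
    haveI : Algebra.IsIntegral A C := Algebra.IsIntegral.of_finite A C
    haveI : (N.comap h'.toRingHom).IsPrime := Ideal.IsPrime.comap _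
    have hnmax : (N.comap h'.toRingHom).IsMaximal := by
      have hm := maximalIdeal.isMaximal A
      rw [← hPA] at hm
      exact Ideal.isMaximal_of_isIntegral_of_isMaximal_comap (R := A) (S := C) _ hm
    let n : MaximalSpectrum C := ⟨_, hnmax⟩
    have hn : n.asIdeal ∉ good := by
      rintro ⟨N', hN', hN'eq⟩
      have hcN' : c ∈ N'.comap g.toRingHom := by
        change N'.comap g.toRingHom = n.asIdeal at hN'eq
        rw [hN'eq]; exact hcN
      exact hN'.ne_top (Ideal.eq_top_of_isUnit_mem _ hcN' hc)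
    have h1 : (⟨_, hCB (ub n)⟩ : B₁) ∈ N := hub n hn
    have h2 : inv n ∈ B₁ := Algebra.subset_adjoin (Finset.mem_coe.2
      (Finset.mem_union_right _ (Finset.mem_image_of_mem _ (Finset.mem_univ n))))
    refine hN.ne_top ((Ideal.eq_top_iff_one _).2 ?_)
    rw [show (1 : B₁) = ⟨_, h2⟩ * ⟨_, hCB (ub n)⟩ from Subtype.ext (hinv n hn).symm]
    exact Ideal.mul_mem_left _ _ h1
  have hD'B : ∀ x ∈ D', x ∈ B₁ := fun x hx => by
    obtain ⟨c, hc, c', hcc'⟩ := hfrac x hx
    obtain ⟨v, hv⟩ := (hunitB c hc).exists_right_inv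
    have hv' : ((c : T) : F) * (v : F) = 1 := congrArg Subtype.val hv
    have : x = (v : F) * ((c' : T) : F) := by
      rw [← hcc']; linear_combination (-x) * hv'
    rw [this]
    exact mul_mem v.2 (hCB c')
  constructor
  · let ι : D →ₗ[D₁] B₁ :=
      { toFun := fun d => ⟨algebraMap D F d, hD'B _ ((hD' _).2 ⟨isIntegral_algebraMap, hDT d⟩)⟩
        map_add' := fun x y => Subtype.ext (map_add _ _ _)
        map_smul' := fun r x => Subtype.ext (by
          show algebraMap D F (r • x) = r • algebraMap D F x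
          rw [Algebra.smul_def, Algebra.smul_def, map_mul, ← IsScalarTower.algebraMap_apply]) }
    haveI : IsNoetherian D₁ B₁ := isNoetherian_of_isNoetherianRing_of_finite D₁ B₁
    haveI : Module.Finite D₁ D := Module.Finite.of_injective ι fun x y h => Subtype.ext (hEF (congrArg Subtype.val h))
    exact Algebra.EssFiniteType.comp A D₁ D
  · obtain ⟨gB, hgB⟩ := hB₁fin.fg_top
    refine ⟨gB.image Subtype.val, fun x hx => ?_, fun x hx => ?_⟩
    · obtain ⟨b, -, rfl⟩ := Finset.mem_image.1 (Finset.mem_coe.1 hx)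
      let D'' : Subalgebra D₁ F :=
        { D'.toSubsemiring with
          algebraMap_mem' := fun d => (hD' _).2
            ⟨(isIntegral_algebraMap : IsIntegral D (algebraMap D F (d : D))), hDT d⟩ }
      have hle' : B₁ ≤ D'' := Algebra.adjoin_le fun y hy => hS₀D y hy
      exact hle' b.2
    · have h1 : (⟨x, hD'B x hx⟩ : B₁) ∈ Submodule.span D₁ (gB : Set B₁) := hgB ▸ Submodule.mem_top
      have h2 := Submodule.mem_map_of_mem (f := B₁.val.toLinearMap) h1
      rw [Submodule.map_span] at h2
      rw [Finset.coe_image]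
      exact Submodule.span_le_restrictScalars D₁ D _ h2

end Groth.Agent.SHens6
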