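import Groth.Agent.Lib.SHens6.NormFlat
import Mathlib

/-! # Intermediate normalizations are localizations of integral closures -/

set_option autoImplicit false
universe u

open IsLocalRing

namespace Groth.Agent.SHens6

set_option maxHeartbeats 2000000 in
set_option synthInstance.maxHeartbeats 200000 in
/-- A semilocal intermediate ring between the integral closure of `A` in `T` and the normalization of `E`,
all of whose maximal ideals come from the latter, makes the latter flat over it. -/
theorem flat_normalization (A E : Type u) [CommRing A] [IsLocalRing A] [IsReduced A]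
    (hmin : (minimalPrimes A).Finite) [CommRing E] [IsLocalRing E] [Algebra A E]
    (hE : EGA4loc.IsEssentiallyEtale A E) (T : Subalgebra A (FractionRing E))
    (hT : ∀ s ∈ nonZeroDivisors A, ∃ y ∈ T, algebraMap A (FractionRing E) s * y = 1)
    (R : Subalgebra A (FractionRing E)) (hC : ∀ x ∈ T, IsIntegral A x → x ∈ R) (hRT : R ≤ T)
    (hle : R ≤ (integralClosure E (FractionRing E)).restrictScalars A)
    (hfin : {N : Ideal R | N.IsMaximal}.Finite)
    (hsurj : ∀ N : Ideal R, N.IsMaximal →
      ∃ M : Ideal ((integralClosure E (FractionRing E)).restrictScalars A), M.IsMaximal ∧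
        M.comap (Subalgebra.inclusion hle) = N) :
    (Subalgebra.inclusion hle).toRingHom.Flat := by
  classical
  let F := FractionRing E
  have hau : ∀ a ∈ nonZeroDivisors A, IsUnit (algebraMap A F a) :=
    isUnit_algebraMap_fractionRing A E hmin hE
  obtain ⟨f, hf, hflat⟩ := flat_integralClosure A E hmin hE T hT
  let C := integralClosure A T
  let g : C →ₐ[A] R := (T.val.comp C.val).codRestrict R fun c => hC _ (c : T).2 ((c.2 : IsIntegral A (c : T)).map T.val)
  let good : Set (Ideal C) := (fun N => N.comap g.toRingHom) '' {N : Ideal R | N.IsMaximal}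
  have hgood : good.Finite := hfin.image _
  have hgp : ∀ n ∈ hgood.toFinset, n ≠ ⊥ → n ≠ ⊥ → ((id : Ideal C → Ideal C) n).IsPrime := by
    intro n hn _ _
    obtain ⟨N, hN, rfl⟩ := hgood.mem_toFinset.1 hn
    haveI := hN.isPrime
    exact (Ideal.IsPrime.comap _ : (N.comap g.toRingHom).IsPrime)
  letI : Algebra C (integralClosure E F) := f.toAlgebra
  haveI : Module.Flat C (integralClosure E F) := hflat
  obtain ⟨hloc, t, ht⟩ := isLocalization_fractionRing_and_fg A E hmin hE
  have hfrac : ∀ x : R, ∃ c : C, IsUnit (g c) ∧ ∃ c' : C, g c * x = g c' := by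
    rintro ⟨x, hx⟩
    have hxT : x ∈ T := hRT hx
    have hcl : ∃ a ∈ nonZeroDivisors A, IsIntegral A (algebraMap A F a * x) := by
      let K := FractionRing A
      letI : Algebra K F := (IsLocalization.lift (fun a : nonZeroDivisors A => hau a a.2) : K →+* F).toAlgebra
      haveI : IsScalarTower A K F := IsScalarTower.of_algebraMap_eq fun a => (IsLocalization.lift_eq _ a).symm
      haveI : Module.Finite K F := ⟨⟨t, by
        refine Submodule.eq_top_iff'.2 fun z => ?_
        obtain ⟨a, ha, haz⟩ := ht z
        have h1 : algebraMap A K a • z ∈ Submodule.span K (t : Set F) := by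
          rw [algebraMap_smul, Algebra.smul_def]
          exact Submodule.span_le_restrictScalars A K (t : Set F) haz
        obtain ⟨u, hu⟩ := IsLocalization.map_units K (⟨a, ha⟩ : nonZeroDivisors A)
        have h2 := Submodule.smul_mem _ (↑u⁻¹ : K) h1
        rwa [smul_smul, ← hu, Units.inv_mul, one_smul] at h2⟩⟩
      obtain ⟨⟨a, ha⟩, h⟩ := (IsIntegral.of_finite K x).exists_multiple_integral_of_isLocalization
        (nonZeroDivisors A) x
      refine ⟨a, ha, ?_⟩
      rw [← Algebra.smul_def]
      exact h
    obtain ⟨a, ha, hint⟩ := hcl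
    have hxa : IsIntegral A (algebraMap A T a * ⟨x, hxT⟩) :=
      (isIntegral_algHom_iff T.val Subtype.val_injective).1 hint
    let c₀ : C := ⟨_, hxa⟩
    let I : Ideal C :=
      { carrier := {c | ∃ c' : C, ((c : T) : F) * x = ((c' : T) : F)}
        add_mem' := by
          rintro u v ⟨u', hu⟩ ⟨v', hv⟩
          exact ⟨u' + v', by
            show (((u : T) : F) + ((v : T) : F)) * x = ((u' : T) : F) + ((v' : T) : F)
            rw [add_mul, hu, hv]⟩
        zero_mem' := ⟨0, by show (0 : F) * x = 0; rw [zero_mul]⟩
        smul_mem' := by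
          rintro r u ⟨u', hu⟩
          exact ⟨r * u', by
            show ((r : T) : F) * ((u : T) : F) * x = ((r : T) : F) * ((u' : T) : F)
            rw [mul_assoc, hu]⟩ }
    have hxE : x ∈ integralClosure E F := hle hx
    have hrel : ∑ i : Fin 2, ![c₀, -(algebraMap A C a)] i • ![(1 : integralClosure E F), ⟨x, hxE⟩] i = 0 := by
      rw [Fin.sum_univ_two]
      refine Subtype.ext ?_
      show (f c₀ : F) * 1 + (f (-(algebraMap A C a)) : F) * x = 0
      rw [hf, hf]
      show algebraMap A F a * x * 1 + (-(algebraMap A F a)) * x = 0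
      ring
    obtain ⟨k, α, y, hy, hα⟩ := (Module.Flat.iff_forall_isTrivialRelation.1 ‹_›) hrel
    have hαI : ∀ j, α 0 j ∈ I := fun j => by
      refine ⟨α 1 j, ?_⟩
      have h := congrArg (fun c : C => ((c : T) : F)) (hα j)
      simp only [Fin.sum_univ_two, Matrix.cons_val_zero, Matrix.cons_val_one] at h
      change algebraMap A F a * x * ((α 0 j : T) : F) + -(algebraMap A F a) * ((α 1 j : T) : F) = 0 at h
      exact (hau a ha).mul_left_cancel (by linear_combination h)
    have htop : Ideal.map f I = ⊤ := by
      rw [Ideal.eq_top_iff_one]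
      have h := hy 0
      simp only [Matrix.cons_val_zero] at h
      rw [h]
      refine sum_mem fun j _ => ?_
      rw [Algebra.smul_def]
      exact Ideal.mul_mem_right _ _ (Ideal.mem_map_of_mem f (hαI j))
    obtain ⟨c, hcI, hcn⟩ : ∃ c ∈ I, ∀ n ∈ good, c ∉ n := by
      by_contra hne
      push Not at hne
      have hsub : (I : Set C) ⊆ ⋃ n ∈ (↑hgood.toFinset : Set (Ideal C)), ((id n : Ideal C) : Set C) := fun c hc => by
        obtain ⟨n, hn, hcn⟩ := hne c hc
        exact Set.mem_iUnion₂.2 ⟨n, hgood.mem_toFinset.2 hn, hcn⟩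
      obtain ⟨n, hn, hIn⟩ : ∃ i ∈ hgood.toFinset, I ≤ (id : Ideal C → Ideal C) i :=
        (@Ideal.subset_union_prime _ C _ hgood.toFinset id ⊥ ⊥ hgp I).1 hsub
      obtain ⟨N, hN, rfl⟩ := hgood.mem_toFinset.1 hn
      obtain ⟨M, hM, hMN⟩ := hsurj N hN
      refine hM.ne_top (Ideal.eq_top_iff_one _ |>.2 ?_)
      have h1 : (1 : integralClosure E F) ∈ Ideal.map f I := htop ▸ Submodule.mem_top
      have h2 : Ideal.map f I ≤ M := by
        refine Ideal.map_le_iff_le_comap.2 fun c hc => ?_
        have h3 := hIn hc
        change g c ∈ N at h3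
        rw [← hMN] at h3
        show f c ∈ M
        have hfc : f c = Subalgebra.inclusion hle (g c) := Subtype.ext (hf c)
        rw [hfc]
        exact h3
      exact h2 h1
    refine ⟨c, by_contra fun hu => ?_, ?_⟩
    · obtain ⟨N, hN, hcN⟩ := exists_max_ideal_of_mem_nonunits hu
      exact hcn _ ⟨N, hN, rfl⟩ hcN
    · obtain ⟨c', hc'⟩ := hcI
      exact ⟨c', Subtype.ext hc'⟩
  let U : Submonoid C := (IsUnit.submonoid R).comap g.toRingHom
  letI : Algebra C R := g.toRingHom.toAlgebra
  haveI : IsLocalization U R := by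
    constructor; constructor
    · exact fun u => u.2
    · intro x
      obtain ⟨c, hc, c', hcc'⟩ := hfrac x
      exact ⟨⟨c', ⟨c, hc⟩⟩, by rw [mul_comm]; exact hcc'⟩
    · intro x y h
      exact ⟨1, by rw [show x = y from Subtype.ext (Subtype.ext (congrArg (fun r : R => (r : F)) h))]⟩
  letI : Algebra R (integralClosure E F) := (Subalgebra.inclusion hle).toRingHom.toAlgebra
  haveI : IsScalarTower C R (integralClosure E F) := IsScalarTower.of_algebraMap_eq fun c => Subtype.ext (hf c)
  show Module.Flat R (integralClosure E F)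
  exact (Module.flat_iff_of_isLocalization R U (integralClosure E F)).2 ‹_›

end Groth.Agent.SHens6
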