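import Groth.Agent.Lib.SHens6.FracEssEtale
import Groth.Agent.Lib.Hens.Henselization
import Mathlib

/-! # Finitely generated total fraction rings of subalgebras of a strict henselization -/

set_option autoImplicit false
universe u

open IsLocalRing Polynomial
open scoped TensorProduct

namespace Groth.Agent.SHens6

/-- In an essentially étale algebra, an element regular on the subalgebra it generates divides a
non-zero-divisor of the base inside that subalgebra. -/
theorem exists_mul_aeval_eq (A E : Type u) [CommRing A] [IsLocalRing A] [IsReduced A]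
    (hmin : (minimalPrimes A).Finite) [CommRing E] [Algebra A E] (hE : EGA4loc.IsEssentiallyEtale A E)
    (d : E) (hd : ∀ P : A[X], d * aeval d P = 0 → aeval d P = 0) :
    ∃ (P : A[X]) (a : A), a ∈ nonZeroDivisors A ∧ d * aeval d P = algebraMap A E a := by
  classical
  obtain ⟨hloc, t, ht⟩ := isLocalization_fractionRing_and_fg A E hmin hE
  let K := FractionRing A
  let F := FractionRing E
  have hKu : ∀ a : nonZeroDivisors A, IsUnit (algebraMap A F a) := fun a => by
    rw [IsScalarTower.algebraMap_apply A E F]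
    exact IsLocalization.map_units F
      (⟨_, ⟨a.1, a.2, rfl⟩⟩ : (nonZeroDivisors A).map (algebraMap A E))
  letI : Algebra K F := (IsLocalization.lift hKu : K →+* F).toAlgebra
  haveI : IsScalarTower A K F := IsScalarTower.of_algebraMap_eq fun a => (IsLocalization.lift_eq hKu a).symm
  haveI : IsArtinianRing K := Branch14.isArtinianRing_fractionRing A hmin
  have htop : Submodule.span K (t : Set F) = ⊤ := by
    refine Submodule.eq_top_iff'.2 fun x => ?_
    obtain ⟨a, ha, hax⟩ := ht x
    have h1 : algebraMap A K a • x ∈ Submodule.span K (t : Set F) := by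
      rw [algebraMap_smul, Algebra.smul_def]
      exact Submodule.span_le_restrictScalars A K (t : Set F) hax
    obtain ⟨u, hu⟩ := IsLocalization.map_units K (⟨a, ha⟩ : nonZeroDivisors A)
    have h2 := Submodule.smul_mem _ (↑u⁻¹ : K) h1
    rwa [smul_smul, ← hu, Units.inv_mul, one_smul] at h2
  haveI : Module.Finite K F := ⟨⟨t, htop⟩⟩
  let d' : F := algebraMap E F d
  let R := Algebra.adjoin K ({d'} : Set F)
  haveI : IsNoetherian K F := inferInstance
  haveI : Module.Finite K R := Module.Finite.of_injective R.val.toLinearMap Subtype.val_injective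
  haveI : IsArtinianRing R := IsArtinianRing.of_finite K R
  have hinj : Function.Injective (algebraMap E F) := IsFractionRing.injective E F
  have hclear : ∀ z ∈ R, ∃ (b : A) (q : A[X]), b ∈ nonZeroDivisors A ∧
      algebraMap A F b * z = algebraMap E F (aeval d q) := by
    intro z hz
    obtain ⟨p, hp⟩ := (Algebra.adjoin_singleton_eq_range_aeval K d').le hz
    obtain ⟨⟨b, hb⟩, hbq⟩ := IsLocalization.integerNormalization_map_to_map (nonZeroDivisors A) p
    refine ⟨b, IsLocalization.integerNormalization (nonZeroDivisors A) p, hb, ?_⟩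
    rw [← aeval_algebraMap_apply, ← aeval_map_algebraMap K, hbq, ← algebraMap_smul K b p, map_smul,
      algebraMap_smul, ← Algebra.smul_def]
    congr 1
    exact hp.symm
  let dR : R := ⟨d', Algebra.self_mem_adjoin_singleton K d'⟩
  have hreg : dR ∈ nonZeroDivisors R := by
    rw [mem_nonZeroDivisors_iff_right]
    intro z hz
    obtain ⟨b, q, hb, hq⟩ := hclear z z.2
    have h0 : (z : F) * d' = 0 := congrArg Subtype.val hz
    have h1 : d * aeval d q = 0 := hinj (by
      rw [map_mul, ← hq, map_zero]
      linear_combination algebraMap A F b * h0)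
    rw [hd q h1, map_zero] at hq
    exact Subtype.ext ((hKu ⟨b, hb⟩).mul_right_eq_zero.1 hq)
  obtain ⟨u, hu⟩ := IsArtinianRing.isUnit_iff_mem_nonZeroDivisors.2 hreg
  obtain ⟨b, q, hb, hq⟩ := hclear ((↑u⁻¹ : R) : F) (↑u⁻¹ : R).2
  have h1 : d' * ((↑u⁻¹ : R) : F) = 1 := by
    have := congrArg Subtype.val u.mul_inv
    rw [Subalgebra.coe_mul, hu] at this
    exact this
  refine ⟨q, b, hb, hinj ?_⟩
  rw [map_mul, ← hq, ← IsScalarTower.algebraMap_apply]
  linear_combination algebraMap A F b * h1

theorem injective_and_dvd_of_flat (A G S : Type u) [CommRing A] [CommRing G] [CommRing S] [IsLocalRing G]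
    [IsLocalRing S] [Algebra A G] [Algebra A S] [Algebra.FormallyUnramified A G] [Algebra.EssFiniteType A G]
    [Module.Flat A S] (f : G →ₐ[A] S) (hf : ∀ y, IsUnit (f y) → IsUnit y) :
    Function.Injective f ∧ ∀ a₁ a₂ x, f a₂ * x = f a₁ → ∃ c, a₂ * c = a₁ := by
  letI : Algebra G S := f.toRingHom.toAlgebra
  haveI : IsScalarTower A G S := IsScalarTower.of_algebraMap_eq fun a => (f.commutes a).symm
  haveI : IsLocalHom (algebraMap G S) := ⟨hf⟩
  haveI : Module.Flat G S := Algebra.FormallyUnramified.flat_of_restrictScalars A G S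
  haveI : Module.FaithfullyFlat G S := Module.FaithfullyFlat.of_flat_of_isLocalHom
  refine ⟨(injective_iff_map_eq_zero f).2 fun y hy => ?_, fun a₁ a₂ x hx => ?_⟩
  · have h1 : y ∈ Ideal.comap (algebraMap G S) (Ideal.map (algebraMap G S) (⊥ : Ideal G)) := by
      rw [Ideal.mem_comap, Ideal.map_bot, Ideal.mem_bot]; exact hy
    rwa [Ideal.comap_map_eq_self_of_faithfullyFlat, Ideal.mem_bot] at h1
  · have h1 : a₁ ∈ Ideal.comap (algebraMap G S) (Ideal.map (algebraMap G S) (Ideal.span {a₂})) := by
      rw [Ideal.mem_comap, Ideal.map_span, Set.image_singleton, Ideal.mem_span_singleton']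
      exact ⟨x, by rw [mul_comm]; exact hx⟩
    rw [Ideal.comap_map_eq_self_of_faithfullyFlat, Ideal.mem_span_singleton'] at h1
    obtain ⟨c, hc⟩ := h1
    exact ⟨c, by rw [mul_comm, hc]⟩

theorem exists_fractionRing_lift {A D G : Type u} [CommRing A] [CommRing D] [CommRing G] [Algebra A D]
    [Algebra A G] (g : D →ₐ[A] G) (hg : Function.Injective g) (hu : ∀ d : nonZeroDivisors D, IsUnit (g d)) :
    ∃ ι : FractionRing D →ₐ[A] G, Function.Injective ι := by
  let ι : FractionRing D →ₐ[A] G := IsLocalization.liftAlgHom (M := nonZeroDivisors D) (f := g) hu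
  have hι : ∀ d, ι (algebraMap D (FractionRing D) d) = g d := fun d => IsLocalization.lift_eq hu d
  refine ⟨ι, (injective_iff_map_eq_zero ι).2 fun z hz => ?_⟩
  obtain ⟨⟨d, s⟩, hds⟩ := IsLocalization.surj (nonZeroDivisors D) z
  have h0 : g d = 0 := by rw [← hι, ← hds, map_mul, hz, zero_mul]
  rw [show d = 0 from hg (h0.trans (map_zero g).symm), map_zero] at hds
  exact (IsLocalization.map_units (FractionRing D) s).mul_left_eq_zero.1 hds

/-- Every finite set of a strict henselization lies in an essentially étale subalgebra, in which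
divisibility is that of the henselization. -/
theorem exists_essEtale_ge (A S : Type u) [CommRing A] [IsLocalRing A] [CommRing S] [IsLocalRing S]
    [Algebra A S] [IsLocalHom (algebraMap A S)] [Hensel.IsStrictHenselization A S] (s : Finset S) :
    ∃ E : Subalgebra A S, (s : Set S) ⊆ E ∧ (∃ _ : IsLocalRing E, EGA4loc.IsEssentiallyEtale A E) ∧
      ∀ e₁ ∈ E, ∀ e₂ ∈ E, ∀ x : S, e₂ * x = e₁ → ∃ y ∈ E, e₂ * y = e₁ := by
  classical
  obtain ⟨ε⟩ := Hens.exists_strictHenselization_equiv A S
  obtain ⟨i, hi⟩ := Hens.Hs.exists_of_finset s fun a => ε.symm a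
  let f : i.G →ₐ[A] S := ε.toAlgHom.comp (Hens.Hs.of i)
  haveI := Hens.strictHenselization_flat A S
  obtain ⟨hinj, hdvd⟩ := injective_and_dvd_of_flat A i.G S f fun y hy => by
    have h1 : IsUnit (Hens.Hs.of i y) := by
      have := (show IsUnit (ε (Hens.Hs.of i y)) from hy).map ε.symm
      rwa [AlgEquiv.symm_apply_apply] at this
    rw [Hens.Hs.isUnit_iff, Hens.Hs.res_of, ne_eq, Hens.Nbhd.res_eq_zero_iff] at h1
    exact notMem_maximalIdeal.1 h1
  let e : i.G ≃ₐ[A] f.range := AlgEquiv.ofInjective f hinj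
  refine ⟨f.range, fun x hx => ?_, ?_, ?_⟩
  · obtain ⟨y, hy⟩ := hi x hx
    exact ⟨y, by show ε (Hens.Hs.of i y) = x; rw [hy, AlgEquiv.apply_symm_apply]⟩
  · haveI : IsLocalRing f.range := e.toRingEquiv.isLocalRing
    refine ⟨inferInstance, i.S, inferInstance, inferInstance, i.q, inferInstance, i.etale, ?_, ⟨e.symm⟩⟩
    ext a
    rw [Ideal.mem_comap, Hens.Nbhd.q, RingHom.mem_ker, AlgHom.commutes, Hens.Hs.algebraMap_eq_zero_iff_mem]
  · rintro _ ⟨a₁, rfl⟩ _ ⟨a₂, rfl⟩ x hx
    obtain ⟨c, hc⟩ := hdvd a₁ a₂ x hx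
    exact ⟨f c, ⟨c, rfl⟩, by
      show f a₂ * f c = f a₁
      rw [← map_mul, hc]⟩

set_option maxHeartbeats 1000000 in
theorem fg_fractionRing_iff (A S : Type u) [CommRing A] [IsLocalRing A] [IsReduced A]
    (hmin : (minimalPrimes A).Finite) [CommRing S] [IsLocalRing S] [Algebra A S]
    [IsLocalHom (algebraMap A S)] [Hensel.IsStrictHenselization A S] (D : Subalgebra A S) :
    (∃ t : Finset (FractionRing D), ∀ x : FractionRing D, ∃ a ∈ nonZeroDivisors A,
        algebraMap A (FractionRing D) a * x ∈ Algebra.adjoin A (t : Set (FractionRing D))) ↔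
      ∃ E : Subalgebra A S, D ≤ E ∧ ∃ _ : IsLocalRing E, EGA4loc.IsEssentiallyEtale A E := by
  classical
  haveI := Hens.strictHenselization_flat A S
  have hA : ∀ a ∈ nonZeroDivisors A, ∀ x : S, algebraMap A S a * x = 0 → x = 0 := fun a ha x hx => by
    refine (IsSMulRegular.of_flat (S := S) (IsSMulRegular.of_right_eq_zero_of_smul (M := A)
      fun y hy => (mul_left_mem_nonZeroDivisors_eq_zero_iff ha).1 hy)).right_eq_zero_of_smul ?_
    rwa [Algebra.smul_def, Algebra.algebraMap_self_apply]
  -- a non-zero-divisor of `D` lying in an essentially étale subalgebra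
  have key : ∀ (E : Subalgebra A S) [IsLocalRing E], EGA4loc.IsEssentiallyEtale A E → ∀ d : D, (d : S) ∈ E →
      d ∈ nonZeroDivisors D → ∃ (y : D) (a : A), a ∈ nonZeroDivisors A ∧ d * y = algebraMap A D a := by
    intro E _ hE d hdE hd
    have hev : ∀ P : A[X], ((aeval (⟨d, hdE⟩ : E) P : E) : S) = ((aeval d P : D) : S) := fun P =>
      (aeval_algHom_apply E.val (⟨d, hdE⟩ : E) P).symm.trans (aeval_algHom_apply D.val d P)
    obtain ⟨P, a, ha, hP⟩ := exists_mul_aeval_eq A E hmin hE ⟨d, hdE⟩ fun P hP => by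
      have h1 : d * aeval d P = 0 := Subtype.ext (by
        rw [Subalgebra.coe_mul, ← hev]; exact congrArg Subtype.val hP)
      refine Subtype.ext ?_
      rw [hev, (mul_left_mem_nonZeroDivisors_eq_zero_iff hd).1 h1]
      rfl
    exact ⟨aeval d P, a, ha, Subtype.ext (by
      rw [Subalgebra.coe_mul, ← hev]; exact congrArg Subtype.val hP)⟩
  let F := FractionRing D
  constructor
  · rintro ⟨t, ht⟩
    choose num hnum using fun x : F => IsLocalization.surj (nonZeroDivisors D) x
    obtain ⟨E, hsE, ⟨hEl, hE⟩, hdiv⟩ := exists_essEtale_ge A S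
      (t.image (fun x => ((num x).1 : S)) ∪ t.image (fun x => (((num x).2 : D) : S)))
    refine ⟨E, ?_, hEl, hE⟩
    let Good : F → Prop := fun z => ∃ σ e : D, σ ∈ nonZeroDivisors D ∧ (σ : S) ∈ E ∧ (e : S) ∈ E ∧
      z * algebraMap D F σ = algebraMap D F e
    have hgood : ∀ z ∈ Algebra.adjoin A (t : Set F), Good z := by
      intro z hz
      induction hz using Algebra.adjoin_induction with
      | mem z hz =>
        exact ⟨(num z).2, (num z).1, (num z).2.2,
          hsE (Finset.mem_union_right _ (Finset.mem_image_of_mem _ hz)),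
          hsE (Finset.mem_union_left _ (Finset.mem_image_of_mem _ hz)), hnum z⟩
      | algebraMap r => exact ⟨1, algebraMap A D r, one_mem _, one_mem _, E.algebraMap_mem r,
          by rw [map_one, mul_one, ← IsScalarTower.algebraMap_apply]⟩
      | add u v _ _ hu hv =>
        obtain ⟨σ, e, hσ, hσE, heE, hu⟩ := hu
        obtain ⟨σ', e', hσ', hσE', heE', hv⟩ := hv
        refine ⟨σ * σ', e * σ' + e' * σ, mul_mem hσ hσ', mul_mem hσE hσE',
          add_mem (mul_mem heE hσE') (mul_mem heE' hσE), ?_⟩
        rw [map_mul, map_add, map_mul, map_mul, ← hu, ← hv]; ring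
      | mul u v _ _ hu hv =>
        obtain ⟨σ, e, hσ, hσE, heE, hu⟩ := hu
        obtain ⟨σ', e', hσ', hσE', heE', hv⟩ := hv
        refine ⟨σ * σ', e * e', mul_mem hσ hσ', mul_mem hσE hσE', mul_mem heE heE', ?_⟩
        rw [map_mul, map_mul, ← hu, ← hv]; ring
    intro x hx
    obtain ⟨a, ha, hax⟩ := ht (algebraMap D F ⟨x, hx⟩)
    obtain ⟨σ, e, hσ, hσE, heE, h⟩ := hgood _ hax
    have h1 : algebraMap A D a * ⟨x, hx⟩ * σ = e := IsFractionRing.injective D F (by
      rw [map_mul, map_mul, ← IsScalarTower.algebraMap_apply]; exact h)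
    have h2 : algebraMap A S a * (σ : S) * x = (e : S) := by
      have := congrArg Subtype.val h1
      rw [Subalgebra.coe_mul, Subalgebra.coe_mul, Subalgebra.coe_algebraMap] at this
      linear_combination this
    obtain ⟨y, hy, hey⟩ := hdiv _ heE _ (mul_mem (E.algebraMap_mem a) hσE) x h2
    obtain ⟨w, b, hb, hw⟩ := key E hE σ hσE hσ
    have h3 : algebraMap A S (a * b) * (x - y) = 0 := by
      have hw' : (σ : S) * (w : S) = algebraMap A S b := congrArg Subtype.val hw
      rw [map_mul, ← hw']
      linear_combination (w : S) * h2 - (w : S) * hey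
    rwa [sub_eq_zero.1 (hA _ (mul_mem ha hb) _ h3)]
  · rintro ⟨E, hDE, hEl, hE⟩
    haveI := hEl
    obtain ⟨hloc, t, ht⟩ := isLocalization_fractionRing_and_fg A E hmin hE
    let K := FractionRing A
    let G := FractionRing E
    have hKu : ∀ a : nonZeroDivisors A, IsUnit (algebraMap A G a) := fun a => by
      rw [IsScalarTower.algebraMap_apply A E G]
      exact IsLocalization.map_units G (⟨_, ⟨a.1, a.2, rfl⟩⟩ : (nonZeroDivisors A).map (algebraMap A E))
    letI : Algebra K G := (IsLocalization.lift hKu : K →+* G).toAlgebra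
    haveI : IsScalarTower A K G := IsScalarTower.of_algebraMap_eq fun a => (IsLocalization.lift_eq hKu a).symm
    haveI : IsArtinianRing K := Branch14.isArtinianRing_fractionRing A hmin
    haveI : Module.Finite K G := ⟨⟨t, by
      refine Submodule.eq_top_iff'.2 fun x => ?_
      obtain ⟨a, ha, hax⟩ := ht x
      have h1 : algebraMap A K a • x ∈ Submodule.span K (t : Set G) := by
        rw [algebraMap_smul, Algebra.smul_def]
        exact Submodule.span_le_restrictScalars A K (t : Set G) hax
      obtain ⟨u, hu⟩ := IsLocalization.map_units K (⟨a, ha⟩ : nonZeroDivisors A)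
      have h2 := Submodule.smul_mem _ (↑u⁻¹ : K) h1
      rwa [smul_smul, ← hu, Units.inv_mul, one_smul] at h2⟩⟩
    let g : D →ₐ[A] G := (IsScalarTower.toAlgHom A E G).comp (Subalgebra.inclusion hDE)
    have hgu : ∀ d : nonZeroDivisors D, IsUnit (g d) := fun d => by
      obtain ⟨y, a, ha, hy⟩ := key E hE d (hDE (d : D).2) d.2
      refine isUnit_of_mul_isUnit_left (y := g y) ?_
      rw [← map_mul, hy, g.commutes]
      exact hKu ⟨a, ha⟩
    have hginj : Function.Injective g := fun a b h =>
      Subalgebra.inclusion_injective hDE (IsFractionRing.injective E G h)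
    obtain ⟨ι, hιinj⟩ := exists_fractionRing_lift g hginj hgu
    obtain ⟨T, hT, hTspan⟩ := Submodule.fg_span_iff_fg_span_finset_subset (Set.range ι) |>.1
      (IsNoetherian.noetherian (Submodule.span K (Set.range ι)))
    refine ⟨T.preimage ι hιinj.injOn, fun x => ?_⟩
    have key2 : ∀ y ∈ Submodule.span K (T : Set G), ∃ a ∈ nonZeroDivisors A, a • y ∈ Submodule.span A (T : Set G) := by
      intro y hy
      induction hy using Submodule.span_induction with
      | mem z hz => exact ⟨1, one_mem _, by rw [one_smul]; exact Submodule.subset_span hz⟩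
      | zero => exact ⟨1, one_mem _, by simp⟩
      | add u v _ _ hu hv =>
        obtain ⟨a, ha, hu⟩ := hu
        obtain ⟨b, hb, hv⟩ := hv
        refine ⟨a * b, mul_mem ha hb, ?_⟩
        rw [smul_add]
        exact add_mem (by rw [mul_comm, mul_smul]; exact Submodule.smul_mem _ _ hu)
          (by rw [mul_smul]; exact Submodule.smul_mem _ _ hv)
      | smul k u _ hu =>
        obtain ⟨a, ha, hu⟩ := hu
        obtain ⟨⟨r, s⟩, hrs⟩ := IsLocalization.surj (nonZeroDivisors A) k
        refine ⟨(s : A) * a, mul_mem s.2 ha, ?_⟩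
        have : ((s : A) * a) • k • u = r • (a • u) := by
          rw [← algebraMap_smul K r (a • u), ← hrs, ← algebraMap_smul K ((s : A) * a) (k • u), smul_smul,
            ← algebraMap_smul K a u, smul_smul, map_mul]
          congr 1
          ring
        rw [this]
        exact Submodule.smul_mem _ _ hu
    obtain ⟨a, ha, h⟩ := key2 (ι x) (hTspan ▸ Submodule.subset_span ⟨x, rfl⟩)
    refine ⟨a, ha, ?_⟩
    have h2 : ι (algebraMap A F a * x) ∈ Submodule.map ι.toLinearMap
        (Submodule.span A ((T.preimage ι hιinj.injOn : Finset F) : Set F)) := by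
      rw [Submodule.map_span, Finset.coe_preimage]
      have : (ι.toLinearMap : F → G) '' (ι ⁻¹' (T : Set G)) = T := Set.image_preimage_eq_of_subset hT
      rw [this, map_mul, AlgHom.commutes, ← Algebra.smul_def]
      exact h
    obtain ⟨z, hz, hzx⟩ := h2
    rw [← hιinj hzx]
    exact Algebra.span_le_adjoin A _ hz

end Groth.Agent.SHens6
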