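import Groth.Agent.Lib.SHens6.NormTensor
import Groth.Agent.Lib.SHens6.NormLocal
import Groth.Agent.Lib.SHens6.NormEssFT
import Groth.Agent.Lib.SHens6.SubFG
import Groth.Agent.Lib.CAlgLow.FerrandFlat
import Mathlib

/-! # A criterion for being essentially étale in terms of normalizations -/

set_option autoImplicit false
universe u

open IsLocalRing
open scoped TensorProduct

namespace Groth.Agent.SHens6

theorem exists_compositum {k l m : Type u} [Field k] [Field l] [Field m] (a : k →+* l) (b : k →+* m) :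
    ∃ (Ω : Type u) (_ : Field Ω) (u : l →+* Ω) (v : m →+* Ω), ∀ x, u (a x) = v (b x) := by
  letI := a.toAlgebra
  letI := b.toAlgebra
  obtain ⟨M, hM⟩ := Ideal.exists_maximal (l ⊗[k] m)
  letI := Ideal.Quotient.field M
  refine ⟨(l ⊗[k] m) ⧸ M, inferInstance,
    (Ideal.Quotient.mk M).comp (Algebra.TensorProduct.includeLeft : l →ₐ[k] l ⊗[k] m).toRingHom,
    (Ideal.Quotient.mk M).comp (Algebra.TensorProduct.includeRight : m →ₐ[k] l ⊗[k] m).toRingHom, fun x => ?_⟩
  show Ideal.Quotient.mk M ((Algebra.TensorProduct.includeLeft : l →ₐ[k] l ⊗[k] m) (algebraMap k l x)) =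
    Ideal.Quotient.mk M ((Algebra.TensorProduct.includeRight : m →ₐ[k] l ⊗[k] m) (algebraMap k m x))
  rw [AlgHom.commutes, AlgHom.commutes]

/-- The normalization of a reduced excellent local ring, computed in any algebra, is finite. -/
theorem finite_normalization_base (A K : Type u) [CommRing A] [IsLocalRing A] [IsReduced A]
    (hA : EGA4.IsExcellent A) [CommRing K] [Algebra A K] (hinj : Function.Injective (algebraMap A K))
    (hu : ∀ a ∈ nonZeroDivisors A, IsUnit (algebraMap A K a)) (A' : Subalgebra A K)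
    (hA' : ∀ x : K, x ∈ A' ↔ (IsIntegral A x ∧
      ∃ a ∈ nonZeroDivisors A, ∃ b : A, algebraMap A K a * x = algebraMap A K b)) :
    Module.Finite A A' := by
  haveI := hA.1
  let K₀ := FractionRing A
  haveI : IsReduced K₀ := isReduced_localizationPreserves (nonZeroDivisors A) _ inferInstance
  haveI : IsArtinianRing K₀ :=
    Branch14.isArtinianRing_fractionRing A (minimalPrimes.finite_of_isNoetherianRing A)
  haveI := finite_integralClosure_of_isNagata A K₀ (isNagata_of_isExcellent A hA) {1}
    (fun a ha => IsLocalization.map_units K₀ (⟨a, ha⟩ : nonZeroDivisors A)) fun x => by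
      obtain ⟨⟨b, a⟩, hba⟩ := IsLocalization.surj (nonZeroDivisors A) x
      refine ⟨a, a.2, ?_⟩
      rw [mul_comm, hba, Algebra.algebraMap_eq_smul_one]
      exact Submodule.smul_mem _ _ (Submodule.subset_span (by simp))
  obtain ⟨ι, hι⟩ := exists_fractionRing_lift (Algebra.ofId A K) hinj fun a => hu a a.2
  let j : integralClosure A K₀ →ₐ[A] A' := (ι.comp (integralClosure A K₀).val).codRestrict A' fun y => by
    obtain ⟨⟨b, a⟩, hba⟩ := IsLocalization.surj (nonZeroDivisors A) (y : K₀)
    refine (hA' _).2 ⟨(y.2 : IsIntegral A (y : K₀)).map ι, a, a.2, b, ?_⟩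
    show algebraMap A K a * ι (y : K₀) = algebraMap A K b
    rw [← ι.commutes (a : A), ← ι.commutes b, ← map_mul, mul_comm, hba]
  refine Module.Finite.of_surjective j.toLinearMap fun x => ?_
  obtain ⟨hxi, a, ha, b, hb⟩ := (hA' _).1 x.2
  have hx : ι (IsLocalization.mk' K₀ b ⟨a, ha⟩) = x := by
    apply (hu a ha).mul_left_cancel
    rw [hb, ← ι.commutes a, ← map_mul, IsLocalization.mk'_spec' K₀ b ⟨a, ha⟩, ι.commutes]
  exact ⟨⟨IsLocalization.mk' K₀ b ⟨a, ha⟩, (isIntegral_algHom_iff ι hι).1 (hx ▸ hxi)⟩, Subtype.ext hx⟩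

/-- Nakayama's lemma for a finite algebra. -/
theorem surjective_of_jacobson (R S : Type u) [CommRing R] [CommRing S] [Algebra R S] [Module.Finite R S]
    (I : Ideal R) (hI : I ≤ Ideal.jacobson ⊥)
    (h : ∀ x : S, ∃ r : R, x - algebraMap R S r ∈ I.map (algebraMap R S)) :
    Function.Surjective (algebraMap R S) := by
  have htop : (⊤ : Submodule R S) ≤ Submodule.span R {1} := by
    refine Submodule.le_of_le_smul_of_le_jacobson_bot Module.Finite.fg_top hI fun x _ => ?_
    obtain ⟨r, hr⟩ := h x
    rw [← add_sub_cancel (algebraMap R S r) x]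
    refine Submodule.add_mem_sup ?_ ?_
    · rw [Algebra.algebraMap_eq_smul_one]
      exact Submodule.smul_mem _ _ (Submodule.subset_span rfl)
    · rw [Ideal.smul_top_eq_map]
      exact hr
  intro x
  obtain ⟨r, hr⟩ := Submodule.mem_span_singleton.1 (htop (Submodule.mem_top : x ∈ ⊤))
  exact ⟨r, by rw [Algebra.algebraMap_eq_smul_one, hr]⟩

set_option maxHeartbeats 4000000 in
set_option synthInstance.maxHeartbeats 200000 in
/-- The criterion inside an ambient essentially étale algebra. -/
theorem essFiniteType_and_map_maximalIdeal (A E : Type u) [CommRing A] [IsLocalRing A] [IsReduced A]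
    (hA : EGA4.IsExcellent A) [CommRing E] [IsLocalRing E] [Algebra A E] [IsLocalHom (algebraMap A E)]
    (hE : EGA4loc.IsEssentiallyEtale A E)
    (D : Subalgebra A E) [IsLocalRing D] [IsLocalHom (algebraMap D E)]
    (A' D' : Subalgebra A (FractionRing E))
    (hA' : ∀ x : (FractionRing E), x ∈ A' ↔ (IsIntegral A x ∧
      ∃ a ∈ nonZeroDivisors A, ∃ b : A, algebraMap A (FractionRing E) a * x = algebraMap A (FractionRing E) b))
    (hD' : ∀ x : (FractionRing E), x ∈ D' ↔ (IsIntegral D x ∧
      ∃ a ∈ nonZeroDivisors A, ∃ d ∈ D, algebraMap A (FractionRing E) a * x = algebraMap E (FractionRing E) d))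
    (hfin : {N : Ideal D' | N.IsMaximal}.Finite)
    (hsurj : ∀ x : D', ∃ y : D', (y : FractionRing E) ∈
        A' ⊔ ((IsScalarTower.toAlgHom A E (FractionRing E)).comp D.val).range ∧
      ∀ N : Ideal D', N.IsMaximal → y - x ∈ N) :
    Algebra.EssFiniteType A D ∧ Ideal.map (algebraMap A D) (maximalIdeal A) = maximalIdeal D := by
  classical
  haveI := hA.1
  have hmin := minimalPrimes.finite_of_isNoetherianRing A
  let F := FractionRing E
  have hau : ∀ a ∈ nonZeroDivisors A, IsUnit (algebraMap A F a) :=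
    isUnit_algebraMap_fractionRing A E hmin hE
  have hEF : Function.Injective (algebraMap E F) := IsFractionRing.injective E F
  obtain ⟨hfe, hef⟩ := Hens.essEtale_formallyEtale hE
  have hmE : Ideal.map (algebraMap A E) (maximalIdeal A) = maximalIdeal E :=
    Algebra.FormallyUnramified.map_maximalIdeal
  have hDm : ∀ d : D, d ∈ maximalIdeal D ↔ (d : E) ∈ maximalIdeal E := fun d => by
    rw [mem_maximalIdeal, mem_nonunits_iff, mem_maximalIdeal, mem_nonunits_iff]
    exact not_congr ⟨fun h => h.map (algebraMap D E), fun h => isUnit_of_map_unit (algebraMap D E) d h⟩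
  haveI : IsLocalHom (algebraMap A D) := ⟨fun a ha => by
    have := ha.map (algebraMap D E)
    rw [← IsScalarTower.algebraMap_apply] at this
    exact isUnit_of_map_unit _ _ this⟩
  -- `E' = A' ⊗ E`
  let gE : E →ₐ[A] F := IsScalarTower.toAlgHom A E F
  obtain ⟨hΓinj, hΓrange⟩ := normalization_tensor A E F hE gE hEF hau A' hA'
  let E' : Subalgebra A F := (integralClosure E F).restrictScalars A
  obtain ⟨hloc, -⟩ := isLocalization_fractionRing_and_fg A E hmin hE
  have hclear : ∀ x : F, ∃ a ∈ nonZeroDivisors A, ∃ e : E, algebraMap A F a * x = gE e := fun x => by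
    obtain ⟨⟨e, ⟨_, a, ha, rfl⟩⟩, hea⟩ :=
      IsLocalization.surj ((nonZeroDivisors A).map (algebraMap A E)) x
    exact ⟨a, ha, e, by rw [IsScalarTower.algebraMap_apply A E F, mul_comm]; exact hea⟩
  have hΓmem : ∀ z, Algebra.TensorProduct.productMap A'.val gE z ∈ E' := fun z =>
    ((hΓrange _).1 ⟨z, rfl⟩).1
  let Γ : A' ⊗[A] E ≃ₐ[A] E' := AlgEquiv.ofBijective
    ((Algebra.TensorProduct.productMap A'.val gE).codRestrict E' hΓmem)
    ⟨fun x y h => hΓinj (congrArg Subtype.val h), fun x => by
      obtain ⟨z, hz⟩ := (hΓrange _).2 ⟨x.2, hclear x⟩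
      exact ⟨z, Subtype.ext hz⟩⟩
  have hΓv : ∀ z, ((Γ z : E') : F) = Algebra.TensorProduct.productMap A'.val gE z := fun z => rfl
  -- the maps into `D'`
  let gD : D →ₐ[A] F := gE.comp D.val
  have hιmem : ∀ d : D, gD d ∈ D' := fun d => (hD' _).2
    ⟨(isIntegral_algebraMap : IsIntegral D (algebraMap D F d)), 1, one_mem _, d, d.2, by rw [map_one, one_mul]; rfl⟩
  let ι : D →ₐ[A] D' := gD.codRestrict D' hιmem
  have hAD : A' ≤ D' := fun x hx => by
    obtain ⟨hi, a, ha, b, hb⟩ := (hA' x).1 hx
    exact (hD' x).2 ⟨hi.tower_top, a, ha, algebraMap A E b, D.algebraMap_mem b, by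
      rw [hb, ← IsScalarTower.algebraMap_apply]⟩
  let f1 : A' →ₐ[A] D' := Subalgebra.inclusion hAD
  have hle : D' ≤ E' := fun x hx => (((hD' x).1 hx).1).tower_top
  let f2 : D' →ₐ[A] E' := Subalgebra.inclusion hle
  let pm : A' ⊗[A] D →ₐ[A] D' := Algebra.TensorProduct.productMap f1 ι
  -- maximal ideals
  letI : Algebra D D' := ι.toRingHom.toAlgebra
  haveI : IsScalarTower A D D' := IsScalarTower.of_algebraMap_eq fun a => (ι.commutes a).symm
  haveI : IsScalarTower D D' F := IsScalarTower.of_algebraMap_eq fun d => rfl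
  haveI : Algebra.IsIntegral D D' := ⟨fun x => by
    obtain ⟨p, hp, hp0⟩ := ((hD' x).1 x.2).1
    refine ⟨p, hp, Subtype.val_injective ?_⟩
    show D'.val (Polynomial.eval₂ (algebraMap D D') x p) = (0 : D').1
    rw [← AlgHom.coe_toRingHom, Polynomial.hom_eval₂]
    exact hp0⟩
  have hND : ∀ N : Ideal D', N.IsMaximal → ∀ d ∈ maximalIdeal D, ι d ∈ N := fun N hN d hd => by
    have h1 : N.comap (algebraMap D D') = maximalIdeal D :=
      eq_maximalIdeal (Ideal.isMaximal_comap_of_isIntegral_of_isMaximal (R := D) (S := D') N)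
    rw [← h1] at hd
    exact hd
  letI : Algebra E E' := (gE.codRestrict E' fun e =>
    (isIntegral_algebraMap : IsIntegral E (algebraMap E F e))).toRingHom.toAlgebra
  haveI : IsScalarTower E E' F := IsScalarTower.of_algebraMap_eq fun e => rfl
  haveI : Algebra.IsIntegral E E' := ⟨fun x => by
    obtain ⟨p, hp, hp0⟩ := (x.2 : IsIntegral E (x : F))
    refine ⟨p, hp, Subtype.val_injective ?_⟩
    show E'.val (Polynomial.eval₂ (algebraMap E E') x p) = (0 : E').1
    rw [← AlgHom.coe_toRingHom, Polynomial.hom_eval₂]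
    exact hp0⟩
  have hmax : ∀ M : Ideal E', M.IsMaximal → (M.comap f2).IsMaximal := fun M hM => by
    have h1 : M.comap (algebraMap E E') = maximalIdeal E :=
      eq_maximalIdeal (Ideal.isMaximal_comap_of_isIntegral_of_isMaximal (R := E) (S := E') M)
    haveI := hM.isPrime
    haveI : (M.comap f2).IsPrime := Ideal.IsPrime.comap _
    refine Ideal.isMaximal_of_isIntegral_of_isMaximal_comap (R := D) (M.comap f2) ?_
    have h2 : (M.comap f2).comap (algebraMap D D') = maximalIdeal D := by
      ext d
      rw [hDm, ← h1]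
      exact Iff.rfl
    rw [h2]
    infer_instance
  have hrange : ∀ y : D', (y : F) ∈ A' ⊔ gD.range → ∃ w, pm w = y := fun y hy => by
    have h : A' ⊔ gD.range ≤ (D'.val.comp pm).range := by
      refine sup_le (fun a ha => ⟨(⟨a, ha⟩ : A') ⊗ₜ 1, ?_⟩) ?_
      · show ((pm (_ ⊗ₜ 1) : D') : F) = a
        rw [Algebra.TensorProduct.productMap_apply_tmul, map_one, mul_one]
        rfl
      · rintro _ ⟨d, rfl⟩
        refine ⟨(1 : A') ⊗ₜ d, ?_⟩
        show ((pm ((1 : A') ⊗ₜ d) : D') : F) = gD d
        rw [Algebra.TensorProduct.productMap_apply_tmul, map_one, one_mul]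
        rfl
    obtain ⟨w, hw⟩ := h hy
    exact ⟨w, Subtype.ext hw⟩
  let Θ : A' ⊗[A] D →ₐ[A] A' ⊗[A] E := Algebra.TensorProduct.map (AlgHom.id A A') D.val
  have hΘ : ∀ w, Γ (Θ w) = f2 (pm w) := by
    intro w
    induction w using TensorProduct.induction_on with
    | zero => simp
    | add u v hu hv => simp only [map_add, hu, hv]
    | tmul a d =>
      refine Subtype.ext ?_
      show Algebra.TensorProduct.productMap A'.val gE (Θ (a ⊗ₜ d)) = ((pm (a ⊗ₜ d) : D') : F)
      rw [Algebra.TensorProduct.map_tmul, Algebra.TensorProduct.productMap_apply_tmul,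
        Algebra.TensorProduct.productMap_apply_tmul]
      rfl
  have hsurjM : ∀ N : Ideal D', N.IsMaximal → ∃ M : Ideal E', M.IsMaximal ∧ M.comap f2 = N := by
    intro N hN
    haveI := hN
    letI := Ideal.Quotient.field N
    let a : ResidueField D →+* D' ⧸ N := Ideal.Quotient.lift (maximalIdeal D)
      ((Ideal.Quotient.mk N).comp ι.toRingHom) fun d hd => Ideal.Quotient.eq_zero_iff_mem.2 (hND N hN d hd)
    obtain ⟨Ω, _, u, v, huv⟩ := exists_compositum a (ResidueField.map (algebraMap D E))
    let v' : E →+* Ω := v.comp (residue E)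
    letI : Algebra A Ω := (v'.comp (algebraMap A E)).toAlgebra
    let vA : E →ₐ[A] Ω := { v' with commutes' := fun _ => rfl }
    have hud : ∀ d : D, u (Ideal.Quotient.mk N (ι d)) = v' d := fun d => huv (residue D d)
    let uA : A' →ₐ[A] Ω :=
      { ((u.comp (Ideal.Quotient.mk N)).comp f1.toRingHom) with
        commutes' := fun c => by
          show u (Ideal.Quotient.mk N (f1 (algebraMap A A' c))) = v' (algebraMap A E c)
          rw [f1.commutes, ← ι.commutes, hud]
          rfl }
    let χ : A' ⊗[A] E →ₐ[A] Ω := Algebra.TensorProduct.productMap uA vA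
    have hχ : ∀ w, χ (Θ w) = u (Ideal.Quotient.mk N (pm w)) := by
      intro w
      induction w using TensorProduct.induction_on with
      | zero => simp
      | add x y hx hy => simp only [map_add, hx, hy]
      | tmul c d =>
        rw [Algebra.TensorProduct.map_tmul, Algebra.TensorProduct.productMap_apply_tmul,
          Algebra.TensorProduct.productMap_apply_tmul, map_mul, map_mul, hud]
        rfl
    let M : Ideal E' := RingHom.ker (χ.comp Γ.symm.toAlgHom)
    haveI : M.IsPrime := RingHom.ker_isPrime _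
    have hME : M.comap (algebraMap E E') = maximalIdeal E := by
      ext e
      have h1 : Γ.symm (algebraMap E E' e) = (1 : A') ⊗ₜ e := Γ.injective (by
        rw [AlgEquiv.apply_symm_apply]
        refine Subtype.ext ?_
        rw [hΓv, Algebra.TensorProduct.productMap_apply_tmul, map_one, one_mul]
        rfl)
      show χ (Γ.symm (algebraMap E E' e)) = 0 ↔ _
      rw [h1, Algebra.TensorProduct.productMap_apply_tmul, map_one, one_mul]
      show v (residue E e) = 0 ↔ _
      rw [map_eq_zero, residue_eq_zero_iff]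
    have hMmax : M.IsMaximal := Ideal.isMaximal_of_isIntegral_of_isMaximal_comap (R := E) M (by
      rw [hME]; infer_instance)
    refine ⟨M, hMmax, ?_⟩
    ext x
    obtain ⟨y, hy, hyx⟩ := hsurj x
    obtain ⟨w, rfl⟩ := hrange y hy
    have h1 : pm w ∈ M.comap f2 ↔ pm w ∈ N := by
      show χ (Γ.symm (f2 (pm w))) = 0 ↔ _
      rw [← hΘ, AlgEquiv.symm_apply_apply, hχ, map_eq_zero, Ideal.Quotient.eq_zero_iff_mem]
    have h2 := hyx N hN
    have h3 := hyx _ (hmax M hMmax)
    constructor
    · intro hx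
      have := h1.1 (by simpa using add_mem h3 hx)
      simpa using sub_mem this h2
    · intro hx
      have := h1.2 (by simpa using add_mem h2 hx)
      simpa using sub_mem this h3
  -- finiteness
  obtain ⟨hess, S, hSD, hspan⟩ :=
    essFiniteType_of_normalization A E hA hE D D' hD' hle hfin hmax hsurjM
  haveI := hess
  refine ⟨hess, ?_⟩
  haveI : IsNoetherianRing D := Algebra.EssFiniteType.isNoetherianRing A D
  haveI : Module.Finite D D' := ⟨⟨S.attach.image fun s => ⟨s.1, hSD s.2⟩, by
    refine Submodule.eq_top_iff'.2 fun x => ?_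
    let val : D' →ₗ[D] F := (IsScalarTower.toAlgHom D D' F).toLinearMap
    have hval : Function.Injective val := Subtype.val_injective
    have h1 : val x ∈ Submodule.map val
        (Submodule.span D ((S.attach.image fun s => (⟨s.1, hSD s.2⟩ : D') : Finset D') : Set D')) := by
      rw [Submodule.map_span, Finset.coe_image, Set.image_image]
      refine Submodule.span_mono ?_ (hspan x.1 x.2)
      intro s hs
      exact ⟨⟨s, hs⟩, Finset.mem_attach _ _, rfl⟩
    obtain ⟨z, hz, hzx⟩ := h1
    rwa [← hval hzx]⟩⟩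
  -- `D' → E'` is faithfully flat
  let T : Subalgebra A F :=
    { carrier := {x | ∃ a ∈ nonZeroDivisors A, ∃ d ∈ D, algebraMap A F a * x = algebraMap E F d}
      mul_mem' := by
        rintro x y ⟨a, ha, d, hd, h⟩ ⟨a', ha', d', hd', h'⟩
        exact ⟨a * a', mul_mem ha ha', d * d', mul_mem hd hd', by rw [map_mul, map_mul, ← h, ← h']; ring⟩
      one_mem' := ⟨1, one_mem _, 1, one_mem _, by simp⟩
      add_mem' := by
        rintro x y ⟨a, ha, d, hd, h⟩ ⟨a', ha', d', hd', h'⟩
        exact ⟨a * a', mul_mem ha ha', algebraMap A E a' * d + algebraMap A E a * d',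
          add_mem (mul_mem (D.algebraMap_mem a') hd) (mul_mem (D.algebraMap_mem a) hd'), by
            rw [map_mul, map_add, map_mul, map_mul, ← h, ← h', ← IsScalarTower.algebraMap_apply,
              ← IsScalarTower.algebraMap_apply]; ring⟩
      zero_mem' := ⟨1, one_mem _, 0, zero_mem _, by simp⟩
      algebraMap_mem' := fun a => ⟨1, one_mem _, algebraMap A E a, D.algebraMap_mem a, by
        rw [map_one, one_mul, ← IsScalarTower.algebraMap_apply]⟩ }
  have hT : ∀ s ∈ nonZeroDivisors A, ∃ y ∈ T, algebraMap A F s * y = 1 := fun s hs => by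
    obtain ⟨y, hy⟩ := (hau s hs).exists_right_inv
    exact ⟨y, ⟨s, hs, 1, one_mem _, by rw [map_one]; exact hy⟩, hy⟩
  have hflat := flat_normalization A E hmin hE T hT D'
    (fun x hx hi => (hD' x).2 ⟨hi.tower_top, hx⟩) (fun x hx => ((hD' x).1 hx).2) hle hfin hsurjM
  letI algDE : Algebra D' E' := f2.toRingHom.toAlgebra
  haveI : Module.Flat D' E' := hflat
  haveI : Module.FaithfullyFlat D' E' := by
    refine ⟨fun {N} hN htop => ?_⟩
    obtain ⟨M, hM, hMN⟩ := hsurjM N hN
    rw [Ideal.smul_top_eq_map] at htop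
    refine hM.ne_top ((Ideal.eq_top_iff_one _).2 ?_)
    have h1 : Ideal.map (algebraMap D' E') N ≤ M := Ideal.map_le_iff_le_comap.2 hMN.ge
    refine h1 ?_
    have h2 : (1 : E') ∈ (Ideal.map (algebraMap D' E') N).restrictScalars D' := by
      rw [htop]; exact Submodule.mem_top
    exact h2
  -- Jacobson radicals
  haveI hAEflat : Module.Flat A E := by
    obtain ⟨C₀, _, _, q, _, hC₀, -, ⟨eq'⟩⟩ := id hE
    haveI := hC₀
    haveI : Module.Flat C₀ (Localization.AtPrime q) := IsLocalization.flat _ q.primeCompl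
    haveI : Module.Flat A (Localization.AtPrime q) := Module.Flat.trans A C₀ _
    exact Module.Flat.of_linearEquiv eq'.toLinearEquiv
  haveI : Module.FaithfullyFlat A E := Module.FaithfullyFlat.of_flat_of_isLocalHom
  haveI : Module.Finite A A' := finite_normalization_base A F hA (fun x y h => by
    rw [IsScalarTower.algebraMap_apply A E F, IsScalarTower.algebraMap_apply A E F] at h
    exact FaithfulSMul.algebraMap_injective A E (hEF h)) hau A' hA'
  haveI : Algebra.IsIntegral A A' := Algebra.IsIntegral.of_finite A A'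
  haveI : Finite (MaximalSpectrum A') := Hens.finite_maximalSpectrum (A := A) (B := A')
  let J := Ideal.jacobson (⊥ : Ideal A')
  let I : Ideal D' := J.map f1
  have hmJ : maximalIdeal A ≤ J.comap (algebraMap A A') := fun a ha => by
    rw [Ideal.mem_comap]
    refine Ideal.mem_sInf.2 fun {M} hM => ?_
    haveI := hM.2
    have h1 : M.comap (algebraMap A A') = maximalIdeal A :=
      eq_maximalIdeal (Ideal.isMaximal_comap_of_isIntegral_of_isMaximal M)
    show a ∈ M.comap (algebraMap A A')
    rwa [h1]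
  have hjac : ∀ z : D', (∀ N : Ideal D', N.IsMaximal → z ∈ N) → z ∈ I := by
    intro z hz
    rw [← Ideal.comap_map_eq_self_of_faithfullyFlat (B := E') I, Ideal.mem_comap]
    have h1 : f2 z ∈ Ideal.jacobson (⊥ : Ideal E') :=
      Ideal.mem_sInf.2 fun {M} hM => hz _ (hmax M hM.2)
    have h2 : Γ.symm (f2 z) ∈ Ideal.jacobson (⊥ : Ideal (A' ⊗[A] E)) := by
      refine Ideal.mem_sInf.2 fun {M} hM => ?_
      haveI := hM.2
      have h3 : (M.comap Γ.symm.toRingEquiv.toRingHom).IsMaximal :=
        Ideal.comap_isMaximal_of_surjective _ Γ.symm.toRingEquiv.surjective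
      exact Ideal.mem_sInf.1 h1 ⟨bot_le, h3⟩
    rw [isReduced_and_jacobson A E A' hE] at h2
    have h4 : (Ideal.jacobson (⊥ : Ideal A')).map
        (Algebra.TensorProduct.includeLeft : A' →ₐ[A] A' ⊗[A] E) ⊔
        (maximalIdeal E).map (Algebra.TensorProduct.includeRight : E →ₐ[A] A' ⊗[A] E) ≤
        (Ideal.map (algebraMap D' E') I).comap Γ.toRingEquiv.toRingHom := by
      have hl : J.map (Algebra.TensorProduct.includeLeft : A' →ₐ[A] A' ⊗[A] E) ≤
          (Ideal.map (algebraMap D' E') I).comap Γ.toRingEquiv.toRingHom := by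
        refine Ideal.map_le_iff_le_comap.2 fun c hc => ?_
        show Γ (c ⊗ₜ 1) ∈ Ideal.map (algebraMap D' E') I
        have h5 : Γ (c ⊗ₜ 1) = algebraMap D' E' (f1 c) := by
          refine Subtype.ext ?_
          rw [hΓv, Algebra.TensorProduct.productMap_apply_tmul, map_one, mul_one]
          rfl
        rw [h5]
        exact Ideal.mem_map_of_mem _ (Ideal.mem_map_of_mem f1 hc)
      refine sup_le hl ?_
      rw [← hmE, Ideal.map_le_iff_le_comap, Ideal.map_le_iff_le_comap]
      intro a ha
      have h6 := hl (Ideal.mem_map_of_mem (Algebra.TensorProduct.includeLeft : A' →ₐ[A] A' ⊗[A] E) (hmJ ha))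
      show (Algebra.TensorProduct.includeRight : E →ₐ[A] A' ⊗[A] E) (algebraMap A E a) ∈
        (Ideal.map (algebraMap D' E') I).comap Γ.toRingEquiv.toRingHom
      rw [AlgHom.commutes, ← (Algebra.TensorProduct.includeLeft : A' →ₐ[A] A' ⊗[A] E).commutes]
      exact h6
    have h7 := h4 h2
    change Γ (Γ.symm (f2 z)) ∈ Ideal.map (algebraMap D' E') I at h7
    rwa [AlgEquiv.apply_symm_apply] at h7
  -- `A' ⊗ D → D'` is surjective
  let R : Subalgebra D D' := Algebra.adjoin D (Set.range f1)
  let f1R : A' →+* R := f1.toRingHom.codRestrict R fun c => Algebra.subset_adjoin ⟨c, rfl⟩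
  haveI : Algebra.IsIntegral D R := ⟨fun x =>
    (isIntegral_algHom_iff R.val Subtype.val_injective).1 (Algebra.IsIntegral.isIntegral (R := D) (x : D'))⟩
  haveI : Module.Finite R D' := Module.Finite.of_restrictScalars_finite D R D'
  have hRjac : J.map f1R ≤ Ideal.jacobson (R := ↥R) ⊥ := by
    refine Ideal.map_le_iff_le_comap.2 fun c hc => ?_
    refine Ideal.mem_sInf.2 fun {M} hM => ?_
    haveI := hM.2
    have h1 : M.comap (algebraMap D R) = maximalIdeal D :=
      eq_maximalIdeal (Ideal.isMaximal_comap_of_isIntegral_of_isMaximal (R := D) (S := R) M)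
    haveI : (M.comap f1R).IsPrime := Ideal.IsPrime.comap _
    have h2 : (M.comap f1R).comap (algebraMap A A') = maximalIdeal A := by
      have h3 : f1R.comp (algebraMap A A') = (algebraMap D R).comp (algebraMap A D) :=
        RingHom.ext fun a => Subtype.ext ((f1.commutes a).trans (IsScalarTower.algebraMap_apply A D D' a))
      rw [Ideal.comap_comap, h3, ← Ideal.comap_comap, h1]
      exact (local_hom_TFAE (algebraMap A D)).out 0 4 rfl rfl |>.mp inferInstance
    have h4 : (M.comap f1R).IsMaximal := Ideal.isMaximal_of_isIntegral_of_isMaximal_comap (R := A) _ (by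
      rw [h2]; infer_instance)
    exact Ideal.mem_sInf.1 hc ⟨bot_le, h4⟩
  have hR : ∀ x : D', x ∈ R := by
    have key : Function.Surjective (algebraMap R D') := by
      refine surjective_of_jacobson R D' (J.map f1R) hRjac fun x => ?_
      obtain ⟨y, hy, hyx⟩ := hsurj x
      obtain ⟨w, rfl⟩ := hrange y hy
      have hw : pm w ∈ R := by
        clear hy hyx
        induction w using TensorProduct.induction_on with
        | zero => rw [map_zero]; exact zero_mem _
        | add u v hu hv => rw [map_add]; exact add_mem hu hv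
        | tmul c d =>
          rw [Algebra.TensorProduct.productMap_apply_tmul]
          exact mul_mem (Algebra.subset_adjoin ⟨c, rfl⟩) (R.algebraMap_mem d)
      refine ⟨⟨pm w, hw⟩, ?_⟩
      rw [Ideal.map_map]
      show x - pm w ∈ I
      rw [← neg_sub]
      exact I.neg_mem (hjac _ hyx)
    intro x
    obtain ⟨r, rfl⟩ := key x
    exact r.2
  -- `D → E` is flat
  let θ : D' ⊗[D] E →ₐ[D'] F := Algebra.TensorProduct.lift (Algebra.ofId D' F)
    (IsScalarTower.toAlgHom D E F) fun _ _ => Commute.all _ _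
  have hθ : ∀ (x : D') (e : E), θ (x ⊗ₜ e) = (x : F) * gE e := fun x e =>
    Algebra.TensorProduct.lift_tmul _ _ _ x e
  let σ : A' ⊗[A] E →ₐ[A] D' ⊗[D] E := Algebra.TensorProduct.productMap
    (((Algebra.TensorProduct.includeLeft : D' →ₐ[D] D' ⊗[D] E).restrictScalars A).comp f1)
    ((Algebra.TensorProduct.includeRight : E →ₐ[D] D' ⊗[D] E).restrictScalars A)
  have hσt : ∀ (c : A') (e : E), σ (c ⊗ₜ e) = f1 c ⊗ₜ e := fun c e => by
    rw [Algebra.TensorProduct.productMap_apply_tmul]
    show (f1 c ⊗ₜ[D] (1 : E)) * ((1 : D') ⊗ₜ[D] e) = _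
    rw [Algebra.TensorProduct.tmul_mul_tmul, mul_one, one_mul]
  have hθσ : ∀ z, θ (σ z) = (Γ z : F) := by
    intro z
    induction z using TensorProduct.induction_on with
    | zero => simp
    | add u v hu hv => simp only [map_add, hu, hv, Subalgebra.coe_add]
    | tmul c e =>
      rw [hσt, hθ, hΓv, Algebra.TensorProduct.productMap_apply_tmul]
      rfl
  have hσ : Function.Surjective σ := by
    have hgen : R ≤ Algebra.adjoin D {x : D' | x ⊗ₜ[D] (1 : E) ∈ σ.range} :=
      Algebra.adjoin_mono (by rintro _ ⟨c, rfl⟩; exact ⟨c ⊗ₜ 1, hσt c 1⟩)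
    have hx1 : ∀ x : D', x ⊗ₜ[D] (1 : E) ∈ σ.range := fun x => by
      have h := hgen (hR x)
      induction h using Algebra.adjoin_induction with
      | mem x hx => exact hx
      | algebraMap d =>
        refine ⟨1 ⊗ₜ (d : E), ?_⟩
        show σ ((1 : A') ⊗ₜ (d : E)) = _
        rw [hσt, map_one, Algebra.algebraMap_eq_smul_one, TensorProduct.smul_tmul]
        congr 1
        exact (mul_one _).symm
      | add x y _ _ hx hy => rw [TensorProduct.add_tmul]; exact add_mem hx hy
      | mul x y _ _ hx hy =>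
        have h := mul_mem hx hy
        rwa [Algebra.TensorProduct.tmul_mul_tmul, mul_one] at h
    intro z
    induction z using TensorProduct.induction_on with
    | zero => exact ⟨0, map_zero _⟩
    | add u v hu hv =>
      obtain ⟨u, rfl⟩ := hu
      obtain ⟨v, rfl⟩ := hv
      exact ⟨u + v, map_add _ _ _⟩
    | tmul x e =>
      have h : (x ⊗ₜ[D] (1 : E)) * σ ((1 : A') ⊗ₜ e) ∈ σ.range := mul_mem (hx1 x) ⟨_, rfl⟩
      rw [hσt, map_one, Algebra.TensorProduct.tmul_mul_tmul, mul_one, one_mul] at h
      exact h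
  have hθmem : ∀ z, θ z ∈ E' := fun z => by
    obtain ⟨z, rfl⟩ := hσ z
    rw [hθσ]
    exact (Γ z).2
  let θ' : D' ⊗[D] E →ₗ[D'] E' :=
    { toFun := fun z => ⟨θ z, hθmem z⟩
      map_add' := fun x y => Subtype.ext (map_add θ x y)
      map_smul' := fun r x => Subtype.ext (by
        show θ (r • x) = (r : F) * θ x
        rw [map_smul, Algebra.smul_def]
        rfl) }
  have hθ' : Function.Bijective θ' := by
    refine ⟨fun x y h => ?_, fun x => ?_⟩
    · obtain ⟨x, rfl⟩ := hσ x
      obtain ⟨y, rfl⟩ := hσ y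
      have h1 : θ (σ x) = θ (σ y) := congrArg Subtype.val h
      rw [hθσ, hθσ] at h1
      rw [Γ.injective (Subtype.ext h1)]
    · obtain ⟨z, rfl⟩ := Γ.surjective x
      exact ⟨σ z, Subtype.ext (hθσ z)⟩
  haveI : Module.Flat D E := CAlgLow.Ferrand.flat_descent (R := D) (M := E) (S := D')
    (fun x y h => Subtype.ext (hEF (congrArg Subtype.val h)))
    (Module.Flat.of_linearEquiv (LinearEquiv.ofBijective θ' hθ'))
  haveI : Module.FaithfullyFlat D E := Module.FaithfullyFlat.of_flat_of_isLocalHom
  rw [← Ideal.comap_map_eq_self_of_faithfullyFlat (B := E) (Ideal.map (algebraMap A D) (maximalIdeal A)),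
    Ideal.map_map, ← IsScalarTower.algebraMap_eq, hmE]
  ext d
  exact (hDm d).symm

end Groth.Agent.SHens6
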