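import Groth.Agent.Lib.Hens.Henselization
import Groth.Prelude.Def_EssEt
import Mathlib

/-! # Unramified local subalgebras of a strict henselization are essentially étale -/

set_option autoImplicit false
universe u

open IsLocalRing

namespace Groth.Agent.SHens6

theorem isEssentiallyEtale_of_map_maximalIdeal (A S : Type u) [CommRing A] [IsLocalRing A]
    [CommRing S] [IsLocalRing S] [Algebra A S] [IsLocalHom (algebraMap A S)]
    [Hensel.IsStrictHenselization A S] (D : Subalgebra A S) [IsLocalRing D]
    [IsLocalHom (algebraMap D S)] [Algebra.EssFiniteType A D]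
    (hm : Ideal.map (algebraMap A D) (maximalIdeal A) = maximalIdeal D) :
    EGA4loc.IsEssentiallyEtale A D := by
  haveI : IsLocalHom (algebraMap A D) := ⟨fun a ha => by
    have := ha.map (algebraMap D S)
    rw [← IsScalarTower.algebraMap_apply] at this
    exact isUnit_of_map_unit _ _ this⟩
  haveI := (Hensel.IsStrictHenselization.isSepClosure (R := A) (S := S)).2
  haveI : Algebra.IsSeparable (ResidueField A) (ResidueField D) := by
    refine Algebra.IsSeparable.of_algHom (ResidueField A) (ResidueField S)
      { ResidueField.map (algebraMap D S) with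
        commutes' := fun x => ?_ }
    obtain ⟨a, rfl⟩ := residue_surjective x
    rfl
  haveI : Algebra.FormallyUnramified A D := Algebra.FormallyUnramified.of_map_maximalIdeal hm
  let C := Algebra.EssFiniteType.subalgebra A D
  let Q : Ideal C := (maximalIdeal D).comap (algebraMap C D)
  have hQ : Q.primeCompl = Algebra.EssFiniteType.submonoid A D := by
    ext c
    show ¬ algebraMap C D c ∈ maximalIdeal D ↔ IsUnit (algebraMap C D c)
    rw [mem_maximalIdeal, mem_nonunits_iff, not_not]
  haveI hloc : IsLocalization Q.primeCompl D := by rw [hQ]; infer_instance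
  haveI : Algebra.IsUnramifiedAt A Q :=
    Algebra.FormallyUnramified.of_equiv
      (IsLocalization.algEquiv Q.primeCompl D (Localization.AtPrime Q) |>.restrictScalars A)
  obtain ⟨f, hf, P, ψ, hψ⟩ := Algebra.IsUnramifiedAt.exists_hasStandardEtaleSurjectionOn (R := A) Q
  have hfu : IsUnit (algebraMap C D f) := IsLocalization.map_units D (⟨f, hf⟩ : Q.primeCompl)
  let Φ : P.Ring →ₐ[A] D := (IsLocalization.liftAlgHom (M := Submonoid.powers f)
    (f := IsScalarTower.toAlgHom A C D) (fun y => by
      obtain ⟨n, hn⟩ := y.2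
      show IsUnit (algebraMap C D (y : C))
      rw [← hn, map_pow]
      exact hfu.pow n)).comp ψ
  have hΦ : ∀ c : C, ∃ e, Φ e = algebraMap C D c := fun c => by
    obtain ⟨e, he⟩ := hψ (algebraMap C (Localization.Away f) c)
    exact ⟨e, by simp [Φ, AlgHom.comp_apply, he]⟩
  let q : Ideal P.Ring := (maximalIdeal D).comap Φ.toRingHom
  let E := Localization.AtPrime q
  let φ : E →ₐ[A] D := IsLocalization.liftAlgHom (M := q.primeCompl) (f := Φ) fun y =>
    of_not_not fun hn => y.2 hn
  have hφ : ∀ e, φ (algebraMap _ E e) = Φ e := fun e => by simp [φ]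
  have hsurj : Function.Surjective φ := fun d => by
    obtain ⟨⟨c, s⟩, rfl⟩ := IsLocalization.mk'_surjective Q.primeCompl d
    obtain ⟨e, he⟩ := hΦ c
    obtain ⟨t, ht⟩ := hΦ s
    have htq : t ∈ q.primeCompl := fun h => s.2 (by
      show algebraMap C D s ∈ maximalIdeal D
      rw [← ht]; exact h)
    refine ⟨IsLocalization.mk' E e ⟨t, htq⟩, (IsLocalization.eq_mk'_iff_mul_eq).2 ?_⟩
    rw [← ht, ← he, ← hφ, ← map_mul, IsLocalization.mk'_spec]
    exact hφ e
  letI : Algebra E S := ((algebraMap D S).comp φ.toRingHom).toAlgebra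
  haveI : IsScalarTower A E S := IsScalarTower.of_algebraMap_eq fun a => by
    show algebraMap A S a = algebraMap D S (φ (algebraMap A E a))
    rw [φ.commutes, ← IsScalarTower.algebraMap_apply]
  haveI : IsLocalHom φ.toRingHom := by
    refine ⟨fun x hx => ?_⟩
    obtain ⟨⟨e, s⟩, rfl⟩ := IsLocalization.mk'_surjective q.primeCompl x
    rw [IsLocalization.AtPrime.isUnit_mk'_iff E q]
    show ¬ Φ e ∈ maximalIdeal D
    rw [mem_maximalIdeal, mem_nonunits_iff, not_not]
    have h1 : IsUnit (φ (IsLocalization.mk' E e s)) := hx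
    have := h1.mul ((IsLocalization.map_units E s).map φ)
    rwa [← map_mul, IsLocalization.mk'_spec, hφ] at this
  haveI : IsLocalHom (algebraMap E S) := RingHom.isLocalHom_comp _ _
  haveI : Algebra.FormallyEtale P.Ring E := Algebra.FormallyEtale.of_isLocalization q.primeCompl
  haveI : Algebra.FormallyEtale A E := Algebra.FormallyEtale.comp A P.Ring E
  haveI : Algebra.EssFiniteType P.Ring E := Algebra.EssFiniteType.of_isLocalization _ q.primeCompl
  haveI : Algebra.EssFiniteType A E := Algebra.EssFiniteType.comp A P.Ring E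
  haveI := Hens.strictHenselization_flat A S
  haveI : Module.Flat E S := Algebra.FormallyUnramified.flat_of_restrictScalars A E S
  haveI : Module.FaithfullyFlat E S := Module.FaithfullyFlat.of_flat_of_isLocalHom
  have hinj : Function.Injective φ := fun x y h =>
    FaithfulSMul.algebraMap_injective E S (congrArg (algebraMap D S) h)
  refine ⟨P.Ring, inferInstance, inferInstance, q, inferInstance, inferInstance, ?_,
    ⟨(AlgEquiv.ofBijective φ ⟨hinj, hsurj⟩).symm⟩⟩
  show Ideal.comap (algebraMap A P.Ring) ((maximalIdeal D).comap Φ.toRingHom) = _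
  rw [Ideal.comap_comap, show Φ.toRingHom.comp (algebraMap A P.Ring) = algebraMap A D from Φ.comp_algebraMap]
  exact (local_hom_TFAE (algebraMap A D)).out 0 4 rfl rfl |>.mp inferInstance

end Groth.Agent.SHens6
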