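import Groth.Agent.Lib.SHens6.EssEtCrit
import Groth.Agent.Lib.SHens6.EssEtale
import Mathlib

/-! # Essentially étale subalgebras of a strict henselization via normalizations -/

set_option autoImplicit false
universe u

open IsLocalRing
open scoped TensorProduct

namespace Groth.Agent.SHens6

theorem comap_jacobson_bot {R S : Type u} [CommRing R] [CommRing S] (f : R →+* S) (hf : Function.Bijective f) :
    (Ideal.jacobson (⊥ : Ideal S)).comap f = Ideal.jacobson (⊥ : Ideal R) := by
  rw [Ideal.comap_jacobson_of_surjective hf.2, Ideal.comap_bot_of_injective f hf.1]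

variable (A S : Type u) [CommRing A] [IsLocalRing A] [IsReduced A] [CommRing S] [IsLocalRing S]
  [Algebra A S] [IsLocalHom (algebraMap A S)] [Hensel.IsStrictHenselization A S]

omit [IsReduced A] in
theorem injective_and_isUnit_strictHenselization :
    Function.Injective (algebraMap S (FractionRing S)) ∧
      Function.Injective (algebraMap A (FractionRing S)) ∧
        ∀ a ∈ nonZeroDivisors A, IsUnit (algebraMap A (FractionRing S) a) := by
  haveI := Hens.strictHenselization_flat A S
  haveI : Module.FaithfullyFlat A S := Module.FaithfullyFlat.of_flat_of_isLocalHom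
  have hSK : Function.Injective (algebraMap S (FractionRing S)) := IsFractionRing.injective S (FractionRing S)
  refine ⟨hSK, fun x y h => ?_, fun a ha => ?_⟩
  · rw [IsScalarTower.algebraMap_apply A S (FractionRing S),
      IsScalarTower.algebraMap_apply A S (FractionRing S)] at h
    exact FaithfulSMul.algebraMap_injective A S (hSK h)
  · rw [IsScalarTower.algebraMap_apply A S (FractionRing S)]
    refine IsLocalization.map_units _ (⟨_, ?_⟩ : nonZeroDivisors S)
    have h1 : IsSMulRegular S (algebraMap A S a) := IsSMulRegular.of_flat (IsSMulRegular.of_right_eq_zero_of_smul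
      fun y hy => (mul_left_mem_nonZeroDivisors_eq_zero_iff ha).1 hy)
    rw [mem_nonZeroDivisors_iff_right]
    exact fun y hy => h1 (by
      show algebraMap A S a • y = algebraMap A S a • (0 : S)
      rw [smul_zero, smul_eq_mul, mul_comm, hy])

set_option maxHeartbeats 2000000 in
set_option synthInstance.maxHeartbeats 200000 in
theorem normalization_conditions_of_essEtale (hA : EGA4.IsExcellent A) (D : Subalgebra A S) [IsLocalRing D]
    [IsLocalHom (algebraMap D S)] (hD : EGA4loc.IsEssentiallyEtale A D)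
    (A' D' : Subalgebra A (FractionRing S))
    (hA' : ∀ x : (FractionRing S), x ∈ A' ↔ (IsIntegral A x ∧
      ∃ a ∈ nonZeroDivisors A, ∃ b : A, algebraMap A (FractionRing S) a * x = algebraMap A (FractionRing S) b))
    (hD' : ∀ x : (FractionRing S), x ∈ D' ↔ (IsIntegral D x ∧
      ∃ a ∈ nonZeroDivisors A, ∃ d ∈ D, algebraMap A (FractionRing S) a * x = algebraMap S (FractionRing S) d))
    (hle : A' ≤ D') (ι : D →ₐ[A] D') (hι : ∀ d : D, (ι d : (FractionRing S)) = algebraMap S (FractionRing S) d) :
      ({N : Ideal D' | N.IsMaximal}.Finite ∧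
        Function.Surjective ((Ideal.Quotient.mkₐ A (Ideal.jacobson (⊥ : Ideal D'))).comp
          (Algebra.TensorProduct.productMap (Subalgebra.inclusion hle) ι)) ∧
        RingHom.ker ((Ideal.Quotient.mkₐ A (Ideal.jacobson (⊥ : Ideal D'))).comp
          (Algebra.TensorProduct.productMap (Subalgebra.inclusion hle) ι)) =
          (Ideal.jacobson (⊥ : Ideal A')).map
              (Algebra.TensorProduct.includeLeft : A' →ₐ[A] A' ⊗[A] D) ⊔
            (maximalIdeal D).map
              (Algebra.TensorProduct.includeRight : D →ₐ[A] A' ⊗[A] D)) := by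
  classical
  obtain ⟨hSK, hAK, hau⟩ := injective_and_isUnit_strictHenselization A S
  haveI : IsLocalHom (algebraMap A D) := ⟨fun a ha => by
    have := ha.map (algebraMap D S)
    rw [← IsScalarTower.algebraMap_apply] at this
    exact isUnit_of_map_unit _ _ this⟩
  let g : D →ₐ[A] FractionRing S := (IsScalarTower.toAlgHom A S (FractionRing S)).comp D.val
  obtain ⟨hinj, hrange⟩ := normalization_tensor A D (FractionRing S) hD g
    (hSK.comp Subtype.val_injective) hau A' hA'
  let φ := Algebra.TensorProduct.productMap (Subalgebra.inclusion hle) ι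
  have hφ : ∀ w, (φ w : FractionRing S) = Algebra.TensorProduct.productMap A'.val g w := by
    intro w
    induction w using TensorProduct.induction_on with
    | zero => simp
    | add u v hu hv => simp only [map_add, Subalgebra.coe_add, hu, hv]
    | tmul c d =>
      rw [Algebra.TensorProduct.productMap_apply_tmul, Algebra.TensorProduct.productMap_apply_tmul,
        Subalgebra.coe_mul, hι]
      rfl
  have hbij : Function.Bijective φ := by
    refine ⟨fun u v h => hinj (by rw [← hφ, ← hφ, h]), fun x => ?_⟩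
    obtain ⟨hi, a, ha, d, hd, hd'⟩ := (hD' x).1 x.2
    obtain ⟨w, hw⟩ := (hrange x).2 ⟨hi, a, ha, ⟨d, hd⟩, hd'⟩
    exact ⟨w, Subtype.ext ((hφ w).trans hw)⟩
  haveI : Module.Finite A A' := finite_normalization_base A (FractionRing S) hA hAK hau A' hA'
  haveI : Algebra.IsIntegral A A' := Algebra.IsIntegral.of_finite A A'
  haveI : Finite (MaximalSpectrum A') := Hens.finite_maximalSpectrum (A := A) (B := A')
  refine ⟨?_, Ideal.Quotient.mk_surjective.comp hbij.2, ?_⟩
  · letI : Algebra D (A' ⊗[A] D) := Algebra.TensorProduct.rightAlgebra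
    haveI : Module.Finite D (A' ⊗[A] D) := by
      haveI : Module.Finite D (D ⊗[A] A') := inferInstance
      exact Module.Finite.equiv (Algebra.TensorProduct.commRight A D A').toLinearEquiv
    haveI : Finite (MaximalSpectrum (A' ⊗[A] D)) := Hens.finite_maximalSpectrum (A := D) (B := A' ⊗[A] D)
    refine (Set.finite_range fun M : MaximalSpectrum (A' ⊗[A] D) =>
      Ideal.map φ.toRingHom M.asIdeal).subset fun N hN => ?_
    haveI : N.IsMaximal := hN
    exact ⟨⟨N.comap φ.toRingHom, Ideal.comap_isMaximal_of_surjective _ hbij.2⟩,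
      Ideal.map_comap_of_surjective _ hbij.2 N⟩
  · rw [← isReduced_and_jacobson A D A' hD]
    ext w
    show Ideal.Quotient.mk _ (φ w) = 0 ↔ _
    rw [Ideal.Quotient.eq_zero_iff_mem]
    show w ∈ (Ideal.jacobson (⊥ : Ideal D')).comap φ.toRingHom ↔ _
    have h := comap_jacobson_bot (R := ↥A' ⊗[A] ↥D) (S := ↥D') φ.toRingHom hbij
    exact SetLike.ext_iff.1 h w

set_option maxHeartbeats 2000000 in
set_option synthInstance.maxHeartbeats 200000 in
theorem essEtale_of_normalization_conditions (hA : EGA4.IsExcellent A) (D : Subalgebra A S) [IsLocalRing D]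
    [IsLocalHom (algebraMap D S)]
    (hfg : ∃ t : Finset (FractionRing D), ∀ x : FractionRing D, ∃ a ∈ nonZeroDivisors A,
      algebraMap A (FractionRing D) a * x ∈ Algebra.adjoin A (t : Set (FractionRing D)))
    (A' D' : Subalgebra A (FractionRing S))
    (hA' : ∀ x : (FractionRing S), x ∈ A' ↔ (IsIntegral A x ∧
      ∃ a ∈ nonZeroDivisors A, ∃ b : A, algebraMap A (FractionRing S) a * x = algebraMap A (FractionRing S) b))
    (hD' : ∀ x : (FractionRing S), x ∈ D' ↔ (IsIntegral D x ∧
      ∃ a ∈ nonZeroDivisors A, ∃ d ∈ D, algebraMap A (FractionRing S) a * x = algebraMap S (FractionRing S) d))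
    (hle : A' ≤ D') (ι : D →ₐ[A] D') (hι : ∀ d : D, (ι d : (FractionRing S)) = algebraMap S (FractionRing S) d)
    (hfin : {N : Ideal D' | N.IsMaximal}.Finite)
    (hsurj : Function.Surjective ((Ideal.Quotient.mkₐ A (Ideal.jacobson (⊥ : Ideal D'))).comp
          (Algebra.TensorProduct.productMap (Subalgebra.inclusion hle) ι))) :
    EGA4loc.IsEssentiallyEtale A D := by
  classical
  haveI := hA.1
  have hmin := minimalPrimes.finite_of_isNoetherianRing A
  obtain ⟨hSK, hAK, hau⟩ := injective_and_isUnit_strictHenselization A S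
  obtain ⟨E, hDE, hEl, hE⟩ := (fg_fractionRing_iff A S hmin D).1 hfg
  haveI := hEl
  obtain ⟨hfe, hef⟩ := Hens.essEtale_formallyEtale hE
  haveI hAE : IsLocalHom (algebraMap A E) := ⟨fun a ha => by
    have := ha.map E.val
    rw [AlgHom.commutes] at this
    exact isUnit_of_map_unit _ _ this⟩
  have hEloc : ∀ e : E, IsUnit (e : S) → IsUnit e := fun e he => by
    by_contra hne
    have h1 : e ∈ Ideal.map (algebraMap A E) (maximalIdeal A) := by
      rw [Algebra.FormallyUnramified.map_maximalIdeal]
      exact hne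
    have h2 : (e : S) ∈ maximalIdeal S := by
      have h3 := Ideal.mem_map_of_mem E.val.toRingHom h1
      rw [Ideal.map_map, show E.val.toRingHom.comp (algebraMap A E) = algebraMap A S from E.val.comp_algebraMap] at h3
      exact map_maximalIdeal_le (algebraMap A S) h3
    exact h2 he
  let D2 : Subalgebra A E := D.comap E.val
  let e : D2 ≃ₐ[A] D := AlgEquiv.ofBijective ((E.val.comp D2.val).codRestrict D fun x => x.2)
    ⟨fun x y h => Subtype.ext (Subtype.ext (congrArg (fun z : D => (z : S)) h)),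
      fun d => ⟨⟨⟨d, hDE d.2⟩, d.2⟩, rfl⟩⟩
  haveI : IsLocalRing D2 := e.symm.toRingEquiv.isLocalRing
  haveI : IsLocalHom (algebraMap D2 E) := ⟨fun x hx => by
    have h1 : IsUnit (algebraMap D S (e x)) := hx.map E.val
    have h2 := (isUnit_of_map_unit _ _ h1).map e.symm
    rwa [AlgEquiv.symm_apply_apply] at h2⟩
  -- transport to `FractionRing E`
  obtain ⟨hloc, -⟩ := isLocalization_fractionRing_and_fg A E hmin hE
  let F := FractionRing E
  let K := FractionRing S
  let gE : E →ₐ[A] K := (IsScalarTower.toAlgHom A S K).comp E.val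
  have hgE : Function.Injective gE := hSK.comp Subtype.val_injective
  let ψ : F →ₐ[A] K := IsLocalization.liftAlgHom (M := (nonZeroDivisors A).map (algebraMap A E)) (f := gE) fun y => by
    obtain ⟨a, ha, hay⟩ := y.2
    show IsUnit (gE (y : E))
    rw [← hay, gE.commutes]
    exact hau a ha
  have hψe : ∀ x, ψ (algebraMap E F x) = gE x := fun x => IsLocalization.lift_eq _ x
  have hψinj : Function.Injective ψ := by
    refine (injective_iff_map_eq_zero ψ).2 fun z hz => ?_
    obtain ⟨⟨x, n⟩, hxn⟩ := IsLocalization.surj ((nonZeroDivisors A).map (algebraMap A E)) z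
    have h0 : gE x = 0 := by rw [← hψe, ← hxn, map_mul, hz, zero_mul]
    rw [show x = 0 from hgE (h0.trans (map_zero gE).symm), map_zero] at hxn
    exact (IsLocalization.map_units F n).mul_left_eq_zero.1 hxn
  have hint : ∀ x : F, IsIntegral D2 x ↔ IsIntegral D (ψ x) := by
    intro x
    have hcomp : (algebraMap D K).comp e.toRingEquiv.toRingHom = (ψ : F →+* K).comp (algebraMap D2 F) :=
      RingHom.ext fun d => (hψe (d : E)).symm
    constructor
    · rintro ⟨p, hp, hp0⟩
      refine ⟨p.map e.toRingEquiv.toRingHom, hp.map _, ?_⟩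
      rw [Polynomial.eval₂_map, hcomp]
      show Polynomial.eval₂ ((ψ : F →+* K).comp (algebraMap D2 F)) ((ψ : F →+* K) x) p = 0
      rw [← Polynomial.hom_eval₂, hp0, map_zero]
    · rintro ⟨p, hp, hp0⟩
      refine ⟨p.map e.symm.toRingEquiv.toRingHom, hp.map _, hψinj ?_⟩
      rw [map_zero, ← AlgHom.coe_toRingHom, Polynomial.hom_eval₂, ← hcomp, Polynomial.eval₂_map]
      refine Eq.trans ?_ hp0
      congr 1
      exact RingHom.ext fun d => congrArg (algebraMap D K) (e.apply_symm_apply d)
  let A₁ : Subalgebra A F := A'.comap ψ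
  let D₁ : Subalgebra A F := D'.comap ψ
  have hA₁ : ∀ x : F, x ∈ A₁ ↔ (IsIntegral A x ∧
      ∃ a ∈ nonZeroDivisors A, ∃ b : A, algebraMap A F a * x = algebraMap A F b) := fun x => by
    show ψ x ∈ A' ↔ _
    rw [hA', isIntegral_algHom_iff ψ hψinj]
    refine and_congr Iff.rfl (exists_congr fun a => and_congr Iff.rfl (exists_congr fun b => ?_))
    rw [← hψinj.eq_iff (a := algebraMap A F a * x), map_mul, AlgHom.commutes, AlgHom.commutes]
  have hD₁ : ∀ x : F, x ∈ D₁ ↔ (IsIntegral D2 x ∧
      ∃ a ∈ nonZeroDivisors A, ∃ d ∈ D2, algebraMap A F a * x = algebraMap E F d) := fun x => by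
    show ψ x ∈ D' ↔ _
    rw [hD', ← hint]
    refine and_congr Iff.rfl (exists_congr fun a => and_congr Iff.rfl ⟨?_, ?_⟩)
    · rintro ⟨d, hd, h⟩
      refine ⟨⟨d, hDE hd⟩, hd, hψinj ?_⟩
      rw [map_mul, AlgHom.commutes, hψe]
      exact h
    · rintro ⟨d, hd, h⟩
      refine ⟨(d : S), hd, ?_⟩
      have := congrArg ψ h
      rw [map_mul, AlgHom.commutes, hψe] at this
      exact this
  have hψD : ∀ y : D', ∃ x : D₁, ψ x = y := fun y => by
    obtain ⟨-, a, ha, d, hd, h⟩ := (hD' y).1 y.2
    obtain ⟨u, hu⟩ := IsLocalization.map_units F (⟨_, ⟨a, ha, rfl⟩⟩ : (nonZeroDivisors A).map (algebraMap A E))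
    rw [← IsScalarTower.algebraMap_apply] at hu
    have h1 : ψ ((↑u⁻¹ : F) * algebraMap E F ⟨d, hDE hd⟩) = y := by
      apply (hau a ha).mul_left_cancel
      rw [h, ← AlgHom.commutes ψ a, ← map_mul, ← mul_assoc, ← hu, u.mul_inv, one_mul, hψe]
      rfl
    exact ⟨⟨_, show ψ _ ∈ D' by rw [h1]; exact y.2⟩, h1⟩
  let ρ : D₁ →ₐ[A] D' := (ψ.comp D₁.val).codRestrict D' fun x => x.2
  have hρ : Function.Bijective ρ := ⟨fun x y h => Subtype.ext (hψinj (congrArg Subtype.val h)), fun y => by
    obtain ⟨x, hx⟩ := hψD y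
    exact ⟨x, Subtype.ext hx⟩⟩
  have hfin₁ : {N : Ideal D₁ | N.IsMaximal}.Finite := by
    refine (hfin.image fun N : Ideal D' => N.comap ρ.toRingHom).subset fun N hN => ?_
    haveI : N.IsMaximal := hN
    refine ⟨N.map ρ.toRingHom, Ideal.IsMaximal.map_bijective _ hρ hN, ?_⟩
    exact Ideal.comap_map_of_bijective _ hρ
  have hsurj₁ : ∀ x : D₁, ∃ y : D₁, (y : F) ∈ A₁ ⊔ ((IsScalarTower.toAlgHom A E F).comp D2.val).range ∧
      ∀ N : Ideal D₁, N.IsMaximal → y - x ∈ N := by
    intro x
    obtain ⟨w, hw⟩ := hsurj (Ideal.Quotient.mk _ (ρ x))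
    have hwJ : Algebra.TensorProduct.productMap (Subalgebra.inclusion hle) ι w - ρ x ∈
        Ideal.jacobson (⊥ : Ideal D') := (Ideal.Quotient.mk_eq_mk_iff_sub_mem _ _).1 hw
    have hlift : ∀ w : A' ⊗[A] D, ∃ y ∈ A₁ ⊔ ((IsScalarTower.toAlgHom A E F).comp D2.val).range,
        ψ y = (Algebra.TensorProduct.productMap (Subalgebra.inclusion hle) ι w : D') := by
      intro w
      induction w using TensorProduct.induction_on with
      | zero => exact ⟨0, zero_mem _, by simp⟩
      | add u v hu hv =>
        obtain ⟨u', hu', hu⟩ := hu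
        obtain ⟨v', hv', hv⟩ := hv
        exact ⟨u' + v', add_mem hu' hv', by rw [map_add, map_add, Subalgebra.coe_add, hu, hv]⟩
      | tmul c d =>
        obtain ⟨c', hc'⟩ := hψD (Subalgebra.inclusion hle c)
        refine ⟨(c' : F) * algebraMap E F ⟨d, hDE d.2⟩, Subalgebra.mul_mem _ ?_ ?_, ?_⟩
        · refine (le_sup_left : A₁ ≤ _) ?_
          show ψ (c' : F) ∈ A'
          rw [hc']
          exact c.2
        · exact (le_sup_right : ((IsScalarTower.toAlgHom A E F).comp D2.val).range ≤ _)
            ⟨⟨⟨d, hDE d.2⟩, d.2⟩, rfl⟩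
        · rw [map_mul, hψe, hc', Algebra.TensorProduct.productMap_apply_tmul, Subalgebra.coe_mul, hι]
          rfl
    obtain ⟨y, hy, hyw⟩ := hlift w
    have hyD : ψ y ∈ D' := by rw [hyw]; exact SetLike.coe_mem _
    refine ⟨⟨y, hyD⟩, hy, fun N hN => ?_⟩
    haveI := hN
    have h1 : (N.map ρ.toRingHom).IsMaximal := Ideal.IsMaximal.map_bijective _ hρ hN
    have h2 : ρ (⟨y, hyD⟩ - x) ∈ N.map ρ.toRingHom := by
      rw [map_sub, show ρ ⟨y, hyD⟩ = Algebra.TensorProduct.productMap (Subalgebra.inclusion hle) ι w from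
        Subtype.ext hyw]
      exact Ideal.mem_sInf.1 hwJ ⟨bot_le, h1⟩
    have h3 : (⟨y, hyD⟩ - x : D₁) ∈ (N.map ρ.toRingHom).comap ρ.toRingHom := h2
    rwa [Ideal.comap_map_of_bijective ρ.toRingHom hρ] at h3
  obtain ⟨hess, hm⟩ := essFiniteType_and_map_maximalIdeal A E hA hE D2 A₁ D₁ hA₁ hD₁ hfin₁ hsurj₁
  haveI : Algebra.EssFiniteType A D := (Algebra.EssFiniteType.iff_of_algEquiv e).1 hess
  refine isEssentiallyEtale_of_map_maximalIdeal A S D ?_
  have h1 := congrArg (Ideal.map e.toRingEquiv.toRingHom) hm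
  rw [Ideal.map_map, show e.toRingEquiv.toRingHom.comp (algebraMap A D2) = algebraMap A D from
    RingHom.ext fun a => e.commutes a] at h1
  rw [h1]
  haveI := Ideal.IsMaximal.map_bijective e.toRingEquiv.toRingHom e.toRingEquiv.bijective (maximalIdeal.isMaximal D2)
  exact eq_maximalIdeal inferInstance

end Groth.Agent.SHens6
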