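import Groth.Agent.Lib.Hens.EssEtale
import Groth.Agent.Lib.Hens.TensorQF
import Groth.Agent.Lib.Hens.FiniteType

/-! # Strict henselization of a finite local algebra -/

set_option autoImplicit false
universe u

open IsLocalRing
open scoped TensorProduct

namespace Groth.Agent.SHens6

attribute [local instance] Algebra.TensorProduct.rightAlgebra

theorem residue_comp_eq {A B C : Type u} [CommRing A] [CommRing B] [CommRing C] [IsLocalRing A] [IsLocalRing B]
    [IsLocalRing C] (f : A →+* B) (g : B →+* C) [IsLocalHom f] [IsLocalHom g] [IsLocalHom (g.comp f)]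
    (h : A →+* C) [IsLocalHom h] (he : g.comp f = h) :
    (ResidueField.map g).comp (ResidueField.map f) = ResidueField.map h := by
  refine RingHom.ext fun x => ?_
  obtain ⟨a, rfl⟩ := residue_surjective x
  show residue C (g (f a)) = residue C (h a)
  rw [← he]; rfl

theorem exists_strictHenselization_finite (A B S T : Type u) [CommRing A] [IsLocalRing A]
    [CommRing B] [IsLocalRing B] [Algebra A B] [Module.Finite A B]
    [CommRing S] [IsLocalRing S] [Algebra A S] [IsLocalHom (algebraMap A S)] [Hensel.IsStrictHenselization A S]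
    [CommRing T] [IsLocalRing T] [Algebra B T] [IsLocalHom (algebraMap B T)] [Hensel.IsStrictHenselization B T] :
    ∃ (q : Ideal (B ⊗[A] S)) (_ : q.IsMaximal), Nonempty (Localization.AtPrime q ≃ₐ[B] T) := by
  haveI : HenselianLocalRing S := Hensel.IsStrictHenselization.henselian (R := A)
  haveI : HenselianLocalRing T := Hensel.IsStrictHenselization.henselian (R := B)
  haveI := (Hensel.IsStrictHenselization.isSepClosure (R := A) (S := S)).1
  haveI := (Hensel.IsStrictHenselization.isSepClosure (R := B) (S := T)).1
  haveI hsepT := (Hensel.IsStrictHenselization.isSepClosure (R := B) (S := T)).2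
  letI : Algebra A T := ((algebraMap B T).comp (algebraMap A B)).toAlgebra
  haveI : IsScalarTower A B T := IsScalarTower.of_algebraMap_eq fun _ => rfl
  haveI : Algebra.IsIntegral A B := Algebra.IsIntegral.of_finite A B
  haveI : IsLocalHom (algebraMap A B) := by
    refine ⟨fun a ha => by_contra fun hna => ?_⟩
    haveI : ((maximalIdeal B).comap (algebraMap A B)).IsMaximal :=
      Ideal.isMaximal_comap_of_isIntegral_of_isMaximal (maximalIdeal B)
    exact (show algebraMap A B a ∈ maximalIdeal B from by
      rw [← Ideal.mem_comap, IsLocalRing.eq_maximalIdeal this]; exact hna) ha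
  haveI : IsLocalHom (algebraMap A T) := RingHom.isLocalHom_comp _ _
  obtain ⟨τ, hτ⟩ := Hens.exists_residue_lift A S (algebraMap A T)
  obtain ⟨g, ⟨hg, hgτ⟩, -⟩ := Hensel.IsStrictHenselization.universal (R := A) (S := S) T (algebraMap A T) τ hτ
  let gA : S →ₐ[A] T := { g with commutes' := fun a => congr($hg a) }
  haveI : IsLocalHom (g.comp (algebraMap A S)) := by rw [hg]; infer_instance
  haveI hgl : IsLocalHom g := ⟨fun x hx => by
    by_contra hn
    have h1 : residue T (g x) = 0 := by
      rw [hgτ, residue_eq_zero_iff _ |>.2 hn, map_zero]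
    exact (residue_eq_zero_iff _).1 h1 hx⟩
  let ψ : B ⊗[A] S →ₐ[A] T := Algebra.TensorProduct.lift (IsScalarTower.toAlgHom A B T) gA fun _ _ => Commute.all _ _
  have hψB : ∀ b, ψ (b ⊗ₜ 1) = algebraMap B T b := fun b => by simp [ψ]
  have hψS : ∀ s, ψ (1 ⊗ₜ s) = g s := fun s => by simp [ψ, gA]
  let q : Ideal (B ⊗[A] S) := (maximalIdeal T).comap ψ.toRingHom
  haveI : Module.Finite S (B ⊗[A] S) :=
    Module.Finite.equiv (Algebra.TensorProduct.commRight A S B).toLinearEquiv
  haveI : Algebra.IsIntegral S (B ⊗[A] S) := Algebra.IsIntegral.of_finite _ _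
  have hover : q.comap (algebraMap S (B ⊗[A] S)) = maximalIdeal S := by
    rw [Ideal.comap_comap]
    ext s
    show ψ (1 ⊗ₜ s) ∈ maximalIdeal T ↔ s ∈ maximalIdeal S
    rw [hψS, mem_maximalIdeal, mem_maximalIdeal, mem_nonunits_iff, mem_nonunits_iff, not_iff_not]
    exact ⟨fun h => hgl.map_nonunit s h, fun h => h.map g⟩
  haveI hqmax : q.IsMaximal := Ideal.isMaximal_of_isIntegral_of_isMaximal_comap (R := S) q (by
    rw [hover]; infer_instance)
  refine ⟨q, hqmax, ?_⟩
  haveI : q.LiesOver (maximalIdeal S) := ⟨hover.symm⟩
  haveI : Algebra.QuasiFinite S (B ⊗[A] S) := inferInstance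
  haveI : Algebra.FiniteType S (B ⊗[A] S) := inferInstance
  let L := Localization.AtPrime q
  haveI : Module.Finite S L := Hens.finite_localization_atPrime q ⟨hover.symm⟩ inferInstance
  haveI : IsLocalHom (algebraMap S L) := ⟨fun s hs => by
    rw [IsScalarTower.algebraMap_apply S (B ⊗[A] S) L, IsLocalization.AtPrime.isUnit_to_map_iff L q] at hs
    by_contra hn
    exact hs (Ideal.mem_comap.1 (hover.symm ▸ (hn : s ∈ maximalIdeal S)))⟩
  obtain ⟨hLh, hLsep⟩ := Hens.isStrictlyHenselian_of_finite S L
  haveI := hLh
  haveI := hLsep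
  haveI : IsLocalHom (algebraMap B L) := ⟨fun b hb => by
    rw [IsScalarTower.algebraMap_apply B (B ⊗[A] S) L, IsLocalization.AtPrime.isUnit_to_map_iff L q] at hb
    by_contra hn
    refine hb (show ψ (b ⊗ₜ 1) ∈ maximalIdeal T from ?_)
    rw [hψB]
    exact map_nonunit (algebraMap B T) b hn⟩
  let φ : L →+* T := IsLocalization.lift (M := q.primeCompl) (g := ψ.toRingHom) fun y => of_not_not fun hn => y.2 hn
  have hφ : ∀ z, φ (algebraMap _ L z) = ψ z := fun z => IsLocalization.lift_eq _ z
  haveI hφl : IsLocalHom φ := Hens.isLocalHom_lift q φ (by rw [IsLocalization.lift_comp])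
  have hφB : φ.comp (algebraMap B L) = algebraMap B T := RingHom.ext fun b => by
    rw [RingHom.comp_apply, IsScalarTower.algebraMap_apply B (B ⊗[A] S) L, hφ]; exact hψB b
  haveI : IsLocalHom (φ.comp (algebraMap B L)) := RingHom.isLocalHom_comp _ _
  have hres : (ResidueField.map φ).comp (ResidueField.map (algebraMap B L)) = algebraMap _ (ResidueField T) :=
    residue_comp_eq _ _ _ hφB
  let e := RingEquiv.ofBijective (ResidueField.map φ)
    ⟨(ResidueField.map φ).injective, Hens.surjective_of_isSepClosed _ _ hres⟩
  have he : ∀ y, e.symm (ResidueField.map φ y) = y := fun y => e.symm_apply_apply y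
  obtain ⟨h, ⟨hh, hhτ⟩, -⟩ := Hensel.IsStrictHenselization.universal (R := B) (S := T) L (algebraMap B L)
    e.symm.toRingHom (by
      refine RingHom.ext fun x => ?_
      show e.symm (algebraMap _ (ResidueField T) x) = ResidueField.map (algebraMap B L) x
      rw [← hres, RingHom.comp_apply, he])
  have h1 : φ.comp h = RingHom.id T := by
    haveI : IsLocalHom ((RingHom.id T).comp (algebraMap B T)) := by rw [RingHom.id_comp]; infer_instance
    refine Hens.strictHenselization_hom_ext B T _ _ ?_ fun x => ?_
    · rw [RingHom.id_comp, RingHom.comp_assoc, hh, hφB]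
    · show ResidueField.map φ (residue L (h x)) = residue T x
      rw [hhτ]
      exact e.apply_symm_apply _
  have h2 : h.comp φ = RingHom.id L := by
    let iS : S →+* L := algebraMap S L
    letI : Algebra A L := ((algebraMap B L).comp (algebraMap A B)).toAlgebra
    haveI : IsLocalHom (algebraMap A L) := RingHom.isLocalHom_comp _ _
    have hiA : iS.comp (algebraMap A S) = algebraMap A L := RingHom.ext fun a => by
      show algebraMap S L (algebraMap A S a) = algebraMap B L (algebraMap A B a)
      rw [IsScalarTower.algebraMap_apply S (B ⊗[A] S) L, IsScalarTower.algebraMap_apply B (B ⊗[A] S) L]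
      congr 1
      exact ((Algebra.TensorProduct.includeRight : S →ₐ[A] B ⊗[A] S).commutes a).trans
        ((Algebra.TensorProduct.includeLeft : B →ₐ[A] B ⊗[A] S).commutes a).symm
    haveI : IsLocalHom (iS.comp (algebraMap A S)) := by rw [hiA]; infer_instance
    have hS : (h.comp φ).comp iS = iS := by
      refine Hens.strictHenselization_hom_ext A S _ _ ?_ fun x => ?_
      · refine RingHom.ext fun a => ?_
        have : iS (algebraMap A S a) = algebraMap B L (algebraMap A B a) := congr($hiA a)
        simp only [RingHom.comp_apply, this]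
        rw [show φ (algebraMap B L (algebraMap A B a)) = algebraMap B T (algebraMap A B a) from congr($hφB _)]
        exact congr($hh _)
      · show residue L (h (φ (iS x))) = residue L (iS x)
        rw [hhτ]
        exact he (residue L (iS x))
    refine IsLocalization.ringHom_ext q.primeCompl (RingHom.ext fun z => ?_)
    simp only [RingHom.comp_apply, RingHom.id_apply]
    induction z with
    | zero => simp
    | add x y hx hy => simp only [map_add, hx, hy]
    | tmul b s =>
      have hb : algebraMap (B ⊗[A] S) L (b ⊗ₜ 1) = algebraMap B L b :=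
        (IsScalarTower.algebraMap_apply B (B ⊗[A] S) L b).symm
      have hs : algebraMap (B ⊗[A] S) L (1 ⊗ₜ s) = iS s :=
        (IsScalarTower.algebraMap_apply S (B ⊗[A] S) L s).symm
      rw [show b ⊗ₜ[A] s = (b ⊗ₜ 1) * (1 ⊗ₜ s) by simp, map_mul, map_mul, map_mul, hb, hs,
        show φ (algebraMap B L b) = algebraMap B T b from congr($hφB b),
        show h (φ (iS s)) = iS s from congr($hS s)]
      exact congrArg (· * iS s) congr($hh b)
  exact ⟨AlgEquiv.ofRingEquiv (f := RingEquiv.ofRingHom φ h h1 h2) fun b => congr($hφB b)⟩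

end Groth.Agent.SHens6
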