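import Groth.Agent.Lib.Branch14.Normal
import Groth.Prelude.Def_EssEt
import Mathlib

/-! # Total fraction rings of essentially étale algebras -/

set_option autoImplicit false
universe u

open IsLocalRing
open scoped TensorProduct

namespace Groth.Agent.SHens6

theorem isLocalization_fractionRing_and_fg (A E : Type u) [CommRing A] [IsLocalRing A] [IsReduced A]
    (hmin : (minimalPrimes A).Finite) [CommRing E] [Algebra A E] (hE : EGA4loc.IsEssentiallyEtale A E) :
    IsLocalization ((nonZeroDivisors A).map (algebraMap A E)) (FractionRing E) ∧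
      ∃ t : Finset (FractionRing E), ∀ x : FractionRing E, ∃ a ∈ nonZeroDivisors A,
        algebraMap A (FractionRing E) a * x ∈ Submodule.span A (t : Set (FractionRing E)) := by
  classical
  obtain ⟨C, _, _, q, _, hC, hq, ⟨e⟩⟩ := hE
  haveI := hC
  haveI : Module.Flat C (Localization.AtPrime q) := IsLocalization.flat _ q.primeCompl
  haveI : Module.Flat A (Localization.AtPrime q) := Module.Flat.trans A C _
  haveI : Module.Flat A E := Module.Flat.of_linearEquiv e.toLinearEquiv
  let N : Submonoid E := (nonZeroDivisors A).map (algebraMap A E)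
  have hN : N ≤ nonZeroDivisors E := by
    rintro _ ⟨a, ha, rfl⟩
    have h1 : IsSMulRegular E (algebraMap A E a) := IsSMulRegular.of_flat (IsSMulRegular.of_right_eq_zero_of_smul
      fun y hy => (mul_left_mem_nonZeroDivisors_eq_zero_iff ha).1 hy)
    rw [mem_nonZeroDivisors_iff_right]
    exact fun y hy => h1 (by show algebraMap A E a • y = algebraMap A E a • (0 : E); rw [smul_zero, smul_eq_mul, mul_comm, hy])
  let K := FractionRing A
  let E' := Localization N
  have hKu : ∀ a : nonZeroDivisors A, IsUnit (algebraMap A E' a) := fun a => by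
    rw [IsScalarTower.algebraMap_apply A E E']
    exact IsLocalization.map_units E' (⟨_, ⟨a.1, a.2, rfl⟩⟩ : N)
  let ι : K →+* E' := IsLocalization.lift hKu
  letI : Algebra K E' := ι.toAlgebra
  haveI : IsScalarTower A K E' := IsScalarTower.of_algebraMap_eq fun a => (IsLocalization.lift_eq hKu a).symm
  haveI : IsArtinianRing K := Branch14.isArtinianRing_fractionRing A hmin
  let CK := K ⊗[A] C
  haveI : Module.Finite K CK := Module.Finite.of_quasiFinite
  haveI : IsArtinianRing CK := IsArtinianRing.of_finite K CK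
  let γ : C →ₐ[A] E' := (IsScalarTower.toAlgHom A E E').comp
    (e.symm.toAlgHom.comp (IsScalarTower.toAlgHom A C (Localization.AtPrime q)))
  let ψ : CK →ₐ[K] E' := Algebra.TensorProduct.lift (Algebra.ofId K E') γ fun _ _ => Commute.all _ _
  have hψ : ∀ c, ψ (1 ⊗ₜ c) = γ c := fun c => by
    rw [Algebra.TensorProduct.lift_tmul, map_one, one_mul]
  haveI : IsArtinianRing ψ.range := ψ.rangeRestrict_surjective.isArtinianRing (f := ψ.rangeRestrict.toRingHom)
  have hinv : ∀ z ∈ ψ.range, ∀ y, z * y = 1 → y ∈ ψ.range := by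
    intro z hz y hy
    obtain ⟨w, hw⟩ := (IsArtinianRing.isUnit_iff_mem_nonZeroDivisors.2 (by
      rw [mem_nonZeroDivisors_iff_right]
      intro r hr
      refine Subtype.ext ?_
      have h0 : (r : E') * z = 0 := congrArg Subtype.val hr
      calc (r : E') = (r : E') * z * y := by rw [mul_assoc, hy, mul_one]
        _ = 0 := by rw [h0, zero_mul]) : IsUnit (⟨z, hz⟩ : ψ.range))
    have h2 : z * ((↑w⁻¹ : ψ.range) : E') = 1 := by
      have := congrArg Subtype.val w.mul_inv
      rw [Subalgebra.coe_mul, hw] at this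
      exact this
    have h3 : y = ((↑w⁻¹ : ψ.range) : E') := by
      calc y = y * (z * ((↑w⁻¹ : ψ.range) : E')) := by rw [h2, mul_one]
        _ = (z * y) * ((↑w⁻¹ : ψ.range) : E') := by ring
        _ = _ := by rw [hy, one_mul]
    rw [h3]; exact (↑w⁻¹ : ψ.range).2
  have hEr : ∀ x : E, algebraMap E E' x ∈ ψ.range := by
    intro x
    obtain ⟨⟨c, s⟩, hcs⟩ := IsLocalization.surj q.primeCompl (e x)
    have h1 : algebraMap E E' x * γ s = γ c := by
      show algebraMap E E' x * algebraMap E E' (e.symm (algebraMap C _ (s : C))) = algebraMap E E' (e.symm (algebraMap C _ c))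
      rw [← map_mul]
      exact congrArg _ (e.injective (by rw [map_mul, AlgEquiv.apply_symm_apply, AlgEquiv.apply_symm_apply]; exact hcs))
    obtain ⟨u, hu⟩ : IsUnit (γ s) :=
      ((IsLocalization.map_units (Localization.AtPrime q) s).map e.symm).map (algebraMap E E')
    have hsu : ((↑u⁻¹ : E')) ∈ ψ.range := hinv (γ s) ⟨1 ⊗ₜ (s : C), hψ s⟩ _ (by rw [← hu]; exact u.mul_inv)
    have : algebraMap E E' x = γ c * ↑u⁻¹ := by
      rw [← h1, mul_assoc, ← hu, u.mul_inv, mul_one]
    rw [this]
    exact mul_mem ⟨1 ⊗ₜ c, hψ c⟩ hsu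
  have hψs : Function.Surjective ψ := fun z => by
    obtain ⟨⟨x, n⟩, hxn⟩ := IsLocalization.surj N z
    obtain ⟨u, hu⟩ := IsLocalization.map_units E' n
    have hu' : ((↑u⁻¹ : E')) ∈ ψ.range := hinv _ (hEr n) _ (by rw [← hu]; exact u.mul_inv)
    have : z = algebraMap E E' x * ↑u⁻¹ := by
      rw [← hxn, mul_assoc, ← hu, u.mul_inv, mul_one]
    exact (AlgHom.mem_range (φ := ψ)).1 (this ▸ mul_mem (hEr x) hu')
  haveI : IsArtinianRing E' := hψs.isArtinianRing (f := ψ.toRingHom)
  haveI hfr : IsLocalization (nonZeroDivisors E) E' :=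
    { map_units := fun x => IsArtinianRing.isUnit_iff_mem_nonZeroDivisors.2 (by
        rw [mem_nonZeroDivisors_iff_right]
        intro z hz
        obtain ⟨⟨y, n⟩, hyn⟩ := IsLocalization.surj N z
        have h1 : algebraMap E E' (y * x) = 0 := by
          rw [map_mul, ← hyn, mul_comm z, mul_assoc, hz, mul_zero]
        obtain ⟨m, hm⟩ := (IsLocalization.map_eq_zero_iff N E' _).1 h1
        rw [← mul_assoc, mul_right_mem_nonZeroDivisors_eq_zero_iff x.2] at hm
        have h2 : algebraMap E E' y = 0 := (IsLocalization.map_eq_zero_iff N E' y).2 ⟨m, hm⟩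
        exact (IsLocalization.map_units E' n).mul_left_eq_zero.1 (hyn.trans h2))
      surj := fun z => by
        obtain ⟨⟨y, n⟩, hyn⟩ := IsLocalization.surj N z
        exact ⟨⟨y, ⟨n, hN n.2⟩⟩, hyn⟩
      exists_of_eq := fun {a b} hab => by
        obtain ⟨m, hm⟩ := IsLocalization.exists_of_eq (M := N) hab
        exact ⟨⟨m, hN m.2⟩, hm⟩ }
  let ε : E' ≃ₐ[E] FractionRing E := IsLocalization.algEquiv (nonZeroDivisors E) E' (FractionRing E)
  refine ⟨IsLocalization.isLocalization_of_algEquiv N ε, ?_⟩
  let εA : E' ≃ₐ[A] FractionRing E := ε.restrictScalars A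
  haveI : Module.Finite K E' := Module.Finite.of_surjective ψ.toLinearMap hψs
  obtain ⟨t₀, ht₀⟩ := (Module.Finite.fg_top : (⊤ : Submodule K E').FG)
  refine ⟨t₀.image εA, fun x => ?_⟩
  have key : ∀ y : E', y ∈ Submodule.span K (t₀ : Set E') →
      ∃ a ∈ nonZeroDivisors A, a • y ∈ Submodule.span A (t₀ : Set E') := by
    intro y hy
    induction hy using Submodule.span_induction with
    | mem z hz => exact ⟨1, one_mem _, by rw [one_smul]; exact Submodule.subset_span hz⟩
    | zero => exact ⟨1, one_mem _, by simp⟩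
    | add u v _ _ hu hv =>
      obtain ⟨a, ha, hu⟩ := hu
      obtain ⟨b, hb, hv⟩ := hv
      refine ⟨a * b, mul_mem ha hb, ?_⟩
      rw [smul_add]
      exact add_mem (by rw [mul_comm, mul_smul]; exact Submodule.smul_mem _ _ hu)
        (by rw [mul_smul]; exact Submodule.smul_mem _ _ hv)
    | smul k u _ hu =>
      obtain ⟨a, ha, hu⟩ := hu
      obtain ⟨⟨r, s⟩, hrs⟩ := IsLocalization.surj (nonZeroDivisors A) k
      refine ⟨(s : A) * a, mul_mem s.2 ha, ?_⟩
      have : ((s : A) * a) • k • u = r • (a • u) := by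
        rw [← algebraMap_smul K r (a • u), ← hrs, ← algebraMap_smul K ((s : A) * a) (k • u), smul_smul,
          ← algebraMap_smul K a u, smul_smul, map_mul]
        congr 1
        ring
      rw [this]
      exact Submodule.smul_mem _ _ hu
  obtain ⟨a, ha, h⟩ := key (εA.symm x) (by rw [ht₀]; trivial)
  refine ⟨a, ha, ?_⟩
  have h2 := Submodule.mem_map_of_mem (f := εA.toLinearMap) h
  rw [Submodule.map_span, ← Finset.coe_image] at h2
  simpa [Algebra.smul_def] using h2

end Groth.Agent.SHens6
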