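import Groth.Agent.Lib.SHens6.GaloisInter
import Groth.Agent.Lib.GRing6.Excellent
import Groth.Agent.Lib.Hens.Noetherian
import Groth.Agent.Lib.Hens.Local
import Mathlib

/-! # Applications of the Galois description of intermediate fields -/

set_option autoImplicit false
universe u

open IsLocalRing

namespace Groth.Agent.SHens6

variable (A S : Type u) [CommRing A] [HenselianLocalRing A] [IsNoetherianRing A]
  [CommRing S] [IsLocalRing S] [Algebra A S] [IsLocalHom (algebraMap A S)]
  [Hensel.IsStrictHenselization A S]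

section Quot

variable (Q : Ideal S) [Q.IsPrime] (t : Finset (FractionRing (S ⧸ Q)))

theorem exists_inter_quotient :
    ∃ (D' : Subalgebra A (S ⧸ Q)), (D' : Set (S ⧸ Q)) = (algebraMap (S ⧸ Q) (FractionRing (S ⧸ Q))) ⁻¹'
        (Subfield.closure (Set.range (algebraMap A (FractionRing (S ⧸ Q))) ∪
          (t : Set (FractionRing (S ⧸ Q)))) : Set (FractionRing (S ⧸ Q))) ∧
      Module.Finite A D' ∧ Algebra.FormallyUnramified A D' ∧ HenselianLocalRing D' ∧
        ∀ l ∈ Subfield.closure (Set.range (algebraMap A (FractionRing (S ⧸ Q))) ∪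
            (t : Set (FractionRing (S ⧸ Q)))),
          ∃ a ∈ D', ∃ b ∈ D', algebraMap (S ⧸ Q) (FractionRing (S ⧸ Q)) b ≠ 0 ∧
            l * algebraMap (S ⧸ Q) (FractionRing (S ⧸ Q)) b =
              algebraMap (S ⧸ Q) (FractionRing (S ⧸ Q)) a := by
  classical
  haveI : IsNoetherianRing S := Hens.strictHenselization_isNoetherianRing A S
  obtain ⟨N, E, _, hEl, -, -, -, -, hEfin, hEe, hmem, hfrac⟩ :=
    exists_inter A S Q (IsNoetherian.noetherian Q) ∅ t _ rfl
  haveI := hEfin
  haveI := hEl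
  let f : E →ₐ[A] S ⧸ Q := (Ideal.Quotient.mkₐ A Q).comp E.val
  let D' := f.range
  have hs : Function.Surjective f.rangeRestrict := f.rangeRestrict_surjective
  haveI : Nontrivial D' := inferInstance
  haveI : Module.Finite A D' := Module.Finite.of_surjective f.rangeRestrict.toLinearMap hs
  haveI : IsLocalRing D' := IsLocalRing.of_surjective' f.rangeRestrict.toRingHom hs
  haveI : Algebra.FormallyEtale A E := (Hens.essEtale_formallyEtale hEe).1
  haveI : Algebra.IsIntegral A D' := Algebra.IsIntegral.of_finite A D'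
  refine ⟨D', Set.ext fun z => ⟨?_, ?_⟩, inferInstance,
    Algebra.FormallyUnramified.of_surjective f.rangeRestrict hs,
    Hens.henselianLocalRing_of_isIntegral A D', fun l hl => ?_⟩
  · rintro ⟨e, rfl⟩
    exact (hmem e).2 ⟨e, e.2, rfl⟩
  · intro hz
    obtain ⟨x, rfl⟩ := Ideal.Quotient.mk_surjective z
    obtain ⟨e, he, hex⟩ := (hmem x).1 hz
    exact ⟨⟨e, he⟩, hex⟩
  · obtain ⟨e, he, d, hd, hd0, hld⟩ := hfrac l hl
    exact ⟨_, ⟨⟨e, he⟩, rfl⟩, _, ⟨⟨d, hd⟩, rfl⟩, hd0, hld⟩

theorem exists_extended_and_inter :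
    ∃ E : Subalgebra A S, ∃ _ : IsLocalRing E, EGA4loc.IsEssentiallyEtale A E ∧
      (∀ Q' ∈ ((Q.comap (algebraMap A S)).map (algebraMap A S)).minimalPrimes,
        Q' = Ideal.map (algebraMap E S) (Q'.comap (algebraMap E S))) ∧
      ∀ x : S, algebraMap (S ⧸ Q) (FractionRing (S ⧸ Q)) (Ideal.Quotient.mk Q x) ∈
          Subfield.closure (Set.range (algebraMap A (FractionRing (S ⧸ Q))) ∪
            (t : Set (FractionRing (S ⧸ Q)))) →
        ∃ e ∈ E, Ideal.Quotient.mk Q e = Ideal.Quotient.mk Q x := by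
  classical
  haveI : IsNoetherianRing S := Hens.strictHenselization_isNoetherianRing A S
  choose g hg using fun I : Ideal S => (IsNoetherian.noetherian I : I.FG)
  have hfin : ((Q.comap (algebraMap A S)).map (algebraMap A S)).minimalPrimes.Finite :=
    Ideal.finite_minimalPrimes_of_isNoetherianRing S _
  obtain ⟨N, E, hNl, -, hNe, hsN, hEN, -, -, -, hmem, -⟩ :=
    exists_inter A S Q (IsNoetherian.noetherian Q) (hfin.toFinset.biUnion g) t _ rfl
  refine ⟨N, hNl, hNe, fun Q' hQ' => le_antisymm ?_ (Ideal.map_le_iff_le_comap.2 le_rfl), fun x hx => ?_⟩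
  · conv_lhs => rw [← hg Q']
    rw [Submodule.span_le]
    intro y hy
    have hyQ : y ∈ Q' := by rw [← hg Q']; exact Submodule.subset_span hy
    exact Ideal.mem_map_of_mem (algebraMap N S) (x := (⟨y, hsN (Finset.mem_biUnion.2
      ⟨Q', hfin.mem_toFinset.2 hQ', hy⟩)⟩ : N)) hyQ
  · obtain ⟨e, he, hex⟩ := (hmem x).1 hx
    exact ⟨e, hEN he, hex⟩

end Quot

theorem exists_inter_of_isDomain [IsDomain S] (t : Finset (FractionRing S)) :
    ∃ D : Subalgebra A S, (D : Set S) = (algebraMap S (FractionRing S)) ⁻¹'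
        (Subfield.closure (Set.range (algebraMap A (FractionRing S)) ∪ (t : Set (FractionRing S))) :
          Set (FractionRing S)) ∧
      ∃ _ : IsLocalRing D, IsLocalHom (algebraMap D S) ∧ EGA4loc.IsEssentiallyEtale A D := by
  classical
  let F := FractionRing (S ⧸ (⊥ : Ideal S))
  let e : FractionRing S ≃+* F :=
    IsFractionRing.ringEquivOfRingEquiv (RingEquiv.quotientBot S).symm
  have he : ∀ x : S, e (algebraMap S (FractionRing S) x) =
      algebraMap (S ⧸ (⊥ : Ideal S)) F (Ideal.Quotient.mk ⊥ x) := fun x =>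
    IsFractionRing.ringEquivOfRingEquiv_algebraMap _ x
  obtain ⟨N, E, _, hEl, -, -, -, hEloc, -, hEe, hmem, -⟩ :=
    exists_inter A S ⊥ Submodule.fg_bot ∅ (t.image e) _ rfl
  refine ⟨E, Set.ext fun x => ?_, hEl, hEloc, hEe⟩
  have hA : ∀ a, e (algebraMap A (FractionRing S) a) = algebraMap A F a := fun a => by
    rw [IsScalarTower.algebraMap_apply A S (FractionRing S), he,
      IsScalarTower.algebraMap_apply A (S ⧸ (⊥ : Ideal S)) F]
    rfl
  have hmap : (Subfield.closure (Set.range (algebraMap A (FractionRing S)) ∪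
      (t : Set (FractionRing S)))).map e.toRingHom =
      Subfield.closure (Set.range (algebraMap A F) ∪ (↑(t.image e) : Set F)) := by
    rw [RingHom.map_field_closure, Set.image_union, ← Set.range_comp, Finset.coe_image]
    refine congrArg Subfield.closure (congrArg₂ _ ?_ rfl)
    exact congrArg Set.range (funext hA)
  have hinj : ∀ y : S, Ideal.Quotient.mk (⊥ : Ideal S) y = Ideal.Quotient.mk ⊥ x ↔ y = x := fun y => by
    rw [Ideal.Quotient.eq, Ideal.mem_bot, sub_eq_zero]
  show x ∈ E ↔ algebraMap S (FractionRing S) x ∈ Subfield.closure _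
  constructor
  · intro hx
    have h := (hmem x).2 ⟨x, hx, rfl⟩
    rw [← he, ← hmap] at h
    obtain ⟨y, hy, hyx⟩ := h
    exact e.injective hyx ▸ hy
  · intro hx
    have h : algebraMap (S ⧸ (⊥ : Ideal S)) F (Ideal.Quotient.mk ⊥ x) ∈
        Subfield.closure (Set.range (algebraMap A F) ∪ (↑(t.image e) : Set F)) := by
      rw [← he, ← hmap]; exact ⟨_, hx, rfl⟩
    obtain ⟨y, hy, hyx⟩ := (hmem x).1 h
    exact (hinj y).1 hyx ▸ hy

theorem exists_le_essEtale (A S : Type u) [CommRing A] [IsLocalRing A] [CommRing S] [IsLocalRing S]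
    [Algebra A S] [IsLocalHom (algebraMap A S)] [Hensel.IsStrictHenselization A S] (D : Subalgebra A S)
    [IsLocalRing D] [IsLocalHom (algebraMap D S)] [Algebra.EssFiniteType A D] :
    ∃ E : Subalgebra A S, D ≤ E ∧ ∃ _ : IsLocalRing E, EGA4loc.IsEssentiallyEtale A E := by
  classical
  obtain ⟨E, hsE, ⟨hEl, hE⟩, hdiv⟩ := exists_essEtale_ge A S
    ((Algebra.EssFiniteType.finset A D).image Subtype.val)
  refine ⟨E, fun x hx => ?_, hEl, hE⟩
  have hsub : ∀ c : Algebra.EssFiniteType.subalgebra A D, ((c : D) : S) ∈ E := by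
    rintro ⟨c, hc⟩
    have : Algebra.adjoin A ((Algebra.EssFiniteType.finset A D : Finset D) : Set D) ≤ E.comap D.val :=
      Algebra.adjoin_le fun y hy => hsE (Finset.mem_image_of_mem _ hy)
    exact this hc
  obtain ⟨⟨c, u⟩, hcu⟩ := IsLocalization.surj (Algebra.EssFiniteType.submonoid A D) (⟨x, hx⟩ : D)
  have h1 : (((u : Algebra.EssFiniteType.subalgebra A D) : D) : S) * x = ((c : D) : S) := by
    rw [mul_comm]; exact congrArg Subtype.val hcu
  obtain ⟨y, hy, hey⟩ := hdiv _ (hsub c) _ (hsub u) x h1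
  have hu : IsUnit (((u : Algebra.EssFiniteType.subalgebra A D) : D) : S) :=
    (IsLocalization.map_units D u).map (algebraMap D S)
  rwa [hu.mul_left_cancel (h1.trans hey.symm)]

end Groth.Agent.SHens6
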