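import Groth.Agent.Lib.SHens6.SubFG
import Groth.Agent.Lib.SHens6.EssEtale
import Groth.Agent.Lib.Hens.EssEtale
import Groth.Agent.Lib.Hens.FiniteType
import Mathlib

/-! # Galois finite étale subalgebras of a strict henselization of a henselian local ring -/

set_option autoImplicit false
universe u

open IsLocalRing

namespace Groth.Agent.SHens6

/-- The algebra maps from a finite essentially étale algebra to a local ring with residue field `S` form
a finite set. -/
theorem finite_algHom (A E S : Type u) [CommRing A] [IsLocalRing A] [CommRing E] [IsLocalRing E]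
    [Algebra A E] [Module.Finite A E] [CommRing S] [IsLocalRing S] [Algebra A S]
    (hE : EGA4loc.IsEssentiallyEtale A E) : Finite (E →ₐ[A] S) := by
  classical
  obtain ⟨s, hs⟩ := (inferInstance : Module.Finite A E).fg_top
  choose p hp hpx using fun x : E => Algebra.IsIntegral.isIntegral (R := A) x
  let R : (x : (s : Set E)) → Set (ResidueField S) := fun x =>
    {y | ((p x).map (algebraMap A (ResidueField S))).IsRoot y}
  haveI : ∀ x, Finite (R x) := fun x =>
    (Polynomial.finite_setOf_isRoot ((hp x).map _).ne_zero).to_subtype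
  let Φ : (E →ₐ[A] S) → ((x : (s : Set E)) → R x) := fun φ x => ⟨residue S (φ x), by
    show Polynomial.IsRoot _ _
    rw [Polynomial.IsRoot, Polynomial.eval_map]
    have h := congrArg ((IsScalarTower.toAlgHom A S (ResidueField S)).comp φ) (hpx (x : E))
    rw [map_zero] at h
    refine Eq.trans ?_ h
    show _ = ((IsScalarTower.toAlgHom A S (ResidueField S)).comp φ).toRingHom _
    rw [Polynomial.hom_eval₂, AlgHom.toRingHom_eq_coe, AlgHom.comp_algebraMap]
    rfl⟩
  refine Finite.of_injective Φ fun φ ψ h => Hens.algHom_eq_of_residue_eq hE fun x => ?_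
  have h1 : ((IsScalarTower.toAlgHom A S (ResidueField S)).comp φ).toLinearMap =
      ((IsScalarTower.toAlgHom A S (ResidueField S)).comp ψ).toLinearMap := by
    refine LinearMap.ext_on (hs : Submodule.span A (s : Set E) = ⊤) fun y hy => ?_
    exact congrArg Subtype.val (congrFun h ⟨y, hy⟩)
  exact congr($h1 x)

set_option maxHeartbeats 1600000 in
set_option synthInstance.maxHeartbeats 200000 in
/-- Over a henselian base every finite set of a strict henselization lies in a finite étale local
subalgebra stable under all automorphisms of the residue field. -/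
theorem exists_galois_ge (A S : Type u) [CommRing A] [HenselianLocalRing A]
    [CommRing S] [IsLocalRing S] [Algebra A S] [IsLocalHom (algebraMap A S)]
    [Hensel.IsStrictHenselization A S] (s : Finset S) :
    ∃ (N : Subalgebra A S) (_ : IsLocalRing N), (s : Set S) ⊆ N ∧ IsLocalHom (algebraMap N S) ∧
      Module.Finite A N ∧ EGA4loc.IsEssentiallyEtale A N ∧
      (∀ e₁ ∈ N, ∀ e₂ ∈ N, ∀ x : S, e₂ * x = e₁ → ∃ y ∈ N, e₂ * y = e₁) ∧
      ∀ τ : ResidueField S ≃ₐ[ResidueField A] ResidueField S, ∃ g : N ≃ₐ[A] N,
        ∀ x : N, residue S (g x : S) = τ (residue S (x : S)) := by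
  classical
  haveI : HenselianLocalRing S := Hensel.IsStrictHenselization.henselian (R := A)
  obtain ⟨E, hsE, ⟨hEl, hE⟩, -⟩ := exists_essEtale_ge A S s
  haveI := hEl
  haveI hEfin : Module.Finite A E := by
    obtain ⟨C, _, _, q, _, hC, hq, ⟨e⟩⟩ := id hE
    haveI := hC
    haveI : Module.Finite A (Localization.AtPrime q) :=
      Hens.finite_localization_atPrime q ⟨hq.symm⟩ inferInstance
    exact Module.Finite.equiv e.symm.toLinearEquiv
  haveI : Finite (E →ₐ[A] S) := finite_algHom A E S hE
  let T : Set S := ⋃ φ : E →ₐ[A] S, (φ '' (⊤ : Set E))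
  let N : Subalgebra A S := Algebra.adjoin A T
  have hmem : ∀ (φ : E →ₐ[A] S) (x : E), φ x ∈ N := fun φ x =>
    Algebra.subset_adjoin (Set.mem_iUnion.2 ⟨φ, x, trivial, rfl⟩)
  obtain ⟨b, hb⟩ := hEfin.fg_top
  haveI hNfin : Module.Finite A N := by
    let T₀ : Set S := ⋃ φ : E →ₐ[A] S, (φ '' (b : Set E))
    have hT : N = Algebra.adjoin A T₀ := by
      refine le_antisymm (Algebra.adjoin_le ?_) (Algebra.adjoin_mono ?_)
      · intro y hy
        obtain ⟨φ, x, -, rfl⟩ := Set.mem_iUnion.1 hy
        have hx : x ∈ Submodule.span A (b : Set E) := hb ▸ Submodule.mem_top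
        have h2 : φ x ∈ Submodule.span A (φ '' (b : Set E)) := by
          have := Submodule.mem_map_of_mem (f := φ.toLinearMap) hx
          rwa [Submodule.map_span] at this
        refine (Submodule.span_le (p := Subalgebra.toSubmodule (Algebra.adjoin A T₀))).2 ?_ h2
        intro z hz
        exact Algebra.subset_adjoin (Set.mem_iUnion.2 ⟨φ, hz⟩)
      · exact Set.iUnion_mono fun φ => Set.image_mono fun _ _ => trivial
    rw [hT]
    exact Module.Finite.iff_fg.mpr (fg_adjoin_of_finite (Set.finite_iUnion fun φ : E →ₐ[A] S => b.finite_toSet.image φ)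
      fun y hy => by
        obtain ⟨φ, x, -, rfl⟩ := Set.mem_iUnion.1 hy
        exact (Algebra.IsIntegral.isIntegral (R := A) x).map φ)
  haveI : Algebra.IsIntegral A N := Algebra.IsIntegral.of_finite A N
  have hun : ∀ x : N, IsUnit (algebraMap N S x) → IsUnit x := by
    intro x hx
    by_contra hnx
    let P : Ideal N := (maximalIdeal S).comap N.val.toRingHom
    haveI : P.IsPrime := Ideal.IsPrime.comap _
    have hPmax : P.IsMaximal := Ideal.isMaximal_of_isIntegral_of_isMaximal_comap (R := A) P (by
      have : P.comap (algebraMap A N) = maximalIdeal A := by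
        show Ideal.comap (algebraMap A N) (Ideal.comap N.val.toRingHom (maximalIdeal S)) = _
        rw [Ideal.comap_comap]
        exact (local_hom_TFAE (algebraMap A S)).out 0 4 rfl rfl |>.mp inferInstance
      rw [this]; infer_instance)
    obtain ⟨M, hM, hxM⟩ := exists_max_ideal_of_mem_nonunits hnx
    have hne : (⟨M, hM⟩ : MaximalSpectrum N) ≠ ⟨P, hPmax⟩ := fun h => by
      have h' : M = P := congrArg MaximalSpectrum.asIdeal h
      rw [h'] at hxM
      exact hxM hx
    have hbij := Hens.bijective_pi_localization_of_henselian (A := A) (B := N)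
    obtain ⟨e, he⟩ := hbij.2 (fun n => if n = ⟨P, hPmax⟩ then 1 else 0)
    have heP : algebraMap N (Localization.AtPrime P) e = 1 := by
      have := congrFun he ⟨P, hPmax⟩
      rw [if_pos rfl] at this
      exact this
    have heM : algebraMap N (Localization.AtPrime M) e = 0 := by
      have := congrFun he ⟨M, hM⟩
      rw [if_neg hne] at this
      exact this
    have hidem : e * e = e := hbij.1 (funext fun n => by
      have := congrFun he n
      show algebraMap N (Localization.AtPrime n.asIdeal) (e * e) = algebraMap N _ e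
      rw [map_mul]
      change algebraMap N (Localization.AtPrime n.asIdeal) e = _ at this
      rw [this]
      split_ifs <;> simp)
    have heu : IsUnit (algebraMap N S e) := by
      have h1 : IsUnit (algebraMap N (Localization.AtPrime P) e) := by rw [heP]; exact isUnit_one
      by_contra h
      exact ((IsLocalization.AtPrime.isUnit_to_map_iff (Localization.AtPrime P) P e).1 h1) h
    have h1 : algebraMap N S e = 1 :=
      (IsIdempotentElem.iff_eq_one_of_isUnit heu).1 (by rw [IsIdempotentElem, ← map_mul, hidem])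
    have h2 : e = 1 := Subtype.ext h1
    rw [h2, map_one] at heM
    exact one_ne_zero heM
  haveI hloc : IsLocalHom (algebraMap N S) := ⟨hun⟩
  haveI hNl : IsLocalRing N := RingHom.domain_isLocalRing (algebraMap N S)
  haveI : IsLocalHom (algebraMap A N) := ⟨fun a ha => by
    have := ha.map (algebraMap N S)
    rw [← IsScalarTower.algebraMap_apply] at this
    exact isUnit_of_map_unit _ _ this⟩
  haveI hNu : Algebra.FormallyUnramified A N := by
    obtain ⟨_, _⟩ := Hens.essEtale_formallyEtale hE
    have hgen : Algebra.adjoin A (⋃ φ : E →ₐ[A] S, Set.range (φ.codRestrict N (hmem φ))) = ⊤ := by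
      apply Subalgebra.map_injective (f := N.val) Subtype.val_injective
      rw [AlgHom.map_adjoin, Algebra.map_top, Subalgebra.range_val, Set.image_iUnion]
      refine congrArg (Algebra.adjoin A) (Set.iUnion_congr fun φ => ?_)
      ext y
      constructor
      · rintro ⟨_, ⟨x, rfl⟩, rfl⟩; exact ⟨x, trivial, rfl⟩
      · rintro ⟨x, -, rfl⟩; exact ⟨_, ⟨x, rfl⟩, rfl⟩
    refine ⟨subsingleton_of_forall_eq 0 fun ω => ?_⟩
    have hD : KaehlerDifferential.D A N = 0 := by
      refine Derivation.ext_of_adjoin_eq_top _ hgen ?_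
      rintro y hy
      obtain ⟨φ, x, rfl⟩ := Set.mem_iUnion.1 hy
      let ψ : E →ₐ[A] N := φ.codRestrict N (hmem φ)
      letI : Algebra E N := ψ.toRingHom.toAlgebra
      letI : IsScalarTower A E N := IsScalarTower.of_algebraMap_eq fun a => (ψ.commutes a).symm
      have h0 : (KaehlerDifferential.D A N).compAlgebraMap E = 0 := by
        rw [← (KaehlerDifferential.linearMapEquivDerivation A E).apply_symm_apply
          ((KaehlerDifferential.D A N).compAlgebraMap E),
          Subsingleton.elim ((KaehlerDifferential.linearMapEquivDerivation A E).symm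
            ((KaehlerDifferential.D A N).compAlgebraMap E)) 0, map_zero]
      exact congr($h0 x)
    have hω : ω ∈ Submodule.span N (Set.range (KaehlerDifferential.D A N)) := by
      rw [KaehlerDifferential.span_range_derivation]; trivial
    rw [hD] at hω
    have : Set.range ((0 : Derivation A N (Ω[N⁄A])) : N → Ω[N⁄A]) ⊆ {0} := by
      rintro _ ⟨x, rfl⟩; rfl
    exact (Submodule.mem_bot N).1 (Submodule.span_le.2 (this.trans (by simp)) hω)
  have hNe : EGA4loc.IsEssentiallyEtale A N :=
    isEssentiallyEtale_of_map_maximalIdeal A S N Algebra.FormallyUnramified.map_maximalIdeal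
  refine ⟨N, hNl, fun x hx => hmem E.val ⟨x, hsE hx⟩, hloc, hNfin, hNe, ?_, fun τ => ?_⟩
  · obtain ⟨_, _⟩ := Hens.essEtale_formallyEtale hNe
    haveI := Hens.strictHenselization_flat A S
    intro e₁ he₁ e₂ he₂ x hx
    obtain ⟨c, hc⟩ := (injective_and_dvd_of_flat A N S N.val hun).2 ⟨e₁, he₁⟩ ⟨e₂, he₂⟩ x hx
    exact ⟨c, c.2, congrArg Subtype.val hc⟩
  · have hex : ∀ σ : ResidueField S ≃ₐ[ResidueField A] ResidueField S, ∃ ρ : S →ₐ[A] S,
        ∀ x, residue S (ρ x) = σ (residue S x) := fun σ => by
      obtain ⟨g, ⟨hg, hgr⟩, -⟩ := Hensel.IsStrictHenselization.universal (R := A) (S := S) S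
        (algebraMap A S) σ.toRingEquiv.toRingHom (RingHom.ext σ.commutes)
      exact ⟨{ g with commutes' := fun a => congr($hg a) }, hgr⟩
    have hmap : ∀ ρ : S →ₐ[A] S, ∀ y ∈ N, ρ y ∈ N := by
      intro ρ y hy
      have : N.map ρ ≤ N := by
        rw [show N = Algebra.adjoin A T from rfl, AlgHom.map_adjoin]
        refine Algebra.adjoin_mono ?_
        rintro _ ⟨z, hz, rfl⟩
        obtain ⟨φ, x, -, rfl⟩ := Set.mem_iUnion.1 hz
        exact Set.mem_iUnion.2 ⟨ρ.comp φ, x, trivial, rfl⟩
      exact this ⟨y, hy, rfl⟩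
    obtain ⟨ρ, hρ⟩ := hex τ
    obtain ⟨ρ', hρ'⟩ := hex τ.symm
    let g : N →ₐ[A] N := (ρ.comp N.val).codRestrict N fun x => hmap ρ x x.2
    let g' : N →ₐ[A] N := (ρ'.comp N.val).codRestrict N fun x => hmap ρ' x x.2
    have key : ∀ (u v : S →ₐ[A] S), (∀ z, residue S (u (v z)) = residue S z) → ∀ x : N, u (v (x : S)) = x := by
      intro u v huv x
      exact congr($(Hens.algHom_eq_of_residue_eq hNe (ψ := (u.comp v).comp N.val) (ψ' := N.val)
        fun z => huv z) x)
    refine ⟨AlgEquiv.ofAlgHom g g' (AlgHom.ext fun x => Subtype.ext ?_) (AlgHom.ext fun x => Subtype.ext ?_),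
      fun x => hρ x⟩
    · exact key ρ ρ' (fun z => by rw [hρ, hρ', AlgEquiv.apply_symm_apply]) x
    · exact key ρ' ρ (fun z => by rw [hρ', hρ, AlgEquiv.symm_apply_apply]) x

end Groth.Agent.SHens6
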