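import Groth.Agent.Lib.SHens6.GaloisEt
import Mathlib

/-! # Intermediate fields and finite étale subalgebras of a strict henselization -/

set_option autoImplicit false
universe u

open IsLocalRing
open scoped Pointwise

namespace Groth.Agent.SHens6

/-- Dual bases for a group of residually non-trivial automorphisms of a local algebra. -/
theorem exists_dual_of_residual (A N : Type u) [CommRing A] [CommRing N] [Algebra A N]
    [Finite (N ≃ₐ[A] N)] (hsep : ∀ g : N ≃ₐ[A] N, g ≠ 1 → ∃ y, IsUnit (y - g y)) :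
    ∃ c : N →₀ N, ∀ g : N ≃ₐ[A] N, (g = 1 → (c.sum fun b a => a * g b) = 1) ∧
      (g ≠ 1 → (c.sum fun b a => a * g b) = 0) := by
  classical
  cases nonempty_fintype (N ≃ₐ[A] N)
  let ev : N → (N ≃ₐ[A] N) → N := fun b g => g b
  let Φ : Submodule N ((N ≃ₐ[A] N) → N) := Submodule.span N (Set.range ev)
  have h1 : (1 : (N ≃ₐ[A] N) → N) ∈ Φ :=
    Submodule.subset_span ⟨1, funext fun g => map_one g⟩
  have hmul : ∀ u ∈ Φ, ∀ v ∈ Φ, u * v ∈ Φ := by
    intro u hu v hv
    induction hu using Submodule.span_induction with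
    | mem x hx =>
      obtain ⟨b, rfl⟩ := hx
      induction hv using Submodule.span_induction with
      | mem y hy =>
        obtain ⟨b', rfl⟩ := hy
        exact Submodule.subset_span ⟨b * b', funext fun g => map_mul g b b'⟩
      | zero => rw [mul_zero]; exact zero_mem _
      | add y z _ _ hy hz => rw [mul_add]; exact add_mem hy hz
      | smul r y _ hy => rw [mul_smul_comm]; exact Submodule.smul_mem _ r hy
    | zero => rw [zero_mul]; exact zero_mem _
    | add x y _ _ hx hy => rw [add_mul]; exact add_mem hx hy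
    | smul r x _ hx => rw [smul_mul_assoc]; exact Submodule.smul_mem _ r hx
  have key : ∀ F : Finset (N ≃ₐ[A] N), (1 : N ≃ₐ[A] N) ∉ F →
      ∃ f ∈ Φ, f 1 = 1 ∧ ∀ g ∈ F, f g = 0 := by
    intro F
    induction F using Finset.induction_on with
    | empty => exact fun _ => ⟨1, h1, rfl, fun g hg => absurd hg (Finset.notMem_empty g)⟩
    | insert g F hgF ih =>
      intro hne
      rw [Finset.mem_insert, not_or] at hne
      obtain ⟨f, hf, hf1, hfF⟩ := ih hne.2
      obtain ⟨y, hy⟩ := hsep g fun h => hne.1 h.symm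
      obtain ⟨u, hu⟩ := hy
      refine ⟨((↑u⁻¹ : N) • (ev y - (g y) • 1)) * f, hmul _ (Submodule.smul_mem _ _
        (sub_mem (Submodule.subset_span ⟨y, rfl⟩) (Submodule.smul_mem _ _ h1))) _ hf, ?_, fun g' hg' => ?_⟩
      · show (↑u⁻¹ : N) * (y - g y * 1) * f 1 = 1
        rw [hf1, mul_one, mul_one, ← hu, Units.inv_mul]
      · show (↑u⁻¹ : N) * (g' y - g y * 1) * f g' = 0
        rcases Finset.mem_insert.1 hg' with rfl | h
        · rw [mul_one, sub_self, mul_zero, zero_mul]
        · rw [hfF g' h, mul_zero]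
  obtain ⟨f, hf, hf1, hf0⟩ := key (Finset.univ.erase 1) (Finset.notMem_erase 1 _)
  obtain ⟨c, hc⟩ := (Finsupp.mem_span_range_iff_exists_finsupp).1 hf
  have hcg : ∀ g : N ≃ₐ[A] N, (c.sum fun b a => a * g b) = f g := fun g => by
    rw [← hc]
    simp [Finsupp.sum, Finset.sum_apply, ev]
  exact ⟨c, fun g => ⟨fun h => by rw [hcg, h, hf1],
    fun h => by rw [hcg]; exact hf0 g (Finset.mem_erase.2 ⟨h, Finset.mem_univ g⟩)⟩⟩

/-- A subgroup of residually non-trivial automorphisms of a local algebra has an element of trace one. -/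
theorem exists_trace_eq_one (A N : Type u) [CommRing A] [CommRing N] [IsLocalRing N] [Algebra A N]
    [Finite (N ≃ₐ[A] N)] (hsep : ∀ g : N ≃ₐ[A] N, g ≠ 1 → ∃ y, IsUnit (y - g y))
    (H : Subgroup (N ≃ₐ[A] N)) [Fintype H] : ∃ θ : N, ∑ h : H, (h : N ≃ₐ[A] N) θ = 1 := by
  classical
  obtain ⟨c, hc⟩ := exists_dual_of_residual A N hsep
  let T : N → N := fun b => ∑ h : H, (h : N ≃ₐ[A] N) b
  have hsum : (∑ b ∈ c.support, c b * T b) = 1 := by
    simp only [T, Finset.mul_sum]
    rw [Finset.sum_comm]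
    refine (Finset.sum_eq_single (1 : H) ?_ (fun h => absurd (Finset.mem_univ _) h)).trans ?_
    · exact fun h _ hne => (hc h).2 fun h1 => hne (Subtype.ext h1)
    · exact (hc 1).1 rfl
  obtain ⟨b, hb⟩ : ∃ b, IsUnit (T b) := by
    by_contra hne
    push Not at hne
    refine (maximalIdeal N).ne_top_iff_one.1 Ideal.IsPrime.ne_top' ?_
    rw [← hsum]
    exact sum_mem fun b _ => Ideal.mul_mem_left _ _ (hne b)
  have hfix : ∀ h : H, (h : N ≃ₐ[A] N) (T b) = T b := fun h => by
    simp only [T, map_sum, ← AlgEquiv.mul_apply]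
    exact Fintype.sum_equiv (Equiv.mulLeft h) _ _ fun k => rfl
  obtain ⟨u, hu⟩ := hb
  refine ⟨b * ↑u⁻¹, ?_⟩
  have hinv : ∀ h : H, (h : N ≃ₐ[A] N) ↑u⁻¹ = ↑u⁻¹ := fun h => by
    apply u.isUnit.mul_left_cancel
    rw [Units.mul_inv]
    nth_rw 1 [hu]
    rw [← hfix h, ← map_mul, ← hu, Units.mul_inv, map_one]
  simp only [map_mul, hinv, ← Finset.sum_mul]
  show T b * _ = 1
  rw [← hu, Units.mul_inv]

set_option maxHeartbeats 2000000 in
set_option synthInstance.maxHeartbeats 200000 in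
/-- The elements of `S/Q` in a finitely generated intermediate field come from a finite étale
subalgebra. -/
theorem exists_inter (A S : Type u) [CommRing A] [HenselianLocalRing A]
    [CommRing S] [IsLocalRing S] [Algebra A S] [IsLocalHom (algebraMap A S)]
    [Hensel.IsStrictHenselization A S] (Q : Ideal S) [Q.IsPrime] (hQ : Q.FG) (s : Finset S)
    (t : Finset (FractionRing (S ⧸ Q))) (L : Subfield (FractionRing (S ⧸ Q)))
    (hL : L = Subfield.closure (Set.range (algebraMap A (FractionRing (S ⧸ Q))) ∪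
      (t : Set (FractionRing (S ⧸ Q))))) :
    ∃ (N E : Subalgebra A S) (_ : IsLocalRing N) (_ : IsLocalRing E),
      EGA4loc.IsEssentiallyEtale A N ∧ (s : Set S) ⊆ N ∧ E ≤ N ∧
      IsLocalHom (algebraMap E S) ∧ Module.Finite A E ∧ EGA4loc.IsEssentiallyEtale A E ∧
      (∀ x : S, algebraMap (S ⧸ Q) (FractionRing (S ⧸ Q)) (Ideal.Quotient.mk Q x) ∈ L ↔
        ∃ e ∈ E, Ideal.Quotient.mk Q e = Ideal.Quotient.mk Q x) ∧
      ∀ l ∈ L, ∃ e ∈ E, ∃ d ∈ E,
        algebraMap (S ⧸ Q) (FractionRing (S ⧸ Q)) (Ideal.Quotient.mk Q d) ≠ 0 ∧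
        l * algebraMap (S ⧸ Q) (FractionRing (S ⧸ Q)) (Ideal.Quotient.mk Q d) =
          algebraMap (S ⧸ Q) (FractionRing (S ⧸ Q)) (Ideal.Quotient.mk Q e) := by
  classical
  let F := FractionRing (S ⧸ Q)
  let ι : S →ₐ[A] F := (IsScalarTower.toAlgHom A (S ⧸ Q) F).comp (Ideal.Quotient.mkₐ A Q)
  have hι : ∀ x, ι x = 0 ↔ x ∈ Q := fun x => by
    show algebraMap (S ⧸ Q) F (Ideal.Quotient.mk Q x) = 0 ↔ _
    rw [map_eq_zero_iff _ (IsFractionRing.injective (S ⧸ Q) F), Ideal.Quotient.eq_zero_iff_mem]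
  obtain ⟨gQ, hgQ⟩ := hQ
  choose num den hden hnd using fun z : F => IsFractionRing.div_surjective (S ⧸ Q) z
  choose sec hsec using fun z : S ⧸ Q => Ideal.Quotient.mk_surjective z
  obtain ⟨N, hNl, hsN, hNloc, hNfin, hNe, hdiv, hgal⟩ := exists_galois_ge A S
    (s ∪ gQ ∪ t.image (fun z => sec (num z)) ∪ t.image (fun z => sec (den z)))
  haveI := hNl
  haveI := hNloc
  haveI := hNfin
  haveI := Hens.strictHenselization_flat A S
  obtain ⟨hNfe, hNeft⟩ := Hens.essEtale_formallyEtale hNe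
  haveI : IsLocalHom (algebraMap A N) := ⟨fun a ha => by
    have := ha.map (algebraMap N S)
    rw [← IsScalarTower.algebraMap_apply] at this
    exact isUnit_of_map_unit _ _ this⟩
  haveI : Module.Flat N S := Algebra.FormallyUnramified.flat_of_restrictScalars A N S
  haveI : Module.FaithfullyFlat N S := Module.FaithfullyFlat.of_flat_of_isLocalHom
  haveI hGfin : Finite (N ≃ₐ[A] N) := by
    haveI := finite_algHom A N N hNe
    exact Finite.of_injective (fun g : N ≃ₐ[A] N => g.toAlgHom) fun g g' h => AlgEquiv.ext fun x => congr($h x)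
  have hsep : ∀ g : N ≃ₐ[A] N, g ≠ 1 → ∃ y, IsUnit (y - g y) := fun g hg => by
    by_contra hne
    push Not at hne
    refine hg (AlgEquiv.ext fun x => ?_)
    have h := Hens.algHom_eq_of_residue_eq hNe (ψ := g.toAlgHom) (ψ' := AlgHom.id A N) fun y => by
      show residue N (g y) = residue N y
      rw [eq_comm, ← sub_eq_zero, ← map_sub, residue_eq_zero_iff]
      exact hne y
    exact congr($h x)
  have hmN : Ideal.map (algebraMap A N) (maximalIdeal A) = maximalIdeal N :=
    Algebra.FormallyUnramified.map_maximalIdeal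
  -- invariants of the full group
  haveI hinv : Algebra.IsInvariant A N (N ≃ₐ[A] N) := ⟨fun x hx => by
    cases nonempty_fintype (N ≃ₐ[A] N)
    obtain ⟨θ, hθ⟩ := exists_trace_eq_one A N hsep ⊤
    let Tr : N →ₗ[A] N := ∑ h : (⊤ : Subgroup (N ≃ₐ[A] N)), (h : N ≃ₐ[A] N).toLinearMap
    have hTr : ∀ y, Tr y = ∑ h : (⊤ : Subgroup (N ≃ₐ[A] N)), (h : N ≃ₐ[A] N) y := fun y => by
      simp [Tr]
    have hfix : ∀ y (g : N ≃ₐ[A] N), g (Tr y) = Tr y := fun y g => by
      simp only [hTr, map_sum, ← AlgEquiv.mul_apply]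
      exact Fintype.sum_equiv (Equiv.mulLeft (⟨g, trivial⟩ : (⊤ : Subgroup (N ≃ₐ[A] N)))) _ _ fun k => rfl
    have hfixed : ∀ y : N, (∀ g : N ≃ₐ[A] N, g y = y) → Tr (θ * y) = y := fun y hy => by
      simp only [hTr, map_mul, hy, ← Finset.sum_mul]
      rw [hθ, one_mul]
    have hres : ∀ y : N, (∀ g : N ≃ₐ[A] N, g y = y) → ∃ a : A, y - algebraMap A N a ∈ maximalIdeal N := by
      intro y hy
      haveI := Hensel.IsStrictHenselization.isSepClosure (R := A) (S := S)
      obtain ⟨ā, hā⟩ := (InfiniteGalois.mem_range_algebraMap_iff_fixed (k := ResidueField A)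
        (residue S (y : S))).2 fun τ => by
          obtain ⟨g, hg⟩ := hgal τ
          rw [← hg y, hy g]
      obtain ⟨a, rfl⟩ := residue_surjective ā
      refine ⟨a, fun hu => ?_⟩
      have h1 : residue S ((y : S) - algebraMap A S a) = 0 := by
        rw [map_sub, ← hā]; exact sub_self _
      exact (residue_eq_zero_iff _).1 h1 (by simpa using hu.map (algebraMap N S))
    have hle : LinearMap.range (Algebra.linearMap A N) ⊔ LinearMap.range Tr =
        LinearMap.range (Algebra.linearMap A N) := by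
      refine le_antisymm (sup_le le_rfl ?_) le_sup_left
      refine Submodule.le_of_le_smul_of_le_jacobson_bot (I := maximalIdeal A)
        (Module.Finite.fg_top.map Tr |> fun h => by rwa [Submodule.map_top] at h)
        (maximalIdeal_le_jacobson _) ?_
      rintro _ ⟨y, rfl⟩
      obtain ⟨a, ha⟩ := hres (Tr y) (hfix y)
      refine Submodule.mem_sup.2 ⟨algebraMap A N a, ⟨a, rfl⟩, Tr y - algebraMap A N a, ?_, by ring⟩
      have hz : ∀ g : N ≃ₐ[A] N, g (Tr y - algebraMap A N a) = Tr y - algebraMap A N a := fun g => by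
        rw [map_sub, hfix, g.commutes]
      rw [← hfixed _ hz]
      have h2 : θ * (Tr y - algebraMap A N a) ∈ (maximalIdeal A) • (⊤ : Submodule A N) := by
        rw [Ideal.smul_top_eq_map, Submodule.restrictScalars_mem, hmN]
        exact Ideal.mul_mem_left _ _ ha
      have h3 := Submodule.mem_map_of_mem (f := Tr) h2
      rwa [Submodule.map_smul'', Submodule.map_top] at h3
    have h := (le_sup_right.trans hle.le) ⟨θ * x, hfixed x hx⟩
    exact h⟩
  let P : Ideal N := Q.comap N.val.toRingHom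
  haveI : P.IsPrime := Ideal.IsPrime.comap _
  have hPQ : Ideal.map (algebraMap N S) P = Q := by
    refine le_antisymm (Ideal.map_le_iff_le_comap.2 le_rfl) ?_
    rw [← hgQ, Submodule.span_le]
    intro g hg
    exact Ideal.mem_map_of_mem (algebraMap N S) (x := (⟨g, hsN (by simp [hg])⟩ : N))
      (show g ∈ Q by rw [← hgQ]; exact Submodule.subset_span hg)
  let q : Ideal A := P.comap (algebraMap A N)
  haveI : q.IsPrime := Ideal.IsPrime.comap _
  haveI : P.LiesOver q := ⟨rfl⟩
  let Lf := FractionRing (N ⧸ P)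
  let K₀ := FractionRing (A ⧸ q)
  haveI : FaithfulSMul (A ⧸ q) Lf := by
    rw [faithfulSMul_iff_algebraMap_injective, IsScalarTower.algebraMap_eq (A ⧸ q) (N ⧸ P) Lf,
      RingHom.coe_comp]
    refine (IsFractionRing.injective (N ⧸ P) Lf).comp ?_
    rw [injective_iff_map_eq_zero]
    intro z hz
    obtain ⟨a, rfl⟩ := Ideal.Quotient.mk_surjective z
    exact Ideal.Quotient.eq_zero_iff_mem.2 ((Ideal.Quotient.eq_zero_iff_mem (I := P) (a := algebraMap A N a)).1 hz)
  letI : Algebra K₀ Lf := FractionRing.liftAlgebra (A ⧸ q) Lf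
  haveI : IsScalarTower (A ⧸ q) K₀ Lf := FractionRing.isScalarTower_liftAlgebra (A ⧸ q) Lf
  haveI : IsScalarTower A K₀ Lf := IsScalarTower.of_algebraMap_eq fun a => by
    rw [IsScalarTower.algebraMap_apply A (A ⧸ q) K₀, ← IsScalarTower.algebraMap_apply (A ⧸ q) K₀ Lf,
      ← IsScalarTower.algebraMap_apply]
  haveI : Algebra.FormallyUnramified A (N ⧸ P) :=
    Algebra.FormallyUnramified.of_surjective (Ideal.Quotient.mkₐ A P) Ideal.Quotient.mk_surjective
  haveI : Algebra.FormallyEtale (N ⧸ P) Lf :=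
    Algebra.FormallyEtale.of_isLocalization (nonZeroDivisors (N ⧸ P))
  haveI : Algebra.FormallyUnramified A Lf := Algebra.FormallyUnramified.comp A (N ⧸ P) Lf
  haveI : Algebra.FormallyUnramified K₀ Lf := Algebra.FormallyUnramified.of_restrictScalars A K₀ Lf
  haveI : Algebra.EssFiniteType A (N ⧸ P) :=
    Algebra.EssFiniteType.of_surjective (Ideal.Quotient.mkₐ A P) Ideal.Quotient.mk_surjective
  haveI : Algebra.EssFiniteType (N ⧸ P) Lf :=
    Algebra.EssFiniteType.of_isLocalization _ (nonZeroDivisors (N ⧸ P))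
  haveI : Algebra.EssFiniteType A Lf := Algebra.EssFiniteType.comp A (N ⧸ P) Lf
  haveI : Algebra.EssFiniteType K₀ Lf := Algebra.EssFiniteType.of_comp A K₀ Lf
  haveI : Algebra.IsSeparable K₀ Lf := Algebra.FormallyUnramified.isSeparable K₀ Lf
  haveI : Module.Finite K₀ Lf := Algebra.FormallyUnramified.finite_of_free _ _
  haveI : Normal K₀ Lf := Ideal.IsFractionRing.normal (N ≃ₐ[A] N) q P K₀ Lf
  haveI : IsGalois K₀ Lf := IsGalois.mk
  let φ : N ⧸ P →+* F := Ideal.Quotient.lift P (ι.toRingHom.comp N.val.toRingHom) fun x hx => (hι _).2 hx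
  have hφ : Function.Injective φ := by
    rw [injective_iff_map_eq_zero]
    intro z hz
    obtain ⟨x, rfl⟩ := Ideal.Quotient.mk_surjective z
    exact Ideal.Quotient.eq_zero_iff_mem.2 ((hι _).1 hz)
  let ψ : Lf →+* F := IsFractionRing.lift hφ
  have hψ : ∀ x : N, ψ (algebraMap (N ⧸ P) Lf (Ideal.Quotient.mk P x)) = ι x := fun x =>
    IsFractionRing.lift_algebraMap hφ _
  have hψA : ∀ a : A, ψ (algebraMap A Lf a) = algebraMap A F a := fun a => by
    rw [IsScalarTower.algebraMap_apply A (N ⧸ P) Lf]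
    exact (hψ (algebraMap A N a)).trans (ι.commutes a)
  have hLA : ∀ a : A, algebraMap A F a ∈ L := fun a =>
    hL ▸ Subfield.subset_closure (Or.inl ⟨a, rfl⟩)
  let L' : IntermediateField K₀ Lf := (L.comap ψ).toIntermediateField fun k => by
    obtain ⟨x, y, -, rfl⟩ := IsFractionRing.div_surjective (A ⧸ q) k
    obtain ⟨x, rfl⟩ := Ideal.Quotient.mk_surjective x
    obtain ⟨y, rfl⟩ := Ideal.Quotient.mk_surjective y
    show ψ (algebraMap K₀ Lf (algebraMap A K₀ x / algebraMap A K₀ y)) ∈ L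
    rw [map_div₀, map_div₀, ← IsScalarTower.algebraMap_apply, ← IsScalarTower.algebraMap_apply, hψA, hψA]
    exact div_mem (hLA x) (hLA y)
  let σ := IsFractionRing.stabilizerHom (N ≃ₐ[A] N) q P K₀ Lf
  let H : Subgroup (N ≃ₐ[A] N) :=
    (L'.fixingSubgroup.comap σ).map (MulAction.stabilizer (N ≃ₐ[A] N) P).subtype
  haveI : Fintype H := Fintype.ofFinite H
  obtain ⟨θ, hθ⟩ := exists_trace_eq_one A N hsep H
  let T : N →ₗ[A] N := ∑ h : H, (h : N ≃ₐ[A] N).toLinearMap
  have hT : ∀ y, T y = ∑ h : H, (h : N ≃ₐ[A] N) y := fun y => by simp [T]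
  let E₀ : Subalgebra A N :=
    { carrier := {x | ∀ h : H, (h : N ≃ₐ[A] N) x = x}
      mul_mem' := fun hx hy h => by rw [map_mul, hx h, hy h]
      one_mem' := fun h => map_one _
      add_mem' := fun hx hy h => by rw [map_add, hx h, hy h]
      zero_mem' := fun h => map_zero _
      algebraMap_mem' := fun a h => AlgEquiv.commutes _ a }
  have hTmem : ∀ y, T y ∈ E₀ := fun y h => by
    simp only [hT, map_sum, ← AlgEquiv.mul_apply]
    exact Fintype.sum_equiv (Equiv.mulLeft h) _ _ fun k => rfl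
  have hTfix : ∀ y ∈ E₀, T (θ * y) = y := fun y hy => by
    have hy' : ∀ h : H, (h : N ≃ₐ[A] N) y = y := hy
    simp only [hT, map_mul, hy', ← Finset.sum_mul]
    rw [hθ, one_mul]
  let E : Subalgebra A S := E₀.map N.val
  have hEN : E ≤ N := by
    rintro _ ⟨x, -, rfl⟩
    exact x.2
  let π : N →ₗ[A] E :=
    { toFun := fun y => ⟨_, T y, hTmem y, rfl⟩
      map_add' := fun y z => Subtype.ext (by
        show N.val (T (y + z)) = N.val (T y) + N.val (T z); rw [map_add, map_add])
      map_smul' := fun a y => Subtype.ext (by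
        show N.val (T (a • y)) = a • N.val (T y); rw [map_smul, map_smul]) }
  have hπ : ∀ e : E, π (θ * ⟨e, hEN e.2⟩) = e := fun e => by
    obtain ⟨x, hx, hxe⟩ := e.2
    refine Subtype.ext ?_
    show N.val (T (θ * ⟨e, _⟩)) = e
    rw [show (⟨(e : S), hEN e.2⟩ : N) = x from Subtype.ext hxe.symm, hTfix x hx]
    exact hxe
  haveI : Module.Finite A E := Module.Finite.of_surjective π fun e => ⟨_, hπ e⟩
  haveI hEloc : IsLocalHom (algebraMap E S) := ⟨fun e he => by
    obtain ⟨x, hx, hxe⟩ := e.2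
    have hxu : IsUnit x := isUnit_of_map_unit (algebraMap N S) x (by
      show IsUnit (N.val x); exact hxe ▸ he)
    obtain ⟨y, hy⟩ := hxu.exists_right_inv
    have hy' : y ∈ E₀ := fun h => by
      apply hxu.mul_left_cancel
      nth_rw 1 [← hx h]
      rw [← map_mul, hy, map_one]
    exact IsUnit.of_mul_eq_one (⟨_, y, hy', rfl⟩ : E) (Subtype.ext (by
      show (e : S) * N.val y = 1; rw [← hxe]; exact congrArg Subtype.val hy))⟩
  haveI hEl : IsLocalRing E := RingHom.domain_isLocalRing (algebraMap E S)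
  have hmE : Ideal.map (algebraMap A E) (maximalIdeal A) = maximalIdeal E := by
    refine le_antisymm (Ideal.map_le_iff_le_comap.2 fun a ha hu => ha
      (isUnit_of_map_unit (algebraMap A S) a (by
        have := hu.map (algebraMap E S)
        rwa [← IsScalarTower.algebraMap_apply] at this))) fun e he => ?_
    have h1 : (⟨e, hEN e.2⟩ : N) ∈ maximalIdeal N := fun hu =>
      he (isUnit_of_map_unit (algebraMap E S) e (hu.map (algebraMap N S)))
    have h2 : θ * ⟨e, hEN e.2⟩ ∈ (maximalIdeal A) • (⊤ : Submodule A N) := by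
      rw [Ideal.smul_top_eq_map, Submodule.restrictScalars_mem, hmN]
      exact Ideal.mul_mem_left _ _ h1
    have h3 := Submodule.mem_map_of_mem (f := π) h2
    rw [Submodule.map_smul'', hπ] at h3
    have h4 := Submodule.smul_mono (le_refl (maximalIdeal A)) (le_top : Submodule.map π ⊤ ≤ ⊤) h3
    rwa [Ideal.smul_top_eq_map, Submodule.restrictScalars_mem] at h4
  have hEe : EGA4loc.IsEssentiallyEtale A E := isEssentiallyEtale_of_map_maximalIdeal A S E hmE
  have hrange : L ≤ ψ.fieldRange := by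
    rw [hL, Subfield.closure_le]
    rintro z (⟨a, rfl⟩ | hz)
    · exact ⟨algebraMap A Lf a, hψA a⟩
    · have hn : sec (num z) ∈ N := hsN (by simp only [Finset.coe_union, Finset.coe_image, Set.mem_union, Set.mem_image]; exact Or.inl (Or.inr ⟨z, hz, rfl⟩))
      have hd : sec (den z) ∈ N := hsN (by simp only [Finset.coe_union, Finset.coe_image, Set.mem_union, Set.mem_image]; exact Or.inr ⟨z, hz, rfl⟩)
      refine ⟨algebraMap (N ⧸ P) Lf (Ideal.Quotient.mk P ⟨_, hn⟩) /
        algebraMap (N ⧸ P) Lf (Ideal.Quotient.mk P ⟨_, hd⟩), ?_⟩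
      rw [map_div₀, hψ, hψ]
      show algebraMap (S ⧸ Q) F (Ideal.Quotient.mk Q (sec (num z))) /
        algebraMap (S ⧸ Q) F (Ideal.Quotient.mk Q (sec (den z))) = z
      rw [hsec, hsec]
      exact hnd z
  have hforw : ∀ x : S, ι x ∈ L → ∃ e ∈ E, ι e = ι x := by
    intro x hx
    obtain ⟨z, hz⟩ := hrange hx
    obtain ⟨a, b, hb, rfl⟩ := IsFractionRing.div_surjective (N ⧸ P) z
    obtain ⟨a, rfl⟩ := Ideal.Quotient.mk_surjective a
    obtain ⟨b, rfl⟩ := Ideal.Quotient.mk_surjective b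
    have hb0 : ι (b : S) ≠ 0 := fun h0 => nonZeroDivisors.ne_zero hb
      (Ideal.Quotient.eq_zero_iff_mem.2 ((hι _).1 h0))
    have h1 : (a : S) - b * x ∈ Q := (hι _).1 (by
      rw [map_div₀, hψ, hψ, div_eq_iff hb0] at hz
      rw [map_sub, map_mul, hz]; ring)
    have h2 : a ∈ P ⊔ Ideal.span {b} := by
      rw [← Ideal.comap_map_eq_self_of_faithfullyFlat (B := S) (P ⊔ Ideal.span {b}), Ideal.mem_comap,
        Ideal.map_sup, hPQ, Ideal.map_span, Set.image_singleton]
      exact Submodule.mem_sup.2 ⟨_, h1, (b : S) * x, Ideal.mem_span_singleton.2 (Dvd.intro x rfl),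
        sub_add_cancel _ _⟩
    obtain ⟨p, hp, r, hr, hpr⟩ := Submodule.mem_sup.1 h2
    obtain ⟨c, rfl⟩ := Ideal.mem_span_singleton.1 hr
    have hc : ι c = ι x := by
      have h3 : ι (b : S) * (ι c - ι x) = 0 := by
        have e1 : ι (a : S) = ι (b : S) * ι c := by
          rw [← hpr]
          show ι ((p : S) + (b : S) * (c : S)) = _
          rw [map_add, map_mul, (hι (p : S)).2 hp, zero_add]
        have e2 : ι ((a : S) - b * x) = 0 := (hι _).2 h1
        rw [map_sub, map_mul, e1] at e2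
        linear_combination e2
      exact sub_eq_zero.1 ((mul_eq_zero.1 h3).resolve_left hb0)
    have hcL : algebraMap (N ⧸ P) Lf (Ideal.Quotient.mk P c) ∈ L' := by
      show ψ _ ∈ L
      rw [hψ, hc]; exact hx
    have hcP : ∀ h : H, (h : N ≃ₐ[A] N) c - c ∈ P := by
      rintro ⟨h, g, hg, rfl⟩
      have h1 := (IntermediateField.mem_fixingSubgroup_iff L' (σ g)).1 hg _ hcL
      rw [IsFractionRing.stabilizerHom_apply_apply_mk] at h1
      exact Ideal.Quotient.eq.1 (IsFractionRing.injective (N ⧸ P) Lf h1)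
    refine ⟨_, ⟨T (θ * c), hTmem _, rfl⟩, ?_⟩
    rw [← hc, ← sub_eq_zero, ← map_sub]
    refine (hι _).2 ?_
    show T (θ * c) - c ∈ P
    have : T (θ * c) - c = ∑ h : H, (h : N ≃ₐ[A] N) θ * ((h : N ≃ₐ[A] N) c - c) := by
      simp only [hT, map_mul, mul_sub, Finset.sum_sub_distrib, ← Finset.sum_mul]
      rw [hθ, one_mul]
    rw [this]
    exact sum_mem fun h _ => Ideal.mul_mem_left _ _ (hcP h)
  have hback : ∀ e ∈ E, ι e ∈ L := by
    rintro _ ⟨e, he, rfl⟩
    show ι (N.val e) ∈ L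
    have hfx : algebraMap (N ⧸ P) Lf (Ideal.Quotient.mk P e) ∈
        IntermediateField.fixedField L'.fixingSubgroup := by
      rintro ⟨τ, hτ⟩
      obtain ⟨g, rfl⟩ := IsFractionRing.stabilizerHom_surjective (N ≃ₐ[A] N) q P K₀ Lf τ
      show σ g _ = _
      rw [IsFractionRing.stabilizerHom_apply_apply_mk]
      exact congrArg _ (congrArg _ (he ⟨g, g, hτ, rfl⟩))
    rw [IsGalois.fixedField_fixingSubgroup] at hfx
    have : ψ (algebraMap (N ⧸ P) Lf (Ideal.Quotient.mk P e)) ∈ L := hfx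
    rw [hψ] at this
    exact this
  refine ⟨N, E, hNl, hEl, hNe, fun x hx => hsN (by simp [Finset.mem_coe.1 hx]), hEN, hEloc, inferInstance,
    hEe, fun x => ⟨fun hx => ?_, ?_⟩, fun l hl => ?_⟩
  · obtain ⟨e, he, hex⟩ := hforw x hx
    exact ⟨e, he, IsFractionRing.injective (S ⧸ Q) F hex⟩
  · rintro ⟨e, he, hex⟩
    rw [← hex]; exact hback e he
  · obtain ⟨z, rfl⟩ := hrange hl
    obtain ⟨x, y, hy, rfl⟩ := IsFractionRing.div_surjective (N ⧸ P) z
    haveI : Algebra.IsAlgebraic (A ⧸ q) (N ⧸ P) := by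
      haveI : Algebra.IsIntegral A (N ⧸ P) := Algebra.IsIntegral.of_finite A _
      haveI : Algebra.IsIntegral (A ⧸ q) (N ⧸ P) := Algebra.IsIntegral.tower_top A
      exact Algebra.IsIntegral.isAlgebraic
    obtain ⟨b, a, ha, h⟩ := (Algebra.IsAlgebraic.isAlgebraic (R := A ⧸ q) y).exists_smul_eq_mul x hy
    obtain ⟨a, rfl⟩ := Ideal.Quotient.mk_surjective a
    obtain ⟨b, rfl⟩ := Ideal.Quotient.mk_surjective b
    have ha0 : algebraMap A F a ≠ 0 := fun h0 => ha (Ideal.Quotient.eq_zero_iff_mem.2 (by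
      show N.val (algebraMap A N a) ∈ Q
      rw [← hι]; exact (ι.commutes a).trans h0))
    have hb : ψ (algebraMap (N ⧸ P) Lf x / algebraMap (N ⧸ P) Lf y) * algebraMap A F a = ι b := by
      have h' := congrArg (algebraMap (N ⧸ P) Lf) h
      rw [Algebra.smul_def, map_mul, map_mul, ← Ideal.Quotient.algebraMap_eq, ← IsScalarTower.algebraMap_apply,
        ← IsScalarTower.algebraMap_apply] at h'
      rw [← hψ, ← hψA, ← map_mul]
      congr 1
      rw [div_mul_eq_mul_div, div_eq_iff ((map_ne_zero_iff _ (IsFractionRing.injective (N ⧸ P) Lf)).2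
        (nonZeroDivisors.ne_zero hy)), mul_comm, h', mul_comm]
    obtain ⟨e, he, hex⟩ := hforw b (hb ▸ mul_mem hl (hLA a))
    refine ⟨e, he, algebraMap A S a, E.algebraMap_mem a, ?_, ?_⟩
    · show ι (algebraMap A S a) ≠ 0
      rwa [ι.commutes]
    · show _ * ι (algebraMap A S a) = ι e
      rw [ι.commutes, hb, hex]

end Groth.Agent.SHens6
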