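import Groth.Agent.Lib.SHens6.NormFlat
import Mathlib

/-! # Intersections with intermediate total fraction rings -/

set_option autoImplicit false
universe u

open IsLocalRing

namespace Groth.Agent.SHens6

/-- A non-zero-divisor of a subalgebra containing `K_A` inside `K_E` is a unit of the subalgebra. -/
theorem exists_inverse_mem (A E : Type u) [CommRing A] [IsLocalRing A] [IsReduced A]
    (hmin : (minimalPrimes A).Finite) [CommRing E] [Algebra A E]
    (hE : EGA4loc.IsEssentiallyEtale A E) (L : Subalgebra A (FractionRing E))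
    (hL : ∀ s ∈ nonZeroDivisors A, ∃ y ∈ L, algebraMap A (FractionRing E) s * y = 1)
    (x : FractionRing E) (hx : x ∈ L) (y : FractionRing E) (hxy : x * y = 1) : y ∈ L := by
  classical
  obtain ⟨hloc, t, ht⟩ := isLocalization_fractionRing_and_fg A E hmin hE
  let F := FractionRing E
  let K := FractionRing A
  have hau : ∀ a ∈ nonZeroDivisors A, IsUnit (algebraMap A F a) :=
    isUnit_algebraMap_fractionRing A E hmin hE
  letI : Algebra K F := (IsLocalization.lift (fun a : nonZeroDivisors A => hau a a.2) : K →+* F).toAlgebra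
  haveI : IsScalarTower A K F := IsScalarTower.of_algebraMap_eq fun a => (IsLocalization.lift_eq _ a).symm
  haveI : IsArtinianRing K := Branch14.isArtinianRing_fractionRing A hmin
  haveI : Module.Finite K F := ⟨⟨t, by
    refine Submodule.eq_top_iff'.2 fun z => ?_
    obtain ⟨a, ha, haz⟩ := ht z
    have h1 : algebraMap A K a • z ∈ Submodule.span K (t : Set F) := by
      rw [algebraMap_smul, Algebra.smul_def]
      exact Submodule.span_le_restrictScalars A K (t : Set F) haz
    obtain ⟨u, hu⟩ := IsLocalization.map_units K (⟨a, ha⟩ : nonZeroDivisors A)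
    have h2 := Submodule.smul_mem _ (↑u⁻¹ : K) h1
    rwa [smul_smul, ← hu, Units.inv_mul, one_smul] at h2⟩⟩
  haveI : IsNoetherian K F := inferInstance
  let LK : Subalgebra K F :=
    { L.toSubsemiring with
      algebraMap_mem' := fun k => by
        obtain ⟨⟨b, a⟩, hba⟩ := IsLocalization.surj (nonZeroDivisors A) k
        obtain ⟨z, hz, hz1⟩ := hL a a.2
        have h := congrArg (algebraMap K F) hba
        rw [map_mul, ← IsScalarTower.algebraMap_apply, ← IsScalarTower.algebraMap_apply] at h
        have : algebraMap K F k = algebraMap A F b * z := by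
          rw [← h, mul_assoc, hz1, mul_one]
        rw [this]
        exact mul_mem (L.algebraMap_mem b) hz }
  haveI : Module.Finite K LK := Module.Finite.of_injective LK.val.toLinearMap Subtype.val_injective
  haveI : IsArtinianRing LK := IsArtinianRing.of_finite K LK
  have hreg : (⟨x, hx⟩ : LK) ∈ nonZeroDivisors LK := by
    rw [mem_nonZeroDivisors_iff_right]
    intro z hz
    have h0 : (z : F) * x = 0 := congrArg Subtype.val hz
    exact Subtype.ext (show (z : F) = 0 by
      calc (z : F) = (z : F) * (x * y) := by rw [hxy, mul_one]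
        _ = 0 := by rw [← mul_assoc, h0, zero_mul])
  obtain ⟨v, hv⟩ := (IsArtinianRing.isUnit_iff_mem_nonZeroDivisors.2 hreg).exists_right_inv
  have hv' : x * (v : F) = 1 := congrArg Subtype.val hv
  have : y = (v : F) := by
    calc y = y * (x * (v : F)) := by rw [hv', mul_one]
      _ = (x * y) * v := by ring
      _ = v := by rw [hxy, one_mul]
  rw [this]
  exact v.2

theorem exists_inter (A E : Type u) [CommRing A] [IsLocalRing A] [IsReduced A] (hmin : (minimalPrimes A).Finite)
    [CommRing E] [IsLocalRing E] [Algebra A E]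
    (hE : EGA4loc.IsEssentiallyEtale A E) (L : Subalgebra A (FractionRing E))
    (hL : ∀ s ∈ nonZeroDivisors A, ∃ y ∈ L, algebraMap A (FractionRing E) s * y = 1) :
    ∃ D : Subalgebra A E, (D : Set E) = (algebraMap E (FractionRing E)) ⁻¹' (L : Set (FractionRing E)) ∧
      ∃ _ : IsLocalRing D, IsLocalHom (algebraMap D E) ∧
        ∀ l ∈ L, ∃ d ∈ D, ∃ s ∈ nonZeroDivisors A, ∃ y ∈ L,
          algebraMap A (FractionRing E) s * y = 1 ∧ l = algebraMap E (FractionRing E) d * y := by
  let D : Subalgebra A E := L.comap (IsScalarTower.toAlgHom A E (FractionRing E))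
  haveI hloc : IsLocalHom (algebraMap D E) := ⟨fun d hd => by
    obtain ⟨e, he⟩ := hd.exists_right_inv
    have h1 : algebraMap E (FractionRing E) (d : E) * algebraMap E (FractionRing E) e = 1 := by
      rw [← map_mul]
      exact (congrArg _ he).trans (map_one _)
    have he' : e ∈ D := exists_inverse_mem A E hmin hE L hL _ d.2 _ h1
    exact IsUnit.of_mul_eq_one ⟨e, he'⟩ (Subtype.ext he)⟩
  refine ⟨D, rfl, RingHom.domain_isLocalRing (algebraMap D E), hloc, fun l hl => ?_⟩
  obtain ⟨hlocl, -⟩ := isLocalization_fractionRing_and_fg A E hmin hE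
  obtain ⟨⟨e, ⟨_, a, ha, rfl⟩⟩, hea⟩ :=
    IsLocalization.surj ((nonZeroDivisors A).map (algebraMap A E)) l
  rw [← IsScalarTower.algebraMap_apply] at hea
  obtain ⟨y, hy, hy1⟩ := hL a ha
  refine ⟨e, ?_, a, ha, y, hy, hy1, ?_⟩
  · show algebraMap E (FractionRing E) e ∈ L
    rw [← hea]
    exact mul_mem hl (L.algebraMap_mem a)
  · rw [← hea, mul_assoc, hy1, mul_one]

end Groth.Agent.SHens6
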