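import Groth.Agent.Lib.SHens6.InterFrac
import Groth.Agent.Lib.MoriRes6.Semilocal
import Groth.Agent.Lib.Hens.Reduced
import Mathlib

/-! # Intersections of the normalization with subalgebras of the total fraction ring -/

set_option autoImplicit false
universe u

open IsLocalRing

namespace Groth.Agent.SHens6

/-- The normalization of a reduced Noetherian local ring is semilocal. -/
theorem finite_maximal_normalization (R : Type u) [CommRing R] [IsLocalRing R] [IsNoetherianRing R] [IsReduced R] :
    {M : Ideal (integralClosure R (FractionRing R)) | M.IsMaximal}.Finite := by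
  classical
  let F := FractionRing R
  let C := integralClosure R F
  haveI : Fintype (minimalPrimes R) := (minimalPrimes.finite_of_isNoetherianRing R).fintype
  have hu : ∀ (Q : minimalPrimes R) (s : nonZeroDivisors R),
      IsUnit ((algebraMap (R ⧸ Q.1) (FractionRing (R ⧸ Q.1))).comp (Ideal.Quotient.mk Q.1) (s : R)) := by
    intro Q s
    haveI : Q.1.IsPrime := Q.2.1.1
    refine isUnit_iff_ne_zero.mpr fun h => ?_
    have hs : (s : R) ∈ Q.1 := Ideal.Quotient.eq_zero_iff_mem.mp
      (IsFractionRing.injective (R ⧸ Q.1) (FractionRing (R ⧸ Q.1)) (h.trans (map_zero _).symm))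
    exact Set.disjoint_left.mp (Ideal.disjoint_nonZeroDivisors_of_mem_minimalPrimes Q.2) hs s.2
  let π : ∀ Q : minimalPrimes R, F →+* FractionRing (R ⧸ Q.1) := fun Q => IsLocalization.lift (hu Q)
  have hπ : ∀ Q r, π Q (algebraMap R F r) = algebraMap R (FractionRing (R ⧸ Q.1)) r := fun Q r =>
    (IsLocalization.lift_eq (hu Q) r).trans (IsScalarTower.algebraMap_apply R (R ⧸ Q.1) _ r).symm
  have hint : ∀ (Q : minimalPrimes R) (c : C), IsIntegral (R ⧸ Q.1) (π Q c.1) := fun Q c => by
    have h : IsIntegral R (π Q c.1) :=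
      IsIntegral.map (AlgHom.mk (π Q) (hπ Q) : F →ₐ[R] FractionRing (R ⧸ Q.1)) c.2
    exact h.tower_top
  let g : ∀ Q : minimalPrimes R, C →+* integralClosure (R ⧸ Q.1) (FractionRing (R ⧸ Q.1)) := fun Q =>
    ((π Q).comp C.val.toRingHom).codRestrict _ (hint Q)
  refine (Set.finite_iUnion (f := fun Q : minimalPrimes R => (fun P => P.comap (g Q)) ''
    {P : Ideal (integralClosure (R ⧸ Q.1) (FractionRing (R ⧸ Q.1))) | P.IsMaximal}) fun Q => Set.Finite.image _ ?_).subset ?_
  · haveI : Q.1.IsPrime := Q.2.1.1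
    haveI : IsLocalRing (R ⧸ Q.1) := IsLocalRing.of_surjective' _ Ideal.Quotient.mk_surjective
    exact MoriRes6.finite_maximal (R ⧸ Q.1) (FractionRing (R ⧸ Q.1))
  intro M hM
  haveI hMp : M.IsPrime := (hM : M.IsMaximal).isPrime
  have hker : (Finset.univ.inf fun Q : minimalPrimes R => RingHom.ker (g Q)) ≤ M := by
    intro c hc
    rw [Submodule.mem_finsetInf] at hc
    suffices hc0 : c.1 = 0 by
      rw [show c = 0 from Subtype.ext hc0]; exact M.zero_mem
    obtain ⟨⟨r, s⟩, hrs⟩ := IsLocalization.surj (nonZeroDivisors R) c.1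
    have hs : IsUnit (algebraMap R F s.1) := IsLocalization.map_units F s
    have hr : r ∈ sInf (minimalPrimes R) := by
      rw [Ideal.mem_sInf]
      intro Q hQ
      haveI : Q.IsPrime := hQ.1.1
      have h0 : π ⟨Q, hQ⟩ c.1 = 0 := congrArg Subtype.val (RingHom.mem_ker.mp (hc ⟨Q, hQ⟩ (Finset.mem_univ _)))
      have h1 := congrArg (π ⟨Q, hQ⟩) hrs
      rw [map_mul, h0, zero_mul, hπ, IsScalarTower.algebraMap_apply R (R ⧸ Q) (FractionRing (R ⧸ Q))] at h1
      exact Ideal.Quotient.eq_zero_iff_mem.mp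
        (IsFractionRing.injective (R ⧸ Q) (FractionRing (R ⧸ Q)) (h1.symm.trans (map_zero _).symm))
    have hr0 : r = 0 := by
      have : sInf (minimalPrimes R) = nilradical R := Ideal.sInf_minimalPrimes (I := (⊥ : Ideal R))
      rw [this, nilradical_eq_zero] at hr
      exact hr
    rw [hr0, map_zero] at hrs
    exact hs.mul_left_eq_zero.mp hrs
  obtain ⟨Q, -, hQ⟩ := (Ideal.IsPrime.inf_le' hMp).mp hker
  letI : Algebra C (integralClosure (R ⧸ Q.1) (FractionRing (R ⧸ Q.1))) := (g Q).toAlgebra
  haveI : IsScalarTower R C (integralClosure (R ⧸ Q.1) (FractionRing (R ⧸ Q.1))) :=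
    IsScalarTower.of_algebraMap_eq fun r => Subtype.ext ((hπ Q r).symm)
  haveI : Algebra.IsIntegral R (R ⧸ Q.1) := ⟨fun x => by
    obtain ⟨r, rfl⟩ := Ideal.Quotient.mk_surjective x
    exact isIntegral_algebraMap⟩
  haveI : Algebra.IsIntegral R (integralClosure (R ⧸ Q.1) (FractionRing (R ⧸ Q.1))) := Algebra.IsIntegral.trans (R ⧸ Q.1)
  haveI : Algebra.IsIntegral C (integralClosure (R ⧸ Q.1) (FractionRing (R ⧸ Q.1))) := Algebra.IsIntegral.tower_top R
  obtain ⟨P, -, hP, hPM⟩ := Ideal.exists_ideal_over_prime_of_isIntegral M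
    (⊥ : Ideal (integralClosure (R ⧸ Q.1) (FractionRing (R ⧸ Q.1)))) (fun x hx => hQ hx)
  haveI := hP
  exact Set.mem_iUnion.mpr ⟨Q, P, Ideal.isMaximal_of_isIntegral_of_isMaximal_comap P (by rw [hPM]; exact hM), hPM⟩

section

variable (A E : Type u) [CommRing A] [IsLocalRing A] [CommRing E] [IsLocalRing E] [Algebra A E]
  [IsLocalHom (algebraMap A E)]

theorem isIntegral_residueField (hE : EGA4loc.IsEssentiallyEtale A E) : Algebra.IsIntegral A (ResidueField E) := by
  obtain ⟨C, _, _, q, _, hC, -, ⟨e⟩⟩ := hE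
  haveI := hC
  haveI : Algebra.EssFiniteType C (Localization.AtPrime q) := Algebra.EssFiniteType.of_isLocalization _ q.primeCompl
  haveI : Algebra.EssFiniteType A (Localization.AtPrime q) := Algebra.EssFiniteType.comp A C _
  haveI : Algebra.EssFiniteType A E := Algebra.EssFiniteType.of_surjective e.symm.toAlgHom e.symm.surjective
  haveI : Algebra.FormallyUnramified C (Localization.AtPrime q) :=
    Algebra.FormallyUnramified.of_isLocalization q.primeCompl
  haveI : Algebra.FormallyUnramified A (Localization.AtPrime q) := Algebra.FormallyUnramified.comp A C _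
  haveI : Algebra.FormallyUnramified A E := Algebra.FormallyUnramified.of_equiv e.symm
  haveI : Module.Finite (ResidueField A) (ResidueField E) := inferInstance
  haveI : Algebra.IsIntegral A (ResidueField A) := ⟨fun x => by
    obtain ⟨r, rfl⟩ := IsLocalRing.residue_surjective x
    exact isIntegral_algebraMap⟩
  exact Algebra.IsIntegral.trans (ResidueField A)

/-- Contractions of maximal ideals along integral extensions with integral residue extension. -/
theorem isMaximal_comap [Algebra.IsIntegral A (ResidueField E)] {T C : Type u} [CommRing T] [Algebra E T]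
    [Algebra A T] [IsScalarTower A E T] [Algebra.IsIntegral E T] [CommRing C] [Algebra A C]
    (M : Ideal T) (hM : M.IsMaximal) (g : C →ₐ[A] T) : (M.comap g).IsMaximal := by
  haveI := hM
  have hME : M.comap (algebraMap E T) = maximalIdeal E :=
    IsLocalRing.eq_maximalIdeal (Ideal.isMaximal_comap_of_isIntegral_of_isMaximal (R := E) M)
  let ρ : ResidueField E →+* T ⧸ M := Ideal.Quotient.lift (maximalIdeal E) (algebraMap E (T ⧸ M)) fun e he =>
    Ideal.Quotient.eq_zero_iff_mem.mpr (Ideal.mem_comap.mp (hME.symm ▸ he))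
  let ρ' : ResidueField E →ₐ[A] T ⧸ M := AlgHom.mk ρ fun a => by
    show ρ (residue E (algebraMap A E a)) = _
    exact (IsScalarTower.algebraMap_apply A E (T ⧸ M) a).symm
  let S := integralClosure A (T ⧸ M)
  let τ : E →+* S := (algebraMap E (T ⧸ M)).codRestrict S fun e =>
    (Algebra.IsIntegral.isIntegral (R := A) (residue E e)).map ρ'
  have hQint : ∀ y : T ⧸ M, IsIntegral A y := fun y => by
    obtain ⟨p, hp, hpz⟩ := Algebra.IsIntegral.isIntegral (R := E) y
    refine isIntegral_trans (A := S) y ⟨p.map τ, hp.map _, ?_⟩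
    rw [Polynomial.eval₂_map]
    exact hpz
  let φ : C →ₐ[A] T ⧸ M := (Ideal.Quotient.mkₐ A M).comp g
  have hker : M.comap g = RingHom.ker φ := by
    ext c
    exact (Ideal.Quotient.eq_zero_iff_mem (I := M)).symm
  rw [hker]
  haveI : (RingHom.ker φ).IsPrime := RingHom.ker_isPrime φ
  haveI : Algebra.IsIntegral A (C ⧸ RingHom.ker φ) := ⟨fun r =>
    (isIntegral_algHom_iff (Ideal.kerLiftAlg φ) (Ideal.kerLiftAlg_injective φ)).mp (hQint _)⟩
  have hbot : ((⊥ : Ideal (C ⧸ RingHom.ker φ)).comap (algebraMap A (C ⧸ RingHom.ker φ))).IsMaximal := by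
    have he : (⊥ : Ideal (C ⧸ RingHom.ker φ)).comap (algebraMap A (C ⧸ RingHom.ker φ)) = maximalIdeal A := by
      refine le_antisymm (IsLocalRing.le_maximalIdeal (Ideal.IsPrime.ne_top inferInstance)) fun a ha => ?_
      rw [Ideal.mem_comap, Submodule.mem_bot]
      refine Ideal.kerLiftAlg_injective φ ?_
      rw [AlgHom.commutes, map_zero, IsScalarTower.algebraMap_apply A E (T ⧸ M)]
      refine Ideal.Quotient.eq_zero_iff_mem.mpr (Ideal.mem_comap.mp ?_)
      rw [hME]
      exact fun hu => ha (isUnit_of_map_unit _ _ hu)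
    rw [he]; exact maximalIdeal.isMaximal A
  have h := Ideal.isMaximal_of_isIntegral_of_isMaximal_comap (R := A) (⊥ : Ideal (C ⧸ RingHom.ker φ)) hbot
  exact Ideal.Quotient.maximal_of_isField _ (MulEquiv.isField ((Ideal.Quotient.maximal_ideal_iff_isField_quotient _).mp h)
    (RingEquiv.quotientBot _).symm.toMulEquiv)

variable [IsReduced A] [IsNoetherianRing A]

theorem isReduced_and_isNoetherianRing (hE : EGA4loc.IsEssentiallyEtale A E) :
    IsReduced E ∧ IsNoetherianRing E := by
  obtain ⟨hloc, -⟩ := isLocalization_fractionRing_and_fg A E (minimalPrimes.finite_of_isNoetherianRing A) hE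
  obtain ⟨C, _, _, q, _, hC, -, ⟨e⟩⟩ := hE
  haveI := hC
  haveI : IsNoetherianRing C := Algebra.FiniteType.isNoetherianRing A C
  haveI : IsReduced C := Hens.isReduced_of_etale A C
  haveI : IsReduced (Localization.AtPrime q) := inferInstanceAs (IsReduced (Localization q.primeCompl))
  exact ⟨isReduced_of_injective e.toRingEquiv.toRingHom e.injective,
    isNoetherianRing_of_ringEquiv (Localization.AtPrime q) e.symm.toRingEquiv⟩

theorem inter_normalization (hE : EGA4loc.IsEssentiallyEtale A E) (L : Subalgebra A (FractionRing E))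
    (hL : ∀ s ∈ nonZeroDivisors A, ∃ y ∈ L, algebraMap A (FractionRing E) s * y = 1)
    (C : Subalgebra A (FractionRing E))
    (hC : C = L ⊓ (integralClosure E (FractionRing E)).restrictScalars A) :
    (∀ x ∈ L, IsIntegral C x → x ∈ C) ∧
      {N : Ideal C | N.IsMaximal}.Finite ∧
      (∀ N : Ideal C, N.IsMaximal ↔ ∃ M : Ideal ((integralClosure E (FractionRing E)).restrictScalars A),
          M.IsMaximal ∧ N = M.comap (Subalgebra.inclusion (hC.trans_le inf_le_right))) ∧
      ∀ l ∈ L, ∃ c ∈ C, ∃ s ∈ nonZeroDivisors A, ∃ y ∈ L,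
        algebraMap A (FractionRing E) s * y = 1 ∧ l = c * y := by
  classical
  obtain ⟨hred, hnoe⟩ := isReduced_and_isNoetherianRing A E hE
  have hmin := minimalPrimes.finite_of_isNoetherianRing A
  let F := FractionRing E
  let E' := (integralClosure E F).restrictScalars A
  let i := Subalgebra.inclusion (hC.trans_le inf_le_right : C ≤ E')
  have memC : ∀ x, x ∈ L → IsIntegral E x → x ∈ C := fun x h1 h2 => hC ▸ ⟨h1, h2⟩
  have memL : ∀ c : C, (c : F) ∈ L := fun c => (hC ▸ c.2 : (c : F) ∈ L ⊓ E').1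
  have hfinM : {M : Ideal E' | M.IsMaximal}.Finite := finite_maximal_normalization E
  have hmax : ∀ M : Ideal E', M.IsMaximal → (M.comap i).IsMaximal := by
    intro M hM
    haveI := hM
    haveI := isIntegral_residueField A E hE
    let g : C →ₐ[A] integralClosure E F :=
      { toRingHom := (C.val.toRingHom).codRestrict (integralClosure E F) fun c => (i c).2
        commutes' := fun a => Subtype.ext (IsScalarTower.algebraMap_apply A E F a) }
    exact isMaximal_comap A E (T := integralClosure E F) M hM g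
  have hunit : ∀ c : C, (∀ M : Ideal E', M.IsMaximal → c ∉ M.comap i) → IsUnit c := by
    intro c hc
    have hu : IsUnit (i c) := by
      by_contra h
      obtain ⟨M, hM, hcM⟩ := exists_max_ideal_of_mem_nonunits h
      exact hc M hM hcM
    obtain ⟨z, hz⟩ := hu.exists_right_inv
    have hz' : (c : F) * z.1 = 1 := congrArg Subtype.val hz
    have hzL : z.1 ∈ L := exists_inverse_mem A E hmin hE L hL _ (memL c) _ hz'
    exact IsUnit.of_mul_eq_one ⟨z.1, memC _ hzL z.2⟩ (Subtype.ext hz')
  have hiff : ∀ N : Ideal C, N.IsMaximal ↔ ∃ M : Ideal E', M.IsMaximal ∧ N = M.comap i := by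
    refine fun N => ⟨fun hN => ?_, fun ⟨M, hM, h⟩ => h ▸ hmax M hM⟩
    have hsub : (N : Set C) ⊆ ⋃ M ∈ (↑hfinM.toFinset : Set (Ideal E')), ((M.comap i : Ideal C) : Set C) := by
      intro c hc
      by_contra h
      simp only [Set.Finite.coe_toFinset, Set.mem_iUnion, not_exists] at h
      exact hN.ne_top (Ideal.eq_top_of_isUnit_mem _ hc (hunit c fun M hM hcM => h M hM hcM))
    obtain ⟨M, hM, hle⟩ := (Ideal.subset_union_prime (f := fun M : Ideal E' => M.comap i) ⊥ ⊥
      fun M hM _ _ => (hmax M (hfinM.mem_toFinset.mp hM)).isPrime).mp hsub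
    exact ⟨M, hfinM.mem_toFinset.mp hM, hN.eq_of_le (hmax M (hfinM.mem_toFinset.mp hM)).ne_top hle⟩
  refine ⟨fun x hx hint => ?_, ?_, hiff, fun l hl => ?_⟩
  · obtain ⟨p, hp, hpx⟩ := hint
    let i₁ : C →+* integralClosure E F :=
      (C.val.toRingHom).codRestrict (integralClosure E F) fun c => (i c).2
    have h : IsIntegral (integralClosure E F) x := ⟨p.map i₁, hp.map _, by
      rw [Polynomial.eval₂_map]; exact hpx⟩
    exact memC x hx (isIntegral_trans x h)
  · refine (hfinM.image fun M => M.comap i).subset fun N hN => ?_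
    obtain ⟨M, hM, h⟩ := (hiff N).mp hN
    exact ⟨M, hM, h.symm⟩
  obtain ⟨-, t, ht⟩ := isLocalization_fractionRing_and_fg A E hmin hE
  let K := FractionRing A
  have hau : ∀ a : nonZeroDivisors A, IsUnit (algebraMap A F a) := fun a =>
    isUnit_algebraMap_fractionRing A E hmin hE a a.2
  letI : Algebra K F := (IsLocalization.lift hau : K →+* F).toAlgebra
  haveI : IsScalarTower A K F := IsScalarTower.of_algebraMap_eq fun a => (IsLocalization.lift_eq _ a).symm
  haveI : Module.Finite K F := ⟨⟨t, by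
    refine Submodule.eq_top_iff'.2 fun z => ?_
    obtain ⟨a, ha, haz⟩ := ht z
    have h1 : algebraMap A K a • z ∈ Submodule.span K (t : Set F) := by
      rw [algebraMap_smul, Algebra.smul_def]
      exact Submodule.span_le_restrictScalars A K (t : Set F) haz
    obtain ⟨u, hu⟩ := IsLocalization.map_units K (⟨a, ha⟩ : nonZeroDivisors A)
    have h2 := Submodule.smul_mem _ (↑u⁻¹ : K) h1
    rwa [smul_smul, ← hu, Units.inv_mul, one_smul] at h2⟩⟩
  obtain ⟨⟨a, ha⟩, h⟩ := (IsIntegral.of_finite K l).exists_multiple_integral_of_isLocalization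
    (nonZeroDivisors A) l
  rw [Submonoid.smul_def, Algebra.smul_def] at h
  obtain ⟨y, hy, hy1⟩ := hL a ha
  refine ⟨algebraMap A F a * l, memC _ (mul_mem (L.algebraMap_mem a) hl) h.tower_top, a, ha, y, hy, hy1, ?_⟩
  rw [mul_right_comm, hy1, one_mul]

end

end Groth.Agent.SHens6
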