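import Groth.Agent.Lib.SHens6.SubFG
import Groth.Agent.Lib.SHens6.EssEtale
import Groth.Agent.Lib.Hens.EssEtale
import Groth.Agent.Lib.FormalH7.FlatCplMap
import Mathlib

/-! # Noetherian unramified subrings of essentially étale algebras -/

set_option autoImplicit false
universe u

open IsLocalRing Polynomial
open scoped TensorProduct

namespace Groth.Agent.SHens6

set_option maxHeartbeats 1000000 in
/-- A flat unramified local algebra essentially of finite type is generated, as a localization, by one
root of a monic polynomial. -/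
theorem exists_root_presentation (R T : Type u) [CommRing R] [IsLocalRing R] [CommRing T] [IsLocalRing T]
    [Algebra R T] [IsLocalHom (algebraMap R T)] [Module.Flat R T] [Algebra.FormallyUnramified R T]
    [Algebra.EssFiniteType R T] :
    ∃ (r : T) (f : R[X]), f.Monic ∧ aeval r f = 0 ∧
      (∀ e : T, ∃ p t : R[X], IsUnit (aeval r t) ∧ e * aeval r t = aeval r p) ∧
      ∀ p : R[X], aeval r p = 0 → ∃ u : R[X], IsUnit (aeval r u) ∧ f ∣ u * p := by
  let C := Algebra.EssFiniteType.subalgebra R T
  let Q : Ideal C := (maximalIdeal T).comap (algebraMap C T)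
  have hQ : Q.primeCompl = Algebra.EssFiniteType.submonoid R T := by
    ext c
    show ¬ algebraMap C T c ∈ maximalIdeal T ↔ IsUnit (algebraMap C T c)
    rw [mem_maximalIdeal, mem_nonunits_iff, not_not]
  haveI hloc : IsLocalization Q.primeCompl T := by rw [hQ]; infer_instance
  haveI : Algebra.IsUnramifiedAt R Q :=
    Algebra.FormallyUnramified.of_equiv
      (IsLocalization.algEquiv Q.primeCompl T (Localization.AtPrime Q) |>.restrictScalars R)
  obtain ⟨c₀, hc₀, P, ψ, hψ⟩ := Algebra.IsUnramifiedAt.exists_hasStandardEtaleSurjectionOn (R := R) Q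
  have hc₀u : IsUnit (algebraMap C T c₀) := IsLocalization.map_units T (⟨c₀, hc₀⟩ : Q.primeCompl)
  let Φ : P.Ring →ₐ[R] T := (IsLocalization.liftAlgHom (M := Submonoid.powers c₀)
    (f := IsScalarTower.toAlgHom R C T) (fun y => by
      obtain ⟨n, hn⟩ := y.2
      show IsUnit (algebraMap C T (y : C))
      rw [← hn, map_pow]
      exact hc₀u.pow n)).comp ψ
  have hΦ : ∀ c : C, ∃ e, Φ e = algebraMap C T c := fun c => by
    obtain ⟨e, he⟩ := hψ (algebraMap C (Localization.Away c₀) c)
    exact ⟨e, by simp [Φ, AlgHom.comp_apply, he]⟩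
  let q : Ideal P.Ring := (maximalIdeal T).comap Φ.toRingHom
  let E := Localization.AtPrime q
  let φ : E →ₐ[R] T := IsLocalization.liftAlgHom (M := q.primeCompl) (f := Φ) fun y =>
    of_not_not fun hn => y.2 hn
  have hφ : ∀ e, φ (algebraMap _ E e) = Φ e := fun e => by simp [φ]
  letI : Algebra E T := φ.toRingHom.toAlgebra
  haveI : IsScalarTower R E T := IsScalarTower.of_algebraMap_eq fun a => (φ.commutes a).symm
  haveI : IsLocalHom (algebraMap E T) := by
    refine ⟨fun x hx => ?_⟩
    obtain ⟨⟨e, s⟩, rfl⟩ := IsLocalization.mk'_surjective q.primeCompl x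
    rw [IsLocalization.AtPrime.isUnit_mk'_iff E q]
    show ¬ Φ e ∈ maximalIdeal T
    rw [mem_maximalIdeal, mem_nonunits_iff, not_not]
    have h1 : IsUnit (φ (IsLocalization.mk' E e s)) := hx
    have := h1.mul ((IsLocalization.map_units E s).map φ)
    rwa [← map_mul, IsLocalization.mk'_spec, hφ] at this
  haveI : Algebra.FormallyEtale P.Ring E := Algebra.FormallyEtale.of_isLocalization q.primeCompl
  haveI : Algebra.FormallyEtale R E := Algebra.FormallyEtale.comp R P.Ring E
  haveI : Algebra.EssFiniteType P.Ring E := Algebra.EssFiniteType.of_isLocalization _ q.primeCompl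
  haveI : Algebra.EssFiniteType R E := Algebra.EssFiniteType.comp R P.Ring E
  haveI : Module.Flat E T := Algebra.FormallyUnramified.flat_of_restrictScalars R E T
  haveI : Module.FaithfullyFlat E T := Module.FaithfullyFlat.of_flat_of_isLocalHom
  have hinj : Function.Injective φ := FaithfulSMul.algebraMap_injective E T
  let pres : StandardEtalePresentation R P.Ring :=
    ⟨P, P.X, P.hasMap_X, by simpa [StandardEtalePair.lift_X_left] using Function.bijective_id⟩
  have hev : ∀ p : R[X], Φ (aeval P.X p) = aeval (Φ P.X) p := fun p =>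
    (aeval_algHom_apply Φ P.X p).symm
  have hgu : IsUnit (aeval (Φ P.X) P.g) := by rw [← hev]; exact P.hasMap_X.2.map Φ
  refine ⟨Φ P.X, P.f, P.monic_f, by rw [← hev, P.hasMap_X.1, map_zero], fun e => ?_, fun p hp => ?_⟩
  · obtain ⟨⟨c, s⟩, hcs⟩ := IsLocalization.surj (Algebra.EssFiniteType.submonoid R T) e
    obtain ⟨z, hz⟩ := hΦ c
    obtain ⟨w, hw⟩ := hΦ s
    obtain ⟨pz, nz, hpz⟩ := pres.exists_mul_aeval_x_g_pow_eq_aeval_x z
    obtain ⟨pw, nw, hpw⟩ := pres.exists_mul_aeval_x_g_pow_eq_aeval_x w
    have hpz' : Φ z * aeval (Φ P.X) P.g ^ nz = aeval (Φ P.X) pz := by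
      have := congrArg Φ hpz; rwa [map_mul, map_pow, hev, hev] at this
    have hpw' : Φ w * aeval (Φ P.X) P.g ^ nw = aeval (Φ P.X) pw := by
      have := congrArg Φ hpw; rwa [map_mul, map_pow, hev, hev] at this
    refine ⟨pz * P.g ^ nw, pw * P.g ^ nz, ?_, ?_⟩
    · rw [map_mul, map_pow, ← hpw', hw]
      exact ((IsLocalization.map_units T s).mul (hgu.pow nw)).mul (hgu.pow nz)
    · rw [map_mul, map_mul, map_pow, map_pow, ← hpw', ← hpz', hz, hw]
      change e * algebraMap C T (s : C) = algebraMap C T c at hcs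
      rw [← hcs]; ring
  · have h0 : φ (algebraMap P.Ring E (aeval P.X p)) = 0 := by rw [hφ, hev]; exact hp
    have h1 : algebraMap P.Ring E (aeval P.X p) = 0 := hinj (h0.trans (map_zero φ).symm)
    obtain ⟨w, hw⟩ := (IsLocalization.map_eq_zero_iff q.primeCompl E _).1 h1
    obtain ⟨u, n, hun⟩ := pres.exists_mul_aeval_x_g_pow_eq_aeval_x (w : P.Ring)
    change (w : P.Ring) * aeval P.X P.g ^ n = aeval P.X u at hun
    have h2 : aeval P.X (u * p) = 0 := by
      rw [map_mul, ← hun]; linear_combination aeval P.X P.g ^ n * hw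
    have h3 : algebraMap (AdjoinRoot P.f) (Localization.Away (AdjoinRoot.mk P.f P.g))
        (AdjoinRoot.mk P.f (u * p)) = 0 := by
      have h4 := congrArg P.equivAwayAdjoinRoot h2
      rw [map_zero, ← aeval_algHom_apply] at h4
      refine Eq.trans ?_ h4
      have hX : P.equivAwayAdjoinRoot P.X = algebraMap (AdjoinRoot P.f) _ (AdjoinRoot.root P.f) := by
        simp only [StandardEtalePair.equivAwayAdjoinRoot, AlgEquiv.ofAlgHom_apply]
        exact P.lift_X _ _
      show _ = aeval (P.equivAwayAdjoinRoot P.X) (u * p)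
      rw [hX, aeval_algebraMap_apply, AdjoinRoot.aeval_eq]
    obtain ⟨⟨_, k, rfl⟩, hk⟩ := (IsLocalization.map_eq_zero_iff (Submonoid.powers (AdjoinRoot.mk P.f P.g))
      _ _).1 h3
    refine ⟨P.g ^ k * u, ?_, ?_⟩
    · have hu : IsUnit (Φ (w : P.Ring)) := of_not_not fun hn => w.2 hn
      rw [map_mul, map_pow, ← hev u, ← hun, map_mul, map_pow, hev]
      exact (hgu.pow k).mul (hu.mul (hgu.pow n))
    · rw [← AdjoinRoot.mk_eq_zero, mul_assoc, map_mul, map_pow]
      exact hk

theorem exists_span_sup_eq_top (A D : Type u) [CommRing A] [CommRing D] [Algebra A D] (I : Ideal A)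
    (M : Submodule A D) (h : M ⊔ (Ideal.map (algebraMap A D) I).restrictScalars A = ⊤) (n : ℕ) :
    M ⊔ (Ideal.map (algebraMap A D) (I ^ n)).restrictScalars A = ⊤ := by
  simp only [← Ideal.smul_top_eq_map] at h ⊢
  induction n with
  | zero => simp [Ideal.map_top]
  | succ n ih =>
    refine top_le_iff.1 (h.ge.trans (sup_le le_sup_left ?_))
    conv_lhs => rw [← ih, Submodule.smul_sup, ← Submodule.mul_smul, ← pow_succ']
    exact sup_le (Submodule.smul_le_right.trans le_sup_left) le_sup_right

set_option maxHeartbeats 2000000 in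
set_option synthInstance.maxHeartbeats 200000 in
/-- A noetherian subring with `m D = m_D` of an essentially étale algebra is flat below it. -/
theorem flat_of_map_maximalIdeal (A D E : Type u) [CommRing A] [IsLocalRing A] [IsNoetherianRing A]
    [CommRing D] [IsLocalRing D] [IsNoetherianRing D] [CommRing E] [IsLocalRing E] [IsNoetherianRing E]
    [Algebra A D] [Algebra A E] [Algebra D E] [IsScalarTower A D E] [IsLocalHom (algebraMap A D)]
    [IsLocalHom (algebraMap D E)] [IsLocalHom (algebraMap A E)]
    (hE : EGA4loc.IsEssentiallyEtale A E)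
    (hm : Ideal.map (algebraMap A D) (maximalIdeal A) = maximalIdeal D) :
    Module.Flat D E := by
  classical
  obtain ⟨hfe, hef⟩ := Hens.essEtale_formallyEtale hE
  haveI : Module.Flat A E := by
    obtain ⟨C, _, _, q, _, hC, -, ⟨e⟩⟩ := id hE
    haveI := hC
    haveI : Module.Flat C (Localization.AtPrime q) := IsLocalization.flat _ q.primeCompl
    haveI : Module.Flat A (Localization.AtPrime q) := Module.Flat.trans A C _
    exact Module.Flat.of_linearEquiv e.toLinearEquiv
  haveI : Module.Finite (ResidueField A) (ResidueField E) := inferInstance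
  haveI : Algebra.IsSeparable (ResidueField A) (ResidueField E) := inferInstance
  let τ : ResidueField D →ₐ[ResidueField A] ResidueField E :=
    { ResidueField.map (algebraMap D E) with
      commutes' := fun x => by
        obtain ⟨a, rfl⟩ := residue_surjective x
        show residue E (algebraMap D E (algebraMap A D a)) = residue E (algebraMap A E a)
        rw [← IsScalarTower.algebraMap_apply] }
  haveI : Module.Finite (ResidueField A) (ResidueField D) :=
    Module.Finite.of_injective τ.toLinearMap (RingHom.injective _)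
  haveI : Algebra.IsSeparable (ResidueField A) (ResidueField D) :=
    Algebra.IsSeparable.of_algHom (ResidueField A) (ResidueField E) τ
  obtain ⟨G, hG⟩ := (inferInstance : Module.Finite (ResidueField A) (ResidueField D)).fg_top
  choose sec hsec using residue_surjective (R := D)
  let M : Submodule A D := Submodule.span A (G.image sec : Set D)
  have hMfg : M.FG := ⟨_, rfl⟩
  have hM : M ⊔ (Ideal.map (algebraMap A D) (maximalIdeal A)).restrictScalars A = ⊤ := by
    refine top_le_iff.1 fun d _ => ?_
    have h1 : residue D d ∈ Submodule.span (ResidueField A) (G : Set (ResidueField D)) := hG ▸ Submodule.mem_top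
    have h2 : ∀ x ∈ Submodule.span (ResidueField A) (G : Set (ResidueField D)),
        ∃ y ∈ M, residue D y = x := by
      intro x hx
      induction hx using Submodule.span_induction with
      | mem x hx => exact ⟨sec x, Submodule.subset_span (Finset.mem_coe.2 (Finset.mem_image_of_mem _ hx)), hsec x⟩
      | zero => exact ⟨0, zero_mem _, map_zero _⟩
      | add x y _ _ hx hy =>
        obtain ⟨x', hx', rfl⟩ := hx; obtain ⟨y', hy', rfl⟩ := hy
        exact ⟨x' + y', add_mem hx' hy', map_add _ _ _⟩
      | smul c x _ hx =>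
        obtain ⟨x', hx', rfl⟩ := hx
        obtain ⟨a, rfl⟩ := residue_surjective c
        refine ⟨a • x', M.smul_mem a hx', ?_⟩
        rw [Algebra.smul_def, Algebra.smul_def, map_mul]
        rfl
    obtain ⟨y, hy, hyd⟩ := h2 _ h1
    refine Submodule.mem_sup.2 ⟨y, hy, d - y, ?_, by ring⟩
    rw [Submodule.restrictScalars_mem, hm, ← residue_eq_zero_iff, map_sub, hyd, sub_self]
  rw [← RingHom.flat_algebraMap_iff]
  refine FormalH7.ringHomFlat_of_forall_flat_quotient_pow (algebraMap D E) (maximalIdeal D) ?_ fun n => ?_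
  · rw [jacobson_eq_maximalIdeal ⊥ bot_ne_top]
    exact Ideal.map_le_iff_le_comap.2 fun x hx hu => hx (isUnit_of_map_unit (algebraMap D E) x hu)
  rcases Nat.eq_zero_or_pos n with rfl | hn
  · haveI : Subsingleton (D ⧸ maximalIdeal D ^ 0) := Ideal.Quotient.subsingleton_iff.2 (by simp)
    exact @RingHom.Flat.of_bijective _ _ _ _ _ ⟨fun a b _ => Subsingleton.elim a b, fun y =>
      ⟨0, by
        haveI : Subsingleton (E ⧸ Ideal.map (algebraMap D E) (maximalIdeal D ^ 0)) :=
          Ideal.Quotient.subsingleton_iff.2 (by rw [pow_zero, Ideal.one_eq_top, Ideal.map_top])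
        exact Subsingleton.elim _ _⟩⟩
  let I := maximalIdeal A ^ n
  let D₁ := D ⧸ Ideal.map (algebraMap A D) I
  let E₁ := E ⧸ Ideal.map (algebraMap A E) I
  have hJ : Ideal.map (algebraMap A D) I = maximalIdeal D ^ n := by rw [Ideal.map_pow, hm]
  have hJE : Ideal.map (algebraMap D E) (Ideal.map (algebraMap A D) I) = Ideal.map (algebraMap A E) I := by
    rw [Ideal.map_map, ← IsScalarTower.algebraMap_eq]
  have hJne : Ideal.map (algebraMap A D) I ≠ ⊤ := by
    rw [hJ]; exact ne_top_of_le_ne_top (maximalIdeal.isMaximal D).ne_top (Ideal.pow_le_self hn.ne')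
  haveI : Nontrivial D₁ := Ideal.Quotient.nontrivial_iff.2 hJne
  haveI : IsLocalRing D₁ := IsLocalRing.of_surjective' (Ideal.Quotient.mk _) Ideal.Quotient.mk_surjective
  haveI : Module.Finite A D₁ := ⟨by
    have h := congrArg (Submodule.map (Ideal.Quotient.mkₐ A (Ideal.map (algebraMap A D) I)).toLinearMap)
      (exists_span_sup_eq_top A D (maximalIdeal A) M hM n)
    rw [Submodule.map_sup, Submodule.map_top, LinearMap.range_eq_top.2 Ideal.Quotient.mk_surjective] at h
    rw [← h]
    refine (hMfg.map _).sup ?_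
    rw [show Submodule.map (Ideal.Quotient.mkₐ A (Ideal.map (algebraMap A D) I)).toLinearMap
      ((Ideal.map (algebraMap A D) I).restrictScalars A) = ⊥ from ?_]
    · exact Submodule.fg_bot
    · refine eq_bot_iff.2 ?_
      rintro _ ⟨x, hx, rfl⟩
      exact Ideal.Quotient.eq_zero_iff_mem.2 hx⟩
  haveI : IsLocalHom (algebraMap D D₁) :=
    ⟨fun x hx => by
      by_contra hnx
      have hx' : x ∈ maximalIdeal D := hnx
      have h2 : IsNilpotent (algebraMap D D₁ x) := ⟨n, by
        rw [← map_pow]
        refine Ideal.Quotient.eq_zero_iff_mem.2 ?_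
        rw [hJ]; exact Ideal.pow_mem_pow hx' n⟩
      exact not_isUnit_zero (M₀ := D₁) (by
        obtain ⟨k, hk⟩ := h2; exact hk ▸ hx.pow k)⟩
  haveI : IsLocalHom (algebraMap A D₁) := by
    rw [IsScalarTower.algebraMap_eq A D D₁]; exact RingHom.isLocalHom_comp _ _
  have hm₁ : Ideal.map (algebraMap A D₁) (maximalIdeal A) = maximalIdeal D₁ := by
    rw [IsScalarTower.algebraMap_eq A D D₁, ← Ideal.map_map, hm]
    exact IsLocalRing.map_maximalIdeal_of_surjective (algebraMap D D₁) Ideal.Quotient.mk_surjective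
  haveI : Algebra.IsSeparable (ResidueField A) (ResidueField D₁) := by
    let e : ResidueField D →ₐ[ResidueField A] ResidueField D₁ :=
      { ResidueField.map (algebraMap D D₁) with
        commutes' := fun x => by
          obtain ⟨a, rfl⟩ := residue_surjective x
          show residue D₁ (algebraMap D D₁ (algebraMap A D a)) = residue D₁ (algebraMap A D₁ a)
          rw [← IsScalarTower.algebraMap_apply] }
    refine Algebra.IsSeparable.of_equiv_equiv (RingEquiv.refl (ResidueField A))
      (RingEquiv.ofBijective e.toRingHom ⟨RingHom.injective _, fun y => ?_⟩) ?_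
    · obtain ⟨y, rfl⟩ := residue_surjective y
      obtain ⟨d, rfl⟩ := Ideal.Quotient.mk_surjective y
      exact ⟨residue D d, rfl⟩
    · exact RingHom.ext fun x => (e.commutes x).symm
  haveI : Algebra.FormallyUnramified A D₁ := Algebra.FormallyUnramified.of_map_maximalIdeal hm₁
  let g : D₁ →+* E₁ := Ideal.quotientMap _ (algebraMap D E) (Ideal.map_le_iff_le_comap.1 hJE.le)
  letI : Algebra D₁ E₁ := g.toAlgebra
  haveI : IsScalarTower A D₁ E₁ := IsScalarTower.of_algebraMap_eq fun a => by
    show Ideal.Quotient.mk _ (algebraMap A E a) = Ideal.Quotient.mk _ (algebraMap D E (algebraMap A D a))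
    rw [← IsScalarTower.algebraMap_apply]
  letI : Algebra (A ⧸ I) D₁ := (Ideal.quotientMap _ (algebraMap A D) Ideal.le_comap_map).toAlgebra
  haveI : IsScalarTower A (A ⧸ I) D₁ := IsScalarTower.of_algebraMap_eq fun a => rfl
  letI : Algebra (A ⧸ I) E₁ := (Ideal.quotientMap _ (algebraMap A E) Ideal.le_comap_map).toAlgebra
  haveI : IsScalarTower A (A ⧸ I) E₁ := IsScalarTower.of_algebraMap_eq fun a => rfl
  haveI : IsScalarTower (A ⧸ I) D₁ E₁ := IsScalarTower.of_algebraMap_eq fun x => by
    obtain ⟨a, rfl⟩ := Ideal.Quotient.mk_surjective x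
    exact IsScalarTower.algebraMap_apply A D₁ E₁ a
  haveI : Module.Flat (A ⧸ I) E₁ := by
    haveI : Module.Flat (A ⧸ I) ((A ⧸ I) ⊗[A] E) := inferInstance
    exact Module.Flat.of_linearEquiv (LinearEquiv.extendScalarsOfSurjective Ideal.Quotient.mk_surjective
      (((TensorProduct.quotTensorEquivQuotSMul E I).trans
        (Submodule.quotEquivOfEq _ _ (Ideal.smul_top_eq_map I))).trans
        (Submodule.Quotient.restrictScalarsEquiv A (Ideal.map (algebraMap A E) I)))).symm
  haveI : Algebra.FormallyUnramified (A ⧸ I) D₁ := Algebra.FormallyUnramified.of_restrictScalars A (A ⧸ I) D₁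
  haveI : Algebra.EssFiniteType (A ⧸ I) D₁ := Algebra.EssFiniteType.of_comp A (A ⧸ I) D₁
  have hflat : g.Flat := Algebra.FormallyUnramified.flat_of_restrictScalars (A ⧸ I) D₁ E₁
  let e₁ : D ⧸ maximalIdeal D ^ n ≃+* D₁ := Ideal.quotEquivOfEq hJ.symm
  let e₂ : E₁ ≃+* E ⧸ Ideal.map (algebraMap D E) (maximalIdeal D ^ n) :=
    Ideal.quotEquivOfEq (hJE.symm.trans (by rw [hJ]))
  have hcomp : Ideal.quotientMap (Ideal.map (algebraMap D E) (maximalIdeal D ^ n)) (algebraMap D E)
      Ideal.le_comap_map = e₂.toRingHom.comp (g.comp e₁.toRingHom) :=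
    Ideal.Quotient.ringHom_ext (RingHom.ext fun x => rfl)
  rw [hcomp]
  exact ((RingHom.Flat.of_bijective e₁.bijective).comp hflat).comp (RingHom.Flat.of_bijective e₂.bijective)

set_option maxHeartbeats 1000000 in
/-- A noetherian local subalgebra with `m D = m_D` of an essentially étale algebra is essentially
étale. -/
theorem isEssentiallyEtale_of_noetherian (A S : Type u) [CommRing A] [IsLocalRing A] [IsNoetherianRing A]
    [CommRing S] [IsLocalRing S] [Algebra A S] [IsLocalHom (algebraMap A S)]
    [Hensel.IsStrictHenselization A S] (D : Subalgebra A S) [IsLocalRing D] [IsLocalHom (algebraMap D S)]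
    [IsNoetherianRing D] (E : Subalgebra A S) [IsLocalRing E] (hDE : D ≤ E)
    (hE : EGA4loc.IsEssentiallyEtale A E)
    (hm : Ideal.map (algebraMap A D) (maximalIdeal A) = maximalIdeal D) :
    EGA4loc.IsEssentiallyEtale A D := by
  classical
  haveI hAD : IsLocalHom (algebraMap A D) := ⟨fun a ha => by
    have := ha.map (algebraMap D S)
    rw [← IsScalarTower.algebraMap_apply] at this
    exact isUnit_of_map_unit _ _ this⟩
  haveI hAE : IsLocalHom (algebraMap A E) := ⟨fun a ha => by
    refine isUnit_of_map_unit (algebraMap A S) a ?_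
    have := ha.map E.val
    rwa [E.val.commutes] at this⟩
  let j : D →ₐ[A] E := Subalgebra.inclusion hDE
  letI : Algebra D E := j.toRingHom.toAlgebra
  haveI : IsScalarTower A D E := IsScalarTower.of_algebraMap_eq fun a => (j.commutes a).symm
  haveI : IsLocalHom (algebraMap D E) := ⟨fun d hd =>
    isUnit_of_map_unit (algebraMap D S) d (hd.map E.val)⟩
  obtain ⟨hfe, hef⟩ := Hens.essEtale_formallyEtale hE
  haveI : IsNoetherianRing E := Algebra.EssFiniteType.isNoetherianRing A E
  haveI := flat_of_map_maximalIdeal A D E hE hm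
  haveI : Algebra.FormallyUnramified D E := Algebra.FormallyUnramified.of_restrictScalars A D E
  haveI : Algebra.EssFiniteType D E := Algebra.EssFiniteType.of_comp A D E
  obtain ⟨r, f, hf, hfr, hgen, hzero⟩ := exists_root_presentation D E
  obtain ⟨s₀, hs₀u, hs₀⟩ : ∃ s : D[X], IsUnit (aeval r s) ∧ ∀ p : D[X], aeval r p = 0 → f ∣ s * p := by
    obtain ⟨gs, hgs⟩ := (IsNoetherian.noetherian (RingHom.ker (aeval (R := D) r).toRingHom) : Ideal.FG _)
    choose! u hu hdvd using hzero
    refine ⟨∏ g ∈ gs, u g, ?_, fun p hp => ?_⟩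
    · rw [map_prod]
      exact IsUnit.prod_iff.2 fun g hg => hu g (RingHom.mem_ker.1 (hgs ▸ Submodule.subset_span hg))
    · have hp' : p ∈ Ideal.span (gs : Set D[X]) := by rw [Ideal.span, hgs]; exact hp
      induction hp' using Submodule.span_induction with
      | mem g hg =>
        exact (hdvd g (RingHom.mem_ker.1 (hgs ▸ Submodule.subset_span hg))).trans
          (mul_dvd_mul_right (Finset.dvd_prod_of_mem u hg) g)
      | zero => rw [mul_zero]; exact dvd_zero f
      | add x y _ _ hx hy =>
        rw [mul_add]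
        exact dvd_add (hx (RingHom.mem_ker.1 (hgs ▸ ‹x ∈ _›))) (hy (RingHom.mem_ker.1 (hgs ▸ ‹y ∈ _›)))
      | smul c x hxm hx =>
        rw [smul_eq_mul, mul_left_comm]
        exact dvd_mul_of_dvd_right (hx (RingHom.mem_ker.1 (hgs ▸ hxm))) c
  choose num den hdu hnum using hgen
  let gens : Finset E := Algebra.EssFiniteType.finset A E
  let σ : Finset D := f.coeffs ∪ s₀.coeffs ∪ gens.biUnion (fun g => (num g).coeffs ∪ (den g).coeffs)
  let D₀ : Subalgebra A D := Algebra.adjoin A (σ : Set D)
  let ι : D₀ →+* D := D₀.val.toRingHom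
  have hmem : ∀ p : D[X], p.coeffs ⊆ σ → p ∈ Polynomial.lifts ι := fun p hp => by
    rw [Polynomial.lifts_iff_coeff_lifts]
    intro i
    by_cases h0 : p.coeff i = 0
    · exact ⟨0, by rw [map_zero, h0]⟩
    · exact ⟨⟨_, Algebra.subset_adjoin (hp (Polynomial.coeff_mem_coeffs h0))⟩, rfl⟩
  have hall : ∀ y ∈ Algebra.adjoin A (gens : Set E), ∃ p t : D[X], p ∈ Polynomial.lifts ι ∧
      t ∈ Polynomial.lifts ι ∧ IsUnit (aeval r t) ∧ y * aeval r t = aeval r p := by
    intro y hy
    induction hy using Algebra.adjoin_induction with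
    | mem g hg =>
      exact ⟨num g, den g,
        hmem _ (((Finset.subset_union_left).trans (Finset.subset_biUnion_of_mem
          (fun g => (num g).coeffs ∪ (den g).coeffs) hg)).trans Finset.subset_union_right),
        hmem _ (((Finset.subset_union_right).trans (Finset.subset_biUnion_of_mem
          (fun g => (num g).coeffs ∪ (den g).coeffs) hg)).trans Finset.subset_union_right),
        hdu g, hnum g⟩
    | algebraMap a =>
      refine ⟨C (algebraMap A D a), 1, ⟨C (algebraMap A D₀ a), ?_⟩, one_mem _, by simp, ?_⟩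
      · show Polynomial.map ι (C (algebraMap A D₀ a)) = _
        rw [Polynomial.map_C]; rfl
      · rw [map_one, mul_one, aeval_C, ← IsScalarTower.algebraMap_apply]
    | add x y _ _ hx hy =>
      obtain ⟨p, t, hp, ht, htu, h⟩ := hx
      obtain ⟨p', t', hp', ht', htu', h'⟩ := hy
      refine ⟨p * t' + p' * t, t * t', add_mem (mul_mem hp ht') (mul_mem hp' ht), mul_mem ht ht', ?_, ?_⟩
      · rw [map_mul]; exact htu.mul htu'
      · rw [map_add, map_mul, map_mul, map_mul, ← h, ← h']; ring
    | mul x y _ _ hx hy =>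
      obtain ⟨p, t, hp, ht, htu, h⟩ := hx
      obtain ⟨p', t', hp', ht', htu', h'⟩ := hy
      refine ⟨p * p', t * t', mul_mem hp hp', mul_mem ht ht', ?_, ?_⟩
      · rw [map_mul]; exact htu.mul htu'
      · rw [map_mul, map_mul, ← h, ← h']; ring
  have hmod : ∀ p ∈ Polynomial.lifts ι, ∀ i, (p %ₘ f).coeff i ∈ D₀ := by
    intro p hp i
    obtain ⟨p₀, rfl⟩ := hp
    obtain ⟨f₀, hf₀, -, hf₀m⟩ := lifts_and_natDegree_eq_and_monic
      (hmem f (Finset.subset_union_left.trans Finset.subset_union_left)) hf
    rw [← hf₀, Polynomial.coe_mapRingHom, ← Polynomial.map_modByMonic ι hf₀m, Polynomial.coeff_map]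
    exact ((p₀ %ₘ f₀).coeff i).2
  haveI : Algebra.EssFiniteType A D := by
    refine (Algebra.essFiniteType_iff A D).2 ⟨σ, fun x => ?_⟩
    obtain ⟨⟨⟨c, hc⟩, ⟨⟨u, hu⟩, huu⟩⟩, hcu⟩ :=
      IsLocalization.surj (Algebra.EssFiniteType.submonoid A E) (j x)
    change j x * u = c at hcu
    change IsUnit u at huu
    obtain ⟨p, t, hp, ht, htu, hc'⟩ := hall c hc
    obtain ⟨p', t', hp', ht', htu', hu'⟩ := hall u hu
    have hpu' : IsUnit (aeval r p') := by rw [← hu']; exact huu.mul htu'
    have h0 : aeval r (C x * (p' * t) - p * t') = 0 := by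
      rw [map_sub, map_mul, map_mul, map_mul, aeval_C, ← hu', ← hc', ← hcu,
        show algebraMap D E x = j x from rfl]
      ring
    have hdvd := hs₀ _ h0
    rw [← Polynomial.modByMonic_eq_zero_iff_dvd hf, mul_sub, mul_left_comm, ← smul_eq_C_mul,
      sub_eq_add_neg, Polynomial.add_modByMonic, Polynomial.smul_modByMonic, Polynomial.neg_modByMonic,
      ← sub_eq_add_neg, sub_eq_zero] at hdvd
    have hs₀l : s₀ ∈ Polynomial.lifts ι := hmem _ (Finset.subset_union_right.trans Finset.subset_union_left)
    let w := s₀ * (p' * t)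
    obtain ⟨i, hi⟩ : ∃ i, IsUnit ((w %ₘ f).coeff i) := by
      by_contra hne
      push Not at hne
      have h1 : aeval r (w %ₘ f) ∈ maximalIdeal E := by
        rw [aeval_eq_sum_range]
        refine sum_mem fun i _ => ?_
        rw [Algebra.smul_def]
        exact Ideal.mul_mem_right _ _ fun hu => hne i (isUnit_of_map_unit (algebraMap D E) _ hu)
      refine h1 ?_
      rw [Polynomial.aeval_modByMonic_eq_self_of_root hfr, map_mul, map_mul]
      exact hs₀u.mul (hpu'.mul htu)
    refine ⟨_, hmod w (mul_mem hs₀l (mul_mem hp' ht)) i, hi, ?_⟩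
    have h2 := congrArg (fun q => Polynomial.coeff q i) hdvd
    simp only [Polynomial.coeff_smul, smul_eq_mul] at h2
    rw [h2]
    exact hmod _ (mul_mem hs₀l (mul_mem hp ht')) i
  exact isEssentiallyEtale_of_map_maximalIdeal A S D hm

end Groth.Agent.SHens6
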