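import Groth.Agent.Lib.SHens6.FracEssEtale
import Groth.Agent.Lib.Hens.Reduced
import Groth.Agent.Lib.Hens.EssEtale
import Mathlib

/-! # Normalization of an essentially étale algebra over normalizations of intermediate rings -/

set_option autoImplicit false
universe u

open IsLocalRing
open scoped TensorProduct

namespace Groth.Agent.SHens6

/-- Elements of a subalgebra finite over the base field clear denominators into integral elements. -/
theorem isUnit_algebraMap_fractionRing (A E : Type u) [CommRing A] [IsLocalRing A] [IsReduced A]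
    (hmin : (minimalPrimes A).Finite) [CommRing E] [Algebra A E] (hE : EGA4loc.IsEssentiallyEtale A E)
    (a : A) (ha : a ∈ nonZeroDivisors A) : IsUnit (algebraMap A (FractionRing E) a) := by
  obtain ⟨hloc, -⟩ := isLocalization_fractionRing_and_fg A E hmin hE
  rw [IsScalarTower.algebraMap_apply A E (FractionRing E)]
  exact IsLocalization.map_units (FractionRing E)
    (⟨_, ⟨a, ha, rfl⟩⟩ : (nonZeroDivisors A).map (algebraMap A E))

set_option maxHeartbeats 2000000 in
set_option synthInstance.maxHeartbeats 200000 in
/-- For a subalgebra `T` of `K_E` containing `K_A`, the integral closure of `E` in `K_E` is flat over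
the integral closure of `A` in `T`. -/
theorem flat_integralClosure (A E : Type u) [CommRing A] [IsLocalRing A] [IsReduced A]
    (hmin : (minimalPrimes A).Finite) [CommRing E] [IsLocalRing E] [Algebra A E]
    (hE : EGA4loc.IsEssentiallyEtale A E) (T : Subalgebra A (FractionRing E))
    (hT : ∀ s ∈ nonZeroDivisors A, ∃ y ∈ T, algebraMap A (FractionRing E) s * y = 1) :
    ∃ f : integralClosure A T →+* integralClosure E (FractionRing E),
      (∀ c, ((f c : FractionRing E)) = ((c : T) : FractionRing E)) ∧ f.Flat := by
  classical
  obtain ⟨hloc, t, ht⟩ := isLocalization_fractionRing_and_fg A E hmin hE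
  let F := FractionRing E
  let K := FractionRing A
  have hKT : ∀ a : nonZeroDivisors A, IsUnit (algebraMap A T a) := fun a => by
    obtain ⟨y, hy, hy1⟩ := hT a a.2
    exact IsUnit.of_mul_eq_one (⟨y, hy⟩ : T) (Subtype.ext hy1)
  letI : Algebra K T := (IsLocalization.lift hKT : K →+* T).toAlgebra
  haveI : IsScalarTower A K T := IsScalarTower.of_algebraMap_eq fun a => (IsLocalization.lift_eq hKT a).symm
  haveI : IsArtinianRing K := Branch14.isArtinianRing_fractionRing A hmin
  letI : Algebra K F := ((algebraMap T F).comp (algebraMap K T)).toAlgebra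
  haveI : IsScalarTower K T F := IsScalarTower.of_algebraMap_eq fun _ => rfl
  haveI : IsScalarTower A K F := IsScalarTower.of_algebraMap_eq fun a => by
    show algebraMap A F a = algebraMap T F (algebraMap K T (algebraMap A K a))
    rw [← IsScalarTower.algebraMap_apply A K T, ← IsScalarTower.algebraMap_apply A T F]
  haveI : Module.Finite K F := ⟨⟨t, by
    refine Submodule.eq_top_iff'.2 fun x => ?_
    obtain ⟨a, ha, hax⟩ := ht x
    have h1 : algebraMap A K a • x ∈ Submodule.span K (t : Set F) := by
      rw [algebraMap_smul, Algebra.smul_def]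
      exact Submodule.span_le_restrictScalars A K (t : Set F) hax
    obtain ⟨u, hu⟩ := IsLocalization.map_units K (⟨a, ha⟩ : nonZeroDivisors A)
    have h2 := Submodule.smul_mem _ (↑u⁻¹ : K) h1
    rwa [smul_smul, ← hu, Units.inv_mul, one_smul] at h2⟩⟩
  haveI : IsNoetherian K F := inferInstance
  haveI : Module.Finite K T := Module.Finite.of_injective
    (IsScalarTower.toAlgHom K T F).toLinearMap Subtype.val_injective
  haveI : IsArtinianRing T := IsArtinianRing.of_finite K T
  -- data of the étale presentation
  obtain ⟨C₀, _, _, q, _, hC₀, -, ⟨eq'⟩⟩ := id hE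
  haveI := hC₀
  haveI hEflat : Module.Flat A E := by
    haveI : Module.Flat C₀ (Localization.AtPrime q) := IsLocalization.flat _ q.primeCompl
    haveI : Module.Flat A (Localization.AtPrime q) := Module.Flat.trans A C₀ _
    exact Module.Flat.of_linearEquiv eq'.toLinearEquiv
  letI algC₀E : Algebra C₀ E :=
    (eq'.symm.toAlgHom.comp (IsScalarTower.toAlgHom A C₀ (Localization.AtPrime q))).toRingHom.toAlgebra
  haveI : IsScalarTower A C₀ E := IsScalarTower.of_algebraMap_eq fun a => by
    show algebraMap A E a = eq'.symm (algebraMap C₀ _ (algebraMap A C₀ a))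
    rw [← IsScalarTower.algebraMap_apply, AlgEquiv.commutes]
  haveI : IsLocalization q.primeCompl E :=
    IsLocalization.isLocalization_of_algEquiv q.primeCompl
      ({ eq'.symm.toRingEquiv with commutes' := fun c => rfl } : Localization.AtPrime q ≃ₐ[C₀] E)
  have hbij : Function.Bijective (TensorProduct.toIntegralClosure A E T) :=
    TensorProduct.toIntegralClosure_bijective_of_tower (S := C₀)
      TensorProduct.toIntegralClosure_bijective_of_smooth
      (TensorProduct.toIntegralClosure_bijective_of_isLocalization q.primeCompl)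
  -- the ring `W = E ⊗ T` is reduced artinian and surjects onto `K_E`
  let W := E ⊗[A] T
  let μ : W →ₐ[E] F := Algebra.TensorProduct.lift (Algebra.ofId E F) T.val fun _ _ => Commute.all _ _
  have hμ : ∀ x y, μ (x ⊗ₜ y) = algebraMap E F x * (y : F) := fun x y =>
    Algebra.TensorProduct.lift_tmul _ _ _ x y
  have hμs : Function.Surjective μ := fun z => by
    obtain ⟨e, ⟨_, a, ha, rfl⟩, rfl⟩ :=
      IsLocalization.exists_mk'_eq ((nonZeroDivisors A).map (algebraMap A E)) z
    obtain ⟨y, hy, hy1⟩ := hT a ha
    refine ⟨e ⊗ₜ ⟨y, hy⟩, ?_⟩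
    rw [hμ, IsLocalization.eq_mk'_iff_mul_eq, mul_assoc, ← IsScalarTower.algebraMap_apply, mul_comm y,
      hy1, mul_one]
  haveI : IsReduced W := by
    haveI : IsReduced C₀ := Hens.isReduced_of_etale A C₀
    haveI : IsReduced E := isReduced_localizationPreserves q.primeCompl E inferInstance
    haveI : IsReduced F := isReduced_localizationPreserves (nonZeroDivisors E) F inferInstance
    haveI : IsReduced T := isReduced_of_injective T.val Subtype.val_injective
    haveI : IsReduced (T ⊗[A] C₀) := Hens.isReduced_of_etale T (T ⊗[A] C₀)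
    haveI : IsReduced (C₀ ⊗[A] T) := isReduced_of_injective (Algebra.TensorProduct.comm A C₀ T)
      (AlgEquiv.injective _)
    letI : Algebra (C₀ ⊗[A] T) (E ⊗[A] T) :=
      (Algebra.TensorProduct.map (Algebra.ofId C₀ E) (AlgHom.id A T)).toRingHom.toAlgebra
    haveI : IsLocalization (Algebra.algebraMapSubmonoid (C₀ ⊗[A] T) q.primeCompl) (E ⊗[A] T) := by
      refine IsLocalization.tensorProduct_tensorProduct _ _ q.primeCompl _ ?_
      ext; simp [RingHom.algebraMap_toAlgebra]
    exact isReduced_localizationPreserves (Algebra.algebraMapSubmonoid (C₀ ⊗[A] T) q.primeCompl)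
      (E ⊗[A] T) inferInstance
  haveI : IsArtinianRing W := by
    letI : Algebra T W := Algebra.TensorProduct.rightAlgebra
    haveI : Module.Finite T W := by
      obtain ⟨⟨b, hb⟩, hbt⟩ := IsLocalization.exist_integer_multiples_of_finset
        ((nonZeroDivisors A).map (algebraMap A E)) t
      obtain ⟨a₀, ha₀, rfl⟩ := hb
      choose! es hes using hbt
      refine ⟨⟨t.image fun z => es z ⊗ₜ[A] (1 : T), Submodule.eq_top_iff'.2 fun w => ?_⟩⟩
      induction w using TensorProduct.induction_on with
      | zero => exact zero_mem _
      | add x y hx hy => exact add_mem hx hy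
      | tmul e y =>
        obtain ⟨a, ha, hae⟩ := ht (algebraMap E F e)
        have key : ∀ x ∈ Submodule.span A (t : Set F), ∃ s ∈ Submodule.span A (t.image es : Set E),
            algebraMap A F a₀ * x = algebraMap E F s := by
          intro x hx
          induction hx using Submodule.span_induction with
          | mem z hz =>
            refine ⟨es z, Submodule.subset_span (Finset.mem_coe.2 (Finset.mem_image_of_mem _ hz)), ?_⟩
            rw [hes z hz]
            show _ = algebraMap A E a₀ • z
            rw [Algebra.smul_def, ← IsScalarTower.algebraMap_apply]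
          | zero => exact ⟨0, zero_mem _, by simp⟩
          | add u v _ _ hu hv =>
            obtain ⟨u', hu', hu⟩ := hu; obtain ⟨v', hv', hv⟩ := hv
            exact ⟨u' + v', add_mem hu' hv', by rw [mul_add, map_add, hu, hv]⟩
          | smul r u _ hu =>
            obtain ⟨u', hu', hu⟩ := hu
            exact ⟨r • u', Submodule.smul_mem _ r hu', by
              rw [Algebra.smul_def, Algebra.smul_def, map_mul, ← hu, ← IsScalarTower.algebraMap_apply]; ring⟩
        obtain ⟨s, hs, hes'⟩ := key _ hae
        have h1 : algebraMap A E (a₀ * a) * e = s := IsFractionRing.injective E F (by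
          rw [map_mul, ← IsScalarTower.algebraMap_apply, map_mul, ← hes']; ring)
        have h2 : s ⊗ₜ[A] (1 : T) ∈
            Submodule.span T ((t.image fun z => es z ⊗ₜ[A] (1 : T)) : Set W) := by
          clear h1 hes'
          induction hs using Submodule.span_induction with
          | mem z hz =>
            obtain ⟨z', hz', rfl⟩ := Finset.mem_image.1 (Finset.mem_coe.1 hz)
            exact Submodule.subset_span (Finset.mem_coe.2 (Finset.mem_image_of_mem _ hz'))
          | zero => rw [TensorProduct.zero_tmul]; exact zero_mem _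
          | add u v _ _ hu hv => rw [TensorProduct.add_tmul]; exact add_mem hu hv
          | smul r u _ hu =>
            rw [show ((r • u) ⊗ₜ[A] (1 : T) : W) = algebraMap A T r • (u ⊗ₜ[A] (1 : T)) from ?_]
            · exact Submodule.smul_mem _ _ hu
            · rw [Algebra.smul_def (algebraMap A T r)]
              show _ = (1 : E) ⊗ₜ[A] algebraMap A T r * (u ⊗ₜ[A] (1 : T))
              rw [Algebra.TensorProduct.tmul_mul_tmul, one_mul, mul_one, Algebra.algebraMap_eq_smul_one,
                TensorProduct.smul_tmul]
        obtain ⟨v, hv⟩ := (hKT ⟨a₀ * a, mul_mem ha₀ ha⟩).exists_right_inv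
        have h3 : (e ⊗ₜ[A] y : W) = (y * v) • (s ⊗ₜ[A] (1 : T)) := by
          rw [Algebra.smul_def]
          show _ = (1 : E) ⊗ₜ[A] (y * v) * (s ⊗ₜ[A] (1 : T))
          rw [Algebra.TensorProduct.tmul_mul_tmul, one_mul, mul_one, ← h1, ← Algebra.smul_def,
            TensorProduct.smul_tmul, Algebra.smul_def, mul_comm y v, ← mul_assoc, hv, one_mul]
        rw [h3]
        exact Submodule.smul_mem _ _ h2
    exact IsArtinianRing.of_finite T W
  haveI : IsSemisimpleRing W := IsArtinianRing.isSemisimpleRing_of_isReduced W
  obtain ⟨e, he, hker⟩ := IsSemisimpleRing.ideal_eq_span_idempotent (RingHom.ker μ.toRingHom)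
  have hε : IsIdempotentElem (1 - e) := he.one_sub
  have hμe : μ e = 0 := by
    have : e ∈ RingHom.ker μ.toRingHom := hker.symm ▸ Submodule.mem_span_singleton_self e
    exact this
  have hkill : ∀ w, μ w = 0 → (1 - e) * w = 0 := fun w hw => by
    have hw' : w ∈ Ideal.span {e} := hker.le hw
    obtain ⟨r, rfl⟩ := Ideal.mem_span_singleton.1 hw'
    rw [← mul_assoc, sub_mul, one_mul, he.eq, sub_self, zero_mul]
  -- lifting integral elements along the idempotent
  have hlift : ∀ x : integralClosure E F, ∃ w : W, IsIntegral E w ∧ μ w = x ∧ (1 - e) * w = w := by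
    rintro ⟨x, hx⟩
    obtain ⟨w₀, rfl⟩ := hμs x
    refine ⟨(1 - e) * w₀, ?_, by rw [map_mul, map_sub, map_one, hμe, sub_zero, one_mul],
      by rw [← mul_assoc, hε.eq]⟩
    obtain ⟨p, hp, hpx⟩ := hx
    refine ⟨Polynomial.X * p, Polynomial.monic_X.mul hp, ?_⟩
    have h0 : μ (Polynomial.aeval ((1 - e) * w₀) p) = 0 := by
      rw [← Polynomial.aeval_algHom_apply, map_mul, map_sub, map_one, hμe, sub_zero, one_mul]
      exact hpx
    rw [← Polynomial.aeval_def, map_mul, Polynomial.aeval_X, mul_right_comm, hkill _ h0, zero_mul]
  choose w hwint hwμ hwe using hlift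
  have huniq : ∀ x (v : W), μ v = x → (1 - e) * v = v → ∀ x' : integralClosure E F, (x' : F) = x → v = w x' := by
    intro x v hv hve x' hx'
    have h := hkill (v - w x') (by rw [map_sub, hv, hwμ, hx', sub_self])
    rwa [mul_sub, hve, hwe, sub_eq_zero] at h
  -- the map and the retraction
  let C := integralClosure A T
  have hmemC : ∀ c : C, ((c : T) : F) ∈ integralClosure E F := fun c =>
    (((c.2 : IsIntegral A (c : T)).map T.val).tower_top (A := E))
  let f : C →+* integralClosure E F :=
    { toFun := fun c => ⟨_, hmemC c⟩
      map_one' := rfl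
      map_mul' := fun _ _ => rfl
      map_zero' := rfl
      map_add' := fun _ _ => rfl }
  refine ⟨f, fun c => rfl, ?_⟩
  letI : Algebra C (integralClosure E F) := f.toAlgebra
  let M := TensorProduct A E C
  let φ := AlgEquiv.ofBijective (TensorProduct.toIntegralClosure A E T) hbij
  letI : Algebra C M := Algebra.TensorProduct.rightAlgebra
  haveI : Module.Flat C M := by
    haveI : Module.Flat C (C ⊗[A] E) := inferInstance
    refine Module.Flat.of_linearEquiv (M := C ⊗[A] E) ?_
    exact
      { toFun := fun m => (Algebra.TensorProduct.comm A E C) m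
        invFun := fun m => (Algebra.TensorProduct.comm A E C).symm m
        left_inv := fun m => (Algebra.TensorProduct.comm A E C).symm_apply_apply m
        right_inv := fun m => (Algebra.TensorProduct.comm A E C).apply_symm_apply m
        map_add' := map_add _
        map_smul' := fun c m => by
          show (Algebra.TensorProduct.comm A E C) (c • m) = c • (Algebra.TensorProduct.comm A E C) m
          rw [Algebra.smul_def c m, map_mul, Algebra.smul_def c (Algebra.TensorProduct.comm A E C m)]
          rfl }
  have hφC : ∀ c : C, (φ ((1 : E) ⊗ₜ[A] c) : W) = (1 : E) ⊗ₜ[A] (c : T) := fun c => by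
    show Algebra.TensorProduct.map _ _ _ = _
    rw [Algebra.TensorProduct.map_tmul]
    rfl
  have hμint : ∀ z : integralClosure E W, μ (z : W) ∈ integralClosure E F := fun z =>
    (z.2 : IsIntegral E (z : W)).map μ
  let r : M →ₗ[C] integralClosure E F :=
    { toFun := fun m => ⟨μ (φ m : W), hμint _⟩
      map_add' := fun m m' => Subtype.ext (by
        show μ ((φ (m + m') : integralClosure E W) : W) = μ (φ m : W) + μ (φ m' : W)
        rw [map_add, Subalgebra.coe_add, map_add])
      map_smul' := fun c m => Subtype.ext (by
        show μ ((φ (c • m) : integralClosure E W) : W) = ((c : T) : F) * μ (φ m : W)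
        rw [Algebra.smul_def]
        show μ ((φ ((1 : E) ⊗ₜ[A] c * m) : integralClosure E W) : W) = _
        rw [map_mul, Subalgebra.coe_mul, hφC, map_mul, hμ, map_one, one_mul]) }
  let s : integralClosure E F →ₗ[C] M :=
    { toFun := fun x => φ.symm ⟨w x, hwint x⟩
      map_add' := fun x x' => by
        rw [← map_add]
        refine congrArg φ.symm (Subtype.ext ?_)
        exact (huniq ((x + x' : integralClosure E F) : F) (w x + w x')
          (by rw [map_add, hwμ, hwμ]; rfl) (by rw [mul_add, hwe, hwe]) (x + x') rfl).symm
      map_smul' := fun c x => by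
        refine φ.injective ?_
        rw [RingHom.id_apply]
        show φ (φ.symm ⟨w (c • x), _⟩) = φ (c • φ.symm ⟨w x, _⟩)
        rw [Algebra.smul_def c (φ.symm _)]
        show φ (φ.symm ⟨w (c • x), _⟩) = φ ((1 : E) ⊗ₜ[A] c * φ.symm ⟨w x, _⟩)
        rw [map_mul, AlgEquiv.apply_symm_apply, AlgEquiv.apply_symm_apply]
        refine Subtype.ext ?_
        rw [Subalgebra.coe_mul, hφC]
        exact (huniq ((c • x : integralClosure E F) : F) _
          (by rw [map_mul, hμ, map_one, one_mul, hwμ]; rfl) (by rw [mul_left_comm, hwe]) (c • x) rfl).symm }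
  refine Module.Flat.of_retract s r (LinearMap.ext fun x => Subtype.ext ?_)
  show μ ((φ (φ.symm ⟨w x, hwint x⟩) : integralClosure E W) : W) = x
  rw [AlgEquiv.apply_symm_apply, hwμ]

end Groth.Agent.SHens6
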