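import Groth.Agent.Lib.SHens6.FracEssEtale
import Groth.Agent.Lib.Hens.Reduced
import Groth.Agent.Lib.Hens.EssEtale
import Mathlib

/-! # The normalization of an essentially étale algebra as a tensor product -/

set_option autoImplicit false
universe u

open IsLocalRing
open scoped TensorProduct

namespace Groth.Agent.SHens6

set_option maxHeartbeats 1000000 in
/-- Inside any algebra `K` containing an essentially étale `E`, the normalization of `E` is the tensor
product of `E` with the normalization of `A`. -/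
theorem normalization_tensor (A E K : Type u) [CommRing A] [IsLocalRing A] [CommRing E] [IsLocalRing E]
    [Algebra A E] [IsLocalHom (algebraMap A E)]
    (hE : EGA4loc.IsEssentiallyEtale A E) [CommRing K] [Algebra A K] (g : E →ₐ[A] K)
    (hg : Function.Injective g) (hu : ∀ a ∈ nonZeroDivisors A, IsUnit (algebraMap A K a))
    (A'' : Subalgebra A K)
    (hA'' : ∀ x : K, x ∈ A'' ↔ (IsIntegral A x ∧
      ∃ a ∈ nonZeroDivisors A, ∃ b : A, algebraMap A K a * x = algebraMap A K b)) :
    Function.Injective (Algebra.TensorProduct.productMap A''.val g) ∧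
      ∀ x : K, x ∈ (Algebra.TensorProduct.productMap A''.val g).range ↔
        (g.toRingHom.IsIntegralElem x ∧ ∃ a ∈ nonZeroDivisors A, ∃ e : E, algebraMap A K a * x = g e) := by
  obtain ⟨C₀, _, _, q, _, hC₀, -, ⟨eq'⟩⟩ := id hE
  haveI := hC₀
  haveI hEflat : Module.Flat A E := by
    haveI : Module.Flat C₀ (Localization.AtPrime q) := IsLocalization.flat _ q.primeCompl
    haveI : Module.Flat A (Localization.AtPrime q) := Module.Flat.trans A C₀ _
    exact Module.Flat.of_linearEquiv eq'.toLinearEquiv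
  letI algC₀E : Algebra C₀ E :=
    (eq'.symm.toAlgHom.comp (IsScalarTower.toAlgHom A C₀ (Localization.AtPrime q))).toRingHom.toAlgebra
  haveI : IsScalarTower A C₀ E := IsScalarTower.of_algebraMap_eq fun a => by
    show algebraMap A E a = eq'.symm (algebraMap C₀ _ (algebraMap A C₀ a))
    rw [← IsScalarTower.algebraMap_apply, AlgEquiv.commutes]
  haveI : IsLocalization q.primeCompl E :=
    IsLocalization.isLocalization_of_algEquiv q.primeCompl
      ({ eq'.symm.toRingEquiv with commutes' := fun c => rfl } : Localization.AtPrime q ≃ₐ[C₀] E)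
  let K₀ := FractionRing A
  have hbij : Function.Bijective (TensorProduct.toIntegralClosure A E K₀) :=
    TensorProduct.toIntegralClosure_bijective_of_tower (S := C₀)
      TensorProduct.toIntegralClosure_bijective_of_smooth
      (TensorProduct.toIntegralClosure_bijective_of_isLocalization q.primeCompl)
  let ι : K₀ →ₐ[A] K := IsLocalization.liftAlgHom (M := nonZeroDivisors A) (f := Algebra.ofId A K) fun a => hu a a.2
  have hι : ∀ a, ι (algebraMap A K₀ a) = algebraMap A K a := fun a => ι.commutes a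
  let ν : E ⊗[A] K₀ →ₐ[A] K := Algebra.TensorProduct.lift g ι fun _ _ => Commute.all _ _
  have hν : ∀ e y, ν (e ⊗ₜ y) = g e * ι y := fun e y => Algebra.TensorProduct.lift_tmul _ _ _ e y
  have hclear : ∀ w : E ⊗[A] K₀, ∃ a ∈ nonZeroDivisors A, ∃ e : E,
      algebraMap A (E ⊗[A] K₀) a * w = e ⊗ₜ 1 := by
    intro w
    induction w using TensorProduct.induction_on with
    | zero => exact ⟨1, one_mem _, 0, by rw [mul_zero, TensorProduct.zero_tmul]⟩
    | add u v hu hv =>
      obtain ⟨a, ha, e, he⟩ := hu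
      obtain ⟨a', ha', e', he'⟩ := hv
      refine ⟨a * a', mul_mem ha ha', algebraMap A E a' * e + algebraMap A E a * e', ?_⟩
      let inl : E →ₐ[A] E ⊗[A] K₀ := Algebra.TensorProduct.includeLeft
      show _ = inl (algebraMap A E a' * e + algebraMap A E a * e')
      rw [map_add inl, map_mul inl, map_mul inl, inl.commutes, inl.commutes,
        show inl e = _ from he.symm, show inl e' = _ from he'.symm, map_mul (algebraMap A _)]
      ring
    | tmul e y =>
      obtain ⟨⟨b, a⟩, hba⟩ := IsLocalization.surj (nonZeroDivisors A) y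
      refine ⟨a, a.2, b • e, ?_⟩
      rw [← Algebra.smul_def, ← TensorProduct.tmul_smul, Algebra.smul_def, mul_comm, hba,
        Algebra.algebraMap_eq_smul_one, TensorProduct.smul_tmul]
  have hνinj : Function.Injective ν := by
    refine (injective_iff_map_eq_zero ν).2 fun w hw => ?_
    obtain ⟨a, ha, e, he⟩ := hclear w
    have h0 : g e = 0 := by
      have := congrArg ν he
      rw [map_mul, hw, mul_zero, hν, map_one, mul_one] at this
      exact this.symm
    rw [show e = 0 from hg (h0.trans (map_zero g).symm), TensorProduct.zero_tmul] at he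
    have hau : IsUnit (algebraMap A (E ⊗[A] K₀) a) := by
      have h1 := (IsLocalization.map_units K₀ (⟨a, ha⟩ : nonZeroDivisors A)).map
        (Algebra.TensorProduct.includeRight : K₀ →ₐ[A] E ⊗[A] K₀)
      rwa [AlgHom.commutes] at h1
    exact hau.mul_right_eq_zero.1 he
  haveI : Module.FaithfullyFlat A E := Module.FaithfullyFlat.of_flat_of_isLocalHom
  have hιν : ∀ y, ν ((1 : E) ⊗ₜ y) = ι y := fun y => by rw [hν, map_one, one_mul]
  have hιinj : Function.Injective ι := by
    have h1 : Function.Injective (Algebra.TensorProduct.includeRight : K₀ →ₐ[A] E ⊗[A] K₀) :=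
      Algebra.TensorProduct.includeRight_injective (FaithfulSMul.algebraMap_injective A E)
    exact fun y y' h => h1 (hνinj ((hιν y).trans (h.trans (hιν y').symm)))
  let j : integralClosure A K₀ →ₐ[A] A'' := (ι.comp (integralClosure A K₀).val).codRestrict A'' fun y => by
    obtain ⟨⟨b, a⟩, hba⟩ := IsLocalization.surj (nonZeroDivisors A) (y : K₀)
    refine (hA'' _).2 ⟨(y.2 : IsIntegral A (y : K₀)).map ι, a, a.2, b, ?_⟩
    show algebraMap A K a * ι (y : K₀) = algebraMap A K b
    rw [← hι, ← hι, ← map_mul, mul_comm, hba]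
  have hj : Function.Bijective j := by
    refine ⟨fun y y' h => Subtype.ext (hιinj (congrArg Subtype.val h)), fun x => ?_⟩
    obtain ⟨hxi, a, ha, b, hb⟩ := (hA'' _).1 x.2
    obtain ⟨u, hu'⟩ := hu a ha
    have hx : ι (IsLocalization.mk' K₀ b ⟨a, ha⟩) = x := by
      apply (hu a ha).mul_left_cancel
      rw [hb, ← hι, ← map_mul, IsLocalization.mk'_spec' K₀ b ⟨a, ha⟩, hι]
    exact ⟨⟨IsLocalization.mk' K₀ b ⟨a, ha⟩, (isIntegral_algHom_iff ι hιinj).1 (hx ▸ hxi)⟩, Subtype.ext hx⟩
  let φ := AlgEquiv.ofBijective (TensorProduct.toIntegralClosure A E K₀) hbij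
  let P := Algebra.TensorProduct.productMap A''.val g
  have hP : ∀ z : E ⊗[A] integralClosure A K₀,
      P (Algebra.TensorProduct.map j (AlgHom.id A E) (Algebra.TensorProduct.comm A E _ z)) =
        ν ((φ z : integralClosure E (E ⊗[A] K₀)) : E ⊗[A] K₀) := by
    intro z
    induction z using TensorProduct.induction_on with
    | zero => simp
    | add u v hu hv => simp only [map_add, hu, hv, Subalgebra.coe_add]
    | tmul e y =>
      show _ = ν (Algebra.TensorProduct.map (AlgHom.id E E) (integralClosure A K₀).val (e ⊗ₜ y))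
      rw [Algebra.TensorProduct.map_tmul, hν, Algebra.TensorProduct.comm_tmul,
        Algebra.TensorProduct.map_tmul, Algebra.TensorProduct.productMap_apply_tmul, mul_comm]
      rfl
  let θ := (Algebra.TensorProduct.comm A E (integralClosure A K₀)).trans
    (Algebra.TensorProduct.congr (AlgEquiv.ofBijective j hj) (AlgEquiv.refl : E ≃ₐ[A] E))
  have hθ : ∀ z, P (θ z) = ν ((φ z : integralClosure E (E ⊗[A] K₀)) : E ⊗[A] K₀) := fun z => hP z
  refine ⟨fun u v h => ?_, fun x => ⟨?_, ?_⟩⟩
  · obtain ⟨u, rfl⟩ := θ.surjective u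
    obtain ⟨v, rfl⟩ := θ.surjective v
    change P (θ u) = P (θ v) at h
    rw [hθ, hθ] at h
    rw [φ.injective (Subtype.ext (hνinj h))]
  · rintro ⟨w, rfl⟩
    obtain ⟨z, rfl⟩ := θ.surjective w
    show g.toRingHom.IsIntegralElem (P (θ z)) ∧ _
    rw [hθ]
    refine ⟨?_, ?_⟩
    · obtain ⟨p, hp, hp0⟩ := ((φ z).2 : IsIntegral E _)
      refine ⟨p, hp, ?_⟩
      have h := congrArg ν hp0
      rw [map_zero, ← AlgHom.coe_toRingHom, Polynomial.hom_eval₂] at h
      refine Eq.trans ?_ h
      congr 1
      refine RingHom.ext fun e => ?_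
      show g e = ν (e ⊗ₜ 1)
      rw [hν, map_one, mul_one]
    · obtain ⟨a, ha, e, he⟩ := hclear ((φ z : integralClosure E (E ⊗[A] K₀)) : E ⊗[A] K₀)
      refine ⟨a, ha, e, ?_⟩
      have := congrArg ν he
      rw [map_mul, hν, map_one, mul_one, ν.commutes] at this
      show algebraMap A K a * P (θ z) = g e
      rw [hθ]
      exact this
  · rintro ⟨⟨p, hp, hpx⟩, a, ha, e, hae⟩
    let w : E ⊗[A] K₀ := e ⊗ₜ IsLocalization.mk' K₀ (1 : A) ⟨a, ha⟩
    have hw : ν w = x := by
      apply (hu a ha).mul_left_cancel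
      rw [hae, hν, mul_left_comm, ← hι, ← map_mul, IsLocalization.mk'_spec' K₀ (1 : A) ⟨a, ha⟩, map_one, map_one,
        mul_one]
    have hwi : IsIntegral E w := by
      refine ⟨p, hp, hνinj ?_⟩
      rw [map_zero, ← AlgHom.coe_toRingHom, Polynomial.hom_eval₂, ← hpx]
      congr 1
      refine RingHom.ext fun e' => ?_
      show ν (e' ⊗ₜ 1) = g e'
      rw [hν, map_one, mul_one]
    refine ⟨θ (φ.symm ⟨w, hwi⟩), ?_⟩
    show P (θ _) = x
    rw [hθ, AlgEquiv.apply_symm_apply]
    exact hw

theorem isReduced_and_jacobson (A E Q : Type u) [CommRing A] [IsLocalRing A] [CommRing E] [IsLocalRing E]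
    [Algebra A E] [IsLocalHom (algebraMap A E)] (hE : EGA4loc.IsEssentiallyEtale A E)
    [CommRing Q] [Algebra A Q] [Algebra.IsIntegral A Q] [Finite (MaximalSpectrum Q)] :
    Ideal.jacobson (⊥ : Ideal (Q ⊗[A] E)) =
      (Ideal.jacobson (⊥ : Ideal Q)).map (Algebra.TensorProduct.includeLeft : Q →ₐ[A] Q ⊗[A] E) ⊔
        (maximalIdeal E).map (Algebra.TensorProduct.includeRight : E →ₐ[A] Q ⊗[A] E) := by
  let B := Q ⊗[A] E
  let J := Ideal.jacobson (⊥ : Ideal Q)
  let Jm : Ideal B := J.map (Algebra.TensorProduct.includeLeft : Q →ₐ[A] B) ⊔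
    (maximalIdeal E).map (Algebra.TensorProduct.includeRight : E →ₐ[A] B)
  letI : Algebra E B := Algebra.TensorProduct.rightAlgebra
  haveI : Algebra.IsIntegral E B := by
    refine ⟨fun x => ?_⟩
    induction x using TensorProduct.induction_on with
    | zero => exact isIntegral_zero
    | add x y hx hy => exact hx.add hy
    | tmul c e =>
      have h1 : IsIntegral E ((c : Q) ⊗ₜ[A] (1 : E)) := by
        have h0 := (Algebra.IsIntegral.isIntegral (R := A) c).map
          (Algebra.TensorProduct.includeLeft : Q →ₐ[A] B)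
        haveI : IsScalarTower A E B := IsScalarTower.of_algebraMap_eq fun a =>
          ((Algebra.TensorProduct.includeRight : E →ₐ[A] B).commutes a).symm
        exact h0.tower_top
      have h2 : (c ⊗ₜ[A] e : B) = c ⊗ₜ[A] 1 * algebraMap E B e := by
        show _ = c ⊗ₜ[A] 1 * (1 : Q) ⊗ₜ[A] e
        rw [Algebra.TensorProduct.tmul_mul_tmul, mul_one, one_mul]
      rw [h2]
      exact h1.mul isIntegral_algebraMap
  have hA : Ideal.comap (algebraMap A E) (maximalIdeal E) = maximalIdeal A :=
    (local_hom_TFAE (algebraMap A E)).out 0 4 rfl rfl |>.mp inferInstance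
  have hmax : ∀ N : Ideal B, N.IsMaximal → Jm ≤ N := by
    intro N hN
    have h1 : (N.comap (algebraMap E B)) = maximalIdeal E :=
      eq_maximalIdeal (Ideal.isMaximal_comap_of_isIntegral_of_isMaximal N)
    have h1' : Ideal.comap (Algebra.TensorProduct.includeRight : E →ₐ[A] B) N = maximalIdeal E := h1
    refine sup_le (Ideal.map_le_iff_le_comap.2 ?_) (Ideal.map_le_iff_le_comap.2 h1'.ge)
    haveI := hN.isPrime
    haveI : (Ideal.comap (Algebra.TensorProduct.includeLeft : Q →ₐ[A] B) N).IsPrime := Ideal.IsPrime.comap _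
    have hm : (Ideal.comap (Algebra.TensorProduct.includeLeft : Q →ₐ[A] B) N).IsMaximal :=
      Ideal.isMaximal_of_isIntegral_of_isMaximal_comap (R := A) _ (by
        have : Ideal.comap (algebraMap A Q) (Ideal.comap (Algebra.TensorProduct.includeLeft : Q →ₐ[A] B) N) =
            maximalIdeal A := by
          ext a
          rw [← hA, Ideal.mem_comap, Ideal.mem_comap, Ideal.mem_comap, ← h1', Ideal.mem_comap,
            AlgHom.commutes, AlgHom.commutes]
        rw [this]; infer_instance)
    exact sInf_le ⟨bot_le, hm⟩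
  -- the quotient by `Jm` is reduced
  let k := ResidueField A
  have hJA : maximalIdeal A ≤ J.comap (algebraMap A Q) := fun a ha => by
    rw [Ideal.mem_comap]
    refine Ideal.mem_sInf.2 fun {M} hM => ?_
    haveI := hM.2
    have h1 : M.comap (algebraMap A Q) = maximalIdeal A :=
      eq_maximalIdeal (Ideal.isMaximal_comap_of_isIntegral_of_isMaximal M)
    show a ∈ M.comap (algebraMap A Q)
    rwa [h1]
  let Qb := Q ⧸ J
  letI : Algebra k Qb := (Ideal.Quotient.lift (maximalIdeal A) (algebraMap A Qb) fun a ha =>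
    Ideal.Quotient.eq_zero_iff_mem.2 (hJA ha)).toAlgebra
  haveI : IsScalarTower A k Qb := IsScalarTower.of_algebraMap_eq fun a => rfl
  haveI : IsReduced Qb := (Ideal.isRadical_iff_quotient_reduced J).1 (Ideal.isRadical_jacobson _)
  obtain ⟨hfe, hef⟩ := Hens.essEtale_formallyEtale hE
  let l := ResidueField E
  haveI : Module.Finite k l := inferInstance
  haveI : Algebra.IsSeparable k l := inferInstance
  haveI : Algebra.FormallyEtale k l := Algebra.FormallyEtale.of_isSeparable k l
  haveI : Algebra.Etale k l := ⟨inferInstance, Algebra.FinitePresentation.of_finiteType.1 inferInstance⟩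
  haveI : IsReduced (Qb ⊗[k] l) := Hens.isReduced_of_etale Qb _
  let R := B ⧸ Jm
  have hmk1 : ∀ q ∈ J, Ideal.Quotient.mk Jm (q ⊗ₜ[A] (1 : E)) = 0 := fun q hq =>
    Ideal.Quotient.eq_zero_iff_mem.2 (Ideal.mem_sup_left (Ideal.mem_map_of_mem
      (Algebra.TensorProduct.includeLeft : Q →ₐ[A] B) hq))
  have hmk2 : ∀ e ∈ maximalIdeal E, Ideal.Quotient.mk Jm ((1 : Q) ⊗ₜ[A] e) = 0 := fun e he =>
    Ideal.Quotient.eq_zero_iff_mem.2 (Ideal.mem_sup_right (Ideal.mem_map_of_mem
      (Algebra.TensorProduct.includeRight : E →ₐ[A] B) he))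
  letI : Algebra k R := (Ideal.Quotient.lift (maximalIdeal A) (algebraMap A R) fun a ha => by
    have h := hmk2 (algebraMap A E a) (by rw [← hA] at ha; exact ha)
    rw [← Algebra.TensorProduct.includeRight_apply (R := A) (A := Q), AlgHom.commutes] at h
    exact h).toAlgebra
  haveI : IsScalarTower A k R := IsScalarTower.of_algebraMap_eq fun a => rfl
  let α₀ : Qb →+* R := Ideal.Quotient.lift J ((Ideal.Quotient.mk Jm).comp
    (Algebra.TensorProduct.includeLeft : Q →ₐ[A] B).toRingHom) hmk1
  let β₀ : l →+* R := Ideal.Quotient.lift (maximalIdeal E) ((Ideal.Quotient.mk Jm).comp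
    (Algebra.TensorProduct.includeRight : E →ₐ[A] B).toRingHom) hmk2
  let α : Qb →ₐ[k] R :=
    { α₀ with
      commutes' := fun x => by
        obtain ⟨a, rfl⟩ := residue_surjective x
        show α₀ (algebraMap A Qb a) = algebraMap A R a
        exact congrArg (Ideal.Quotient.mk Jm) ((Algebra.TensorProduct.includeLeft : Q →ₐ[A] B).commutes a) }
  let β : l →ₐ[k] R :=
    { β₀ with
      commutes' := fun x => by
        obtain ⟨a, rfl⟩ := residue_surjective x
        show β₀ (residue E (algebraMap A E a)) = algebraMap A R a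
        exact congrArg (Ideal.Quotient.mk Jm) ((Algebra.TensorProduct.includeRight : E →ₐ[A] B).commutes a) }
  let χ : Qb ⊗[k] l →ₐ[k] R := Algebra.TensorProduct.lift α β fun _ _ => Commute.all _ _
  let Ξ : B →ₐ[A] Qb ⊗[k] l := Algebra.TensorProduct.lift
    (((Algebra.TensorProduct.includeLeft : Qb →ₐ[k] Qb ⊗[k] l).restrictScalars A).comp (Ideal.Quotient.mkₐ A J))
    (((Algebra.TensorProduct.includeRight : l →ₐ[k] Qb ⊗[k] l).restrictScalars A).comp
      (IsScalarTower.toAlgHom A E l)) fun _ _ => Commute.all _ _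
  have hχ : ∀ b, χ (Ξ b) = Ideal.Quotient.mk Jm b := by
    intro b
    induction b using TensorProduct.induction_on with
    | zero => simp
    | add u v hu hv => simp only [map_add, hu, hv]
    | tmul x e =>
      have h : Ξ (x ⊗ₜ e) = (Ideal.Quotient.mk J x) ⊗ₜ[k] (residue E e) := by
        rw [Algebra.TensorProduct.lift_tmul]
        show ((Ideal.Quotient.mk J x) ⊗ₜ[k] (1 : l)) * ((1 : Qb) ⊗ₜ[k] residue E e) = _
        rw [Algebra.TensorProduct.tmul_mul_tmul, mul_one, one_mul]
      rw [h, Algebra.TensorProduct.lift_tmul]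
      show Ideal.Quotient.mk Jm (x ⊗ₜ[A] (1 : E)) * Ideal.Quotient.mk Jm ((1 : Q) ⊗ₜ[A] e) = _
      rw [← map_mul, Algebra.TensorProduct.tmul_mul_tmul, mul_one, one_mul]
  have hrad : Jm.IsRadical := fun b ⟨n, hn⟩ => by
    have hker : ∀ x, x ∈ Jm → Ξ x = 0 := by
      have hle : Jm ≤ RingHom.ker Ξ.toRingHom := by
        refine sup_le (Ideal.map_le_iff_le_comap.2 fun q hq => ?_) (Ideal.map_le_iff_le_comap.2 fun e he => ?_)
        · show Ξ (q ⊗ₜ 1) = 0
          rw [Algebra.TensorProduct.lift_tmul, map_one, mul_one, AlgHom.comp_apply,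
            Ideal.Quotient.mkₐ_eq_mk, Ideal.Quotient.eq_zero_iff_mem.2 hq, map_zero]
        · show Ξ (1 ⊗ₜ e) = 0
          rw [Algebra.TensorProduct.lift_tmul, map_one, one_mul, AlgHom.comp_apply,
            IsScalarTower.toAlgHom_apply,
            show algebraMap E l e = 0 from (residue_eq_zero_iff e).2 he, map_zero]
      exact hle
    have h0 := hker _ hn
    rw [map_pow] at h0
    rw [← Ideal.Quotient.eq_zero_iff_mem, ← hχ, eq_zero_of_pow_eq_zero h0, map_zero]
  refine le_antisymm ?_ (le_sInf fun N ⟨_, hN⟩ => hmax N hN)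
  intro b hb
  refine hrad ?_
  rw [Ideal.radical_eq_sInf, Ideal.mem_sInf]
  rintro N ⟨hJN, hNp⟩
  have hNc : N.comap (algebraMap E B) = maximalIdeal E := le_antisymm
    (le_maximalIdeal (hNp.comap _).ne_top)
    (fun e he => hJN (Ideal.mem_sup_right (Ideal.mem_map_of_mem
      (Algebra.TensorProduct.includeRight : E →ₐ[A] B) he)))
  have hNm : N.IsMaximal := Ideal.isMaximal_of_isIntegral_of_isMaximal_comap (R := E) N (by
    rw [hNc]; infer_instance)
  exact Ideal.mem_sInf.1 hb ⟨bot_le, hNm⟩

end Groth.Agent.SHens6
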