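import Groth.Agent.Lib.SHens6.SubFG
import Groth.Agent.Lib.SHens6.EssEtale
import Groth.Agent.Lib.Hens.Normal
import Groth.Agent.Lib.Hens.EssEtale
import Mathlib

/-! # Normal local subalgebras of a strict henselization of a normal domain -/

set_option autoImplicit false
universe u

open IsLocalRing
open scoped TensorProduct

namespace Groth.Agent.SHens6

theorem normal_localization_of_etale (R C : Type u) [CommRing R] [IsDomain R] [IsIntegrallyClosed R]
    [CommRing C] [Algebra R C] [Algebra.Etale R C] (q : Ideal C) [q.IsPrime] :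
    IsDomain (Localization.AtPrime q) ∧ IsIntegrallyClosed (Localization.AtPrime q) := by
  haveI : Module.Flat C (Localization.AtPrime q) := IsLocalization.flat _ q.primeCompl
  haveI : Module.Flat R (Localization.AtPrime q) := Module.Flat.trans R C _
  haveI : Algebra.FormallyEtale C (Localization.AtPrime q) :=
    Algebra.FormallyEtale.of_isLocalization q.primeCompl
  haveI : Algebra.FormallyEtale R (Localization.AtPrime q) := Algebra.FormallyEtale.comp R C _
  haveI : Algebra.EssFiniteType C (Localization.AtPrime q) :=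
    Algebra.EssFiniteType.of_isLocalization _ q.primeCompl
  haveI : Algebra.EssFiniteType R (Localization.AtPrime q) := Algebra.EssFiniteType.comp R C _
  refine Hens.isDomain_isIntegrallyClosed_of_toIntegralClosure R _ ?_
  exact TensorProduct.toIntegralClosure_bijective_of_tower (S := C)
    TensorProduct.toIntegralClosure_bijective_of_smooth
    (TensorProduct.toIntegralClosure_bijective_of_isLocalization q.primeCompl)

/-- A map from an integral normal algebra to an essentially étale local algebra over a normal domain is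
flat. -/
theorem flat_of_isIntegral_normal (A C E : Type u) [CommRing A] [IsLocalRing A] [IsDomain A]
    [IsIntegrallyClosed A] [CommRing C] [IsDomain C] [IsIntegrallyClosed C] [Algebra A C]
    [Algebra.IsIntegral A C] [CommRing E] [Algebra A E] (hE : EGA4loc.IsEssentiallyEtale A E)
    (f : C →ₐ[A] E) : f.toRingHom.Flat := by
  obtain ⟨C₀, _, _, q, _, hC₀, -, ⟨e⟩⟩ := hE
  haveI := hC₀
  obtain ⟨hdE, -⟩ := normal_localization_of_etale A C₀ q
  let E' := Localization.AtPrime q
  let B := C ⊗[A] C₀
  let f' : C →ₐ[A] E' := e.toAlgHom.comp f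
  let μ : B →ₐ[A] E' := Algebra.TensorProduct.lift f' (IsScalarTower.toAlgHom A C₀ E')
    fun _ _ => Commute.all _ _
  have hμr : ∀ c : C₀, μ (1 ⊗ₜ c) = algebraMap C₀ E' c := fun c => by
    rw [Algebra.TensorProduct.lift_tmul, map_one, one_mul]; rfl
  let M : Ideal B := (maximalIdeal E').comap μ.toRingHom
  let G := Localization.AtPrime M
  obtain ⟨hdG, -⟩ := normal_localization_of_etale C B M
  have hMu : ∀ b : M.primeCompl, IsUnit (μ (b : B)) := fun b => notMem_maximalIdeal.1 b.2
  let μG : G →ₐ[A] E' := IsLocalization.liftAlgHom (M := M.primeCompl) (f := μ) hMu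
  have hμG : ∀ b, μG (algebraMap B G b) = μ b := fun b => IsLocalization.lift_eq hMu b
  letI : Algebra C₀ B := Algebra.TensorProduct.rightAlgebra
  haveI : Algebra.IsIntegral C₀ B := by
    refine ⟨fun x => ?_⟩
    induction x using TensorProduct.induction_on with
    | zero => exact isIntegral_zero
    | add x y hx hy => exact hx.add hy
    | tmul c c₀ =>
      have h1 : IsIntegral C₀ ((c : C) ⊗ₜ[A] (1 : C₀)) := by
        obtain ⟨p, hp, hpc⟩ := Algebra.IsIntegral.isIntegral (R := A) c
        refine ⟨p.map (algebraMap A C₀), hp.map _, ?_⟩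
        have h2 := congrArg (Algebra.TensorProduct.includeLeft : C →ₐ[A] B) hpc
        rw [map_zero] at h2
        rw [Polynomial.eval₂_map]
        rw [← h2]
        show _ = Algebra.TensorProduct.includeLeft (Polynomial.aeval c p)
        rw [← Polynomial.aeval_algHom_apply, Polynomial.aeval_def]
        congr 1
        refine RingHom.ext fun a => ?_
        show (1 : C) ⊗ₜ[A] algebraMap A C₀ a = algebraMap A B a
        rw [Algebra.algebraMap_eq_smul_one, Algebra.algebraMap_eq_smul_one, TensorProduct.tmul_smul]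
        rfl
      have h2 : (c ⊗ₜ[A] c₀ : B) = c ⊗ₜ[A] 1 * algebraMap C₀ B c₀ := by
        show _ = c ⊗ₜ[A] 1 * (1 : C) ⊗ₜ[A] c₀
        rw [Algebra.TensorProduct.tmul_mul_tmul, mul_one, one_mul]
      rw [h2]
      exact h1.mul isIntegral_algebraMap
  let P₀ : Ideal B := RingHom.ker (algebraMap B G)
  let P' : Ideal B := RingHom.ker μ.toRingHom
  haveI : P₀.IsPrime := RingHom.ker_isPrime _
  haveI : P'.IsPrime := RingHom.ker_isPrime _
  have hle : P₀ ≤ P' := fun b hb => by
    have hb' : algebraMap B G b = 0 := hb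
    show μ b = 0
    rw [← hμG, hb', map_zero]
  have hPP : P₀ = P' := by
    refine hle.eq_of_not_lt fun hlt => (Ideal.IsIntegral.comap_lt_comap (R := C₀) hlt).not_ge ?_
    intro c hc
    have hc' : algebraMap C₀ E' c = 0 := by rw [← hμr]; exact hc
    obtain ⟨t, ht⟩ := (IsLocalization.map_eq_zero_iff q.primeCompl E' c).1 hc'
    show algebraMap B G (algebraMap C₀ B c) = 0
    have htu : IsUnit (algebraMap B G (algebraMap C₀ B t)) := by
      refine IsLocalization.map_units G (⟨_, ?_⟩ : M.primeCompl)
      show algebraMap C₀ B t ∉ M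
      intro h
      have h' : μ (1 ⊗ₜ (t : C₀)) ∈ maximalIdeal E' := h
      rw [hμr] at h'
      exact h' (IsLocalization.map_units E' t)
    refine htu.mul_right_eq_zero.1 ?_
    rw [← map_mul, ← map_mul, ht, map_zero, map_zero]
  have hbij : Function.Bijective μG := by
    refine ⟨(injective_iff_map_eq_zero μG).2 fun x hx => ?_, fun y => ?_⟩
    · obtain ⟨⟨b, s⟩, hbs⟩ := IsLocalization.surj M.primeCompl x
      have h1 : μ b = 0 := by rw [← hμG, ← hbs, map_mul, hx, zero_mul]
      have h2 : b ∈ P₀ := hPP ▸ (show b ∈ P' from h1)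
      rw [show algebraMap B G b = 0 from h2] at hbs
      exact (IsLocalization.map_units G s).mul_left_eq_zero.1 hbs
    · obtain ⟨c, t, rfl⟩ := IsLocalization.exists_mk'_eq q.primeCompl y
      have htM : ((1 : C) ⊗ₜ[A] (t : C₀) : B) ∈ M.primeCompl := fun h => by
        have h' : μ (1 ⊗ₜ (t : C₀)) ∈ maximalIdeal E' := h
        rw [hμr] at h'
        exact h' (IsLocalization.map_units E' t)
      refine ⟨IsLocalization.mk' G ((1 : C) ⊗ₜ[A] c) ⟨_, htM⟩, (IsLocalization.eq_mk'_iff_mul_eq).2 ?_⟩
      rw [← hμr t, ← hμr c, ← hμG, ← hμG, ← map_mul, IsLocalization.mk'_spec]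
  haveI : Module.Flat A C₀ := inferInstance
  haveI : Module.Flat B G := IsLocalization.flat _ M.primeCompl
  haveI : Module.Flat C G := Module.Flat.trans C B G
  letI : Algebra C E := f.toRingHom.toAlgebra
  show Module.Flat C E
  let eG : G ≃ₗ[C] E :=
    { toFun := fun x => e.symm (μG x)
      invFun := fun y => (AlgEquiv.ofBijective μG hbij).symm (e y)
      left_inv := fun x => by
        show (AlgEquiv.ofBijective μG hbij).symm (e (e.symm (μG x))) = x
        rw [e.apply_symm_apply]
        exact (AlgEquiv.ofBijective μG hbij).symm_apply_apply x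
      right_inv := fun y => by
        show e.symm (μG ((AlgEquiv.ofBijective μG hbij).symm (e y))) = y
        rw [show μG ((AlgEquiv.ofBijective μG hbij).symm (e y)) = e y from
          (AlgEquiv.ofBijective μG hbij).apply_symm_apply (e y), e.symm_apply_apply]
      map_add' := fun x y => by
        show e.symm (μG (x + y)) = e.symm (μG x) + e.symm (μG y)
        rw [map_add, map_add]
      map_smul' := fun c x => by
        show e.symm (μG (c • x)) = f c * e.symm (μG x)
        rw [Algebra.smul_def, map_mul, map_mul, IsScalarTower.algebraMap_apply C B G, hμG]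
        congr 1
        show e.symm (μ (c ⊗ₜ 1)) = f c
        rw [Algebra.TensorProduct.lift_tmul, map_one, mul_one]
        exact e.symm_apply_apply (f c) }
  exact Module.Flat.of_linearEquiv eG.symm

variable (A S : Type u) [CommRing A] [IsLocalRing A] [IsDomain A] [IsIntegrallyClosed A]
  [IsNoetherianRing A] [CommRing S] [IsLocalRing S] [Algebra A S] [IsLocalHom (algebraMap A S)]
  [Hensel.IsStrictHenselization A S]

set_option maxHeartbeats 2000000 in
set_option synthInstance.maxHeartbeats 400000 in
/-- A dominated normal local subalgebra inside an essentially étale one is essentially étale. -/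
theorem isEssentiallyEtale_of_normal_le (D : Subalgebra A S) [IsLocalRing D]
    [IsLocalHom (algebraMap D S)] [IsIntegrallyClosed D] (E : Subalgebra A S) (hDE : D ≤ E)
    [IsLocalRing E] [IsLocalHom (algebraMap E S)] (hE : EGA4loc.IsEssentiallyEtale A E) :
    EGA4loc.IsEssentiallyEtale A D := by
  classical
  haveI hdS : IsDomain S := ((Hens.strictHenselization_normal_iff A S).2 ⟨inferInstance, inferInstance⟩).1
  haveI := Hens.strictHenselization_flat A S
  haveI : Module.FaithfullyFlat A S := Hens.strictHenselization_faithfullyFlat A S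
  have hAS : Function.Injective (algebraMap A S) := FaithfulSMul.algebraMap_injective A S
  let j : D →ₐ[A] E := Subalgebra.inclusion hDE
  letI : Algebra D E := j.toRingHom.toAlgebra
  haveI : IsScalarTower A D E := IsScalarTower.of_algebraMap_eq fun a => (j.commutes a).symm
  haveI : IsLocalHom (algebraMap D E) := ⟨fun d hd =>
    isUnit_of_map_unit (algebraMap D S) d (hd.map E.val)⟩
  haveI : IsDomain D := inferInstance
  obtain ⟨hfeE, heftE⟩ := Hens.essEtale_formallyEtale hE
  obtain ⟨hdE, -⟩ : IsDomain E ∧ IsIntegrallyClosed E := by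
    obtain ⟨C₀, _, _, q, _, hC₀, -, ⟨e⟩⟩ := hE
    haveI := hC₀
    exact Hens.isNormal_of_algEquiv e.symm.toRingEquiv (normal_localization_of_etale A C₀ q)
  have hmE : Ideal.map (algebraMap A E) (maximalIdeal A) = maximalIdeal E := by
    haveI : IsLocalHom (algebraMap A E) := ⟨fun a ha => by
      refine isUnit_of_map_unit (algebraMap A S) a ?_
      have := ha.map E.val
      rwa [E.val.commutes] at this⟩
    exact Algebra.FormallyUnramified.map_maximalIdeal
  obtain ⟨hloc, t, ht⟩ := isLocalization_fractionRing_and_fg A E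
    (minimalPrimes.finite_of_isNoetherianRing A) hE
  let K := FractionRing A
  let F := FractionRing E
  let L := FractionRing D
  have hKu : ∀ a : nonZeroDivisors A, IsUnit (algebraMap A F a) := fun a => by
    rw [IsScalarTower.algebraMap_apply A E F]
    exact IsLocalization.map_units F (⟨_, ⟨a.1, a.2, rfl⟩⟩ : (nonZeroDivisors A).map (algebraMap A E))
  letI algKF : Algebra K F := (IsLocalization.lift hKu : K →+* F).toAlgebra
  haveI : IsScalarTower A K F := IsScalarTower.of_algebraMap_eq fun a => (IsLocalization.lift_eq hKu a).symm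
  haveI : Module.Finite K F := ⟨⟨t, by
    refine Submodule.eq_top_iff'.2 fun x => ?_
    obtain ⟨a, ha, hax⟩ := ht x
    have h1 : algebraMap A K a • x ∈ Submodule.span K (t : Set F) := by
      rw [algebraMap_smul, Algebra.smul_def]
      exact Submodule.span_le_restrictScalars A K (t : Set F) hax
    obtain ⟨u, hu⟩ := IsLocalization.map_units K (⟨a, ha⟩ : nonZeroDivisors A)
    have h2 := Submodule.smul_mem _ (↑u⁻¹ : K) h1
    rwa [smul_smul, ← hu, Units.inv_mul, one_smul] at h2⟩⟩
  haveI : Algebra.FormallyEtale E F :=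
    Algebra.FormallyEtale.of_isLocalization (nonZeroDivisors E)
  haveI : Algebra.FormallyEtale A F := Algebra.FormallyEtale.comp A E F
  haveI : Algebra.FormallyUnramified K F := Algebra.FormallyUnramified.of_restrictScalars A K F
  haveI : Algebra.IsSeparable K F := Algebra.FormallyUnramified.isSeparable K F
  have hDL : ∀ d : nonZeroDivisors D, IsUnit ((algebraMap E F) (j d)) := fun d => by
    refine IsUnit.mk0 _ fun h0 => nonZeroDivisors.ne_zero d.2 ?_
    exact Subalgebra.inclusion_injective hDE
      ((IsFractionRing.injective E F (h0.trans (map_zero _).symm)).trans (map_zero j).symm)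
  let φ₀ : L →+* F := IsLocalization.lift (g := (algebraMap E F).comp j.toRingHom) hDL
  have hφ₀ : ∀ d : D, φ₀ (algebraMap D L d) = algebraMap E F (j d) := fun d =>
    IsLocalization.lift_eq (g := (algebraMap E F).comp j.toRingHom) hDL d
  have hLu : ∀ a : nonZeroDivisors A, IsUnit (algebraMap A L a) := fun a => by
    refine IsUnit.mk0 _ fun h0 => ?_
    have h1 := (hKu a).ne_zero
    rw [IsScalarTower.algebraMap_apply A D L] at h0
    rw [IsScalarTower.algebraMap_apply A E F, ← j.commutes, ← hφ₀, h0, map_zero] at h1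
    exact h1 rfl
  letI algKL : Algebra K L := (IsLocalization.lift hLu : K →+* L).toAlgebra
  haveI : IsScalarTower A K L := IsScalarTower.of_algebraMap_eq fun a => (IsLocalization.lift_eq hLu a).symm
  let φ : L →ₐ[K] F :=
    { φ₀ with
      commutes' := fun k => by
        have h : φ₀.comp (algebraMap K L) = algebraMap K F := by
          refine IsLocalization.ringHom_ext (nonZeroDivisors A) (RingHom.ext fun a => ?_)
          show φ₀ (algebraMap K L (algebraMap A K a)) = algebraMap K F (algebraMap A K a)
          rw [← IsScalarTower.algebraMap_apply, ← IsScalarTower.algebraMap_apply,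
            IsScalarTower.algebraMap_apply A D L, hφ₀, j.commutes, ← IsScalarTower.algebraMap_apply]
        exact congr($h k) }
  haveI : Module.Finite K L := Module.Finite.of_injective φ.toLinearMap φ₀.injective
  haveI : Algebra.IsSeparable K L := Algebra.IsSeparable.of_algHom K F φ
  let C := integralClosure A D
  let C' := integralClosure A L
  haveI : Module.Finite A C' := IsIntegralClosure.finite A K L C'
  let ιC : C →ₐ[A] C' := ((IsScalarTower.toAlgHom A D L).comp C.val).codRestrict C' fun c =>
    (c.2 : IsIntegral A (c : D)).map (IsScalarTower.toAlgHom A D L)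
  haveI : Module.Finite A C := Module.Finite.of_injective ιC.toLinearMap fun a b h =>
    Subtype.ext (IsFractionRing.injective D L (congrArg Subtype.val h))
  haveI : Algebra.IsIntegral A C := Algebra.IsIntegral.of_finite A C
  haveI : IsIntegrallyClosed C := IsIntegrallyClosed.of_isIntegrallyClosed_of_isIntegrallyClosedIn C D
  let f : C →ₐ[A] E := j.comp C.val
  letI algCE : Algebra C E := f.toRingHom.toAlgebra
  haveI hflat : Module.Flat C E := flat_of_isIntegral_normal A C E hE f
  let n : Ideal C := (maximalIdeal D).comap C.val.toRingHom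
  haveI : n.IsPrime := Ideal.IsPrime.comap _
  let Cn := Localization.AtPrime n
  have hnu : ∀ c : n.primeCompl, IsUnit (C.val (c : C)) := fun c => notMem_maximalIdeal.1 c.2
  let ψ : Cn →ₐ[A] D := IsLocalization.liftAlgHom (M := n.primeCompl) (f := C.val) hnu
  have hψ : ∀ c, ψ (algebraMap C Cn c) = c := fun c => IsLocalization.lift_eq hnu c
  letI algCnE : Algebra Cn E := (j.comp ψ).toRingHom.toAlgebra
  haveI : IsScalarTower C Cn E := IsScalarTower.of_algebraMap_eq fun c => by
    show f c = j (ψ (algebraMap C Cn c))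
    rw [hψ]; rfl
  haveI : Module.Flat Cn E := (Module.flat_iff_of_isLocalization Cn n.primeCompl E).2 hflat
  haveI : IsLocalHom (algebraMap Cn E) := ⟨fun x hx => by
    obtain ⟨c, s, rfl⟩ := IsLocalization.exists_mk'_eq n.primeCompl x
    rw [IsLocalization.AtPrime.isUnit_mk'_iff Cn n]
    show ¬ (c : D) ∈ maximalIdeal D
    rw [notMem_maximalIdeal]
    have h1 : IsUnit (ψ (IsLocalization.mk' Cn c s)) := isUnit_of_map_unit (algebraMap D E) _ hx
    have := h1.mul ((IsLocalization.map_units Cn s).map ψ)
    rwa [← map_mul, IsLocalization.mk'_spec, hψ] at this⟩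
  haveI : Module.FaithfullyFlat Cn E := Module.FaithfullyFlat.of_flat_of_isLocalHom
  have hsurj : Function.Surjective ψ := fun d => by
    have halg : IsAlgebraic A d := by
      rw [← isAlgebraic_algebraMap_iff (A := L) (IsFractionRing.injective D L),
        IsFractionRing.isAlgebraic_iff A K L]
      exact Algebra.IsAlgebraic.isAlgebraic _
    obtain ⟨a, ha, had⟩ := halg.exists_integral_multiple
    have haD : algebraMap A D a ≠ 0 := fun h0 => ha (hAS (by
      rw [map_zero]; exact congrArg Subtype.val h0))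
    let c : C := ⟨a • d, had⟩
    have hc : algebraMap C Cn c ∈ Ideal.span {algebraMap A Cn a} := by
      rw [← Ideal.comap_map_eq_self_of_faithfullyFlat (B := E) (Ideal.span {algebraMap A Cn a}),
        Ideal.mem_comap, Ideal.map_span, Set.image_singleton, Ideal.mem_span_singleton']
      refine ⟨j d, ?_⟩
      show j d * j (ψ (algebraMap A Cn a)) = j (ψ (algebraMap C Cn c))
      rw [hψ, ψ.commutes, ← map_mul, mul_comm]
      exact congrArg j (Algebra.smul_def a d).symm
    obtain ⟨y, hy⟩ := Ideal.mem_span_singleton'.1 hc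
    refine ⟨y, mul_right_cancel₀ haD ?_⟩
    rw [← ψ.commutes a, ← map_mul, hy, hψ, ψ.commutes, mul_comm]
    exact Algebra.smul_def a d
  letI algCnD : Algebra Cn D := ψ.toRingHom.toAlgebra
  haveI : IsScalarTower A Cn D := IsScalarTower.of_algebraMap_eq fun a => (ψ.commutes a).symm
  haveI : Module.Finite Cn D := Module.Finite.of_surjective (Algebra.linearMap Cn D) hsurj
  haveI : Algebra.EssFiniteType C Cn := Algebra.EssFiniteType.of_isLocalization _ n.primeCompl
  haveI : Algebra.EssFiniteType A Cn := Algebra.EssFiniteType.comp A C Cn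
  haveI : Algebra.EssFiniteType A D := Algebra.EssFiniteType.comp A Cn D
  refine isEssentiallyEtale_of_map_maximalIdeal A S D (le_antisymm (Ideal.map_le_iff_le_comap.2
    fun a ha hu => ha (isUnit_of_map_unit (algebraMap A S) a ?_)) fun x hx => ?_)
  · have := IsUnit.map (algebraMap D S) hu
    rwa [← IsScalarTower.algebraMap_apply] at this
  · obtain ⟨y, rfl⟩ := hsurj x
    have h1 : algebraMap Cn E y ∈ maximalIdeal E := fun hu => hx (isUnit_of_map_unit (algebraMap D E) _ hu)
    haveI : IsScalarTower A Cn E := IsScalarTower.of_algebraMap_eq fun a => by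
      show algebraMap A E a = j (ψ (algebraMap A Cn a))
      rw [ψ.commutes, j.commutes]
    have h2 : y ∈ Ideal.map (algebraMap A Cn) (maximalIdeal A) := by
      rw [← Ideal.comap_map_eq_self_of_faithfullyFlat (B := E) (Ideal.map (algebraMap A Cn) (maximalIdeal A)),
        Ideal.mem_comap, Ideal.map_map, ← IsScalarTower.algebraMap_eq, hmE]
      exact h1
    have h3 := Ideal.mem_map_of_mem ψ.toRingHom h2
    rwa [Ideal.map_map, show ψ.toRingHom.comp (algebraMap A Cn) = algebraMap A D from ψ.comp_algebraMap] at h3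

theorem isLocalHom_of_dvd (E : Subalgebra A S)
    (hdiv : ∀ e₁ ∈ E, ∀ e₂ ∈ E, ∀ x : S, e₂ * x = e₁ → ∃ y ∈ E, e₂ * y = e₁) :
    IsLocalHom (algebraMap E S) := ⟨fun e he => by
  obtain ⟨x, hx⟩ := he.exists_right_inv
  obtain ⟨y, hy, hey⟩ := hdiv 1 (one_mem _) e e.2 x hx
  exact IsUnit.of_mul_eq_one (⟨y, hy⟩ : E) (Subtype.ext hey)⟩

theorem isEssentiallyEtale_of_normal_fg (D : Subalgebra A S) [IsLocalRing D]
    [IsLocalHom (algebraMap D S)] [IsDomain D] [IsIntegrallyClosed D]
    (hfg : ∃ s : Finset D, Subfield.closure (Set.range (algebraMap A (FractionRing D)) ∪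
        (algebraMap D (FractionRing D)) '' (s : Set D)) = ⊤) :
    EGA4loc.IsEssentiallyEtale A D := by
  classical
  haveI hdS : IsDomain S := ((Hens.strictHenselization_normal_iff A S).2 ⟨inferInstance, inferInstance⟩).1
  obtain ⟨s, hs⟩ := hfg
  obtain ⟨E, hsE, ⟨hEl, hE⟩, hdiv⟩ := exists_essEtale_ge A S (s.image fun d : D => (d : S))
  haveI := hEl
  haveI := isLocalHom_of_dvd A S E hdiv
  refine isEssentiallyEtale_of_normal_le A S D E ?_ hE
  let F := FractionRing D
  let Good : Subfield F :=
    { carrier := {z | ∃ p q : D, q ≠ 0 ∧ (p : S) ∈ E ∧ (q : S) ∈ E ∧ z * algebraMap D F q = algebraMap D F p}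
      mul_mem' := by
        rintro u v ⟨p, q, hq, hp, hqE, h⟩ ⟨p', q', hq', hp', hqE', h'⟩
        refine ⟨p * p', q * q', mul_ne_zero hq hq', mul_mem hp hp', mul_mem hqE hqE', ?_⟩
        rw [map_mul, map_mul, ← h, ← h']; ring
      one_mem' := ⟨1, 1, one_ne_zero, one_mem _, one_mem _, by rw [one_mul]⟩
      add_mem' := by
        rintro u v ⟨p, q, hq, hp, hqE, h⟩ ⟨p', q', hq', hp', hqE', h'⟩
        refine ⟨p * q' + p' * q, q * q', mul_ne_zero hq hq', add_mem (mul_mem hp hqE') (mul_mem hp' hqE),
          mul_mem hqE hqE', ?_⟩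
        rw [map_mul, map_add, map_mul, map_mul, ← h, ← h']; ring
      zero_mem' := ⟨0, 1, one_ne_zero, zero_mem _, one_mem _, by rw [zero_mul, map_zero]⟩
      neg_mem' := by
        rintro u ⟨p, q, hq, hp, hqE, h⟩
        exact ⟨-p, q, hq, neg_mem hp, hqE, by rw [map_neg, ← h, neg_mul]⟩
      inv_mem' := by
        rintro u ⟨p, q, hq, hp, hqE, h⟩
        rcases eq_or_ne u 0 with rfl | hu
        · exact ⟨0, 1, one_ne_zero, zero_mem _, one_mem _, by rw [inv_zero, zero_mul, map_zero]⟩
        · refine ⟨q, p, fun hp0 => ?_, hqE, hp, by rw [← h, inv_mul_cancel_left₀ hu]⟩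
          rw [hp0, map_zero] at h
          exact mul_ne_zero hu ((map_ne_zero_iff _ (IsFractionRing.injective D F)).2 hq) h }
  have htop : (⊤ : Subfield F) ≤ Good := hs ▸ Subfield.closure_le.2 (by
    rintro z (⟨a, rfl⟩ | ⟨d, hd, rfl⟩)
    · exact ⟨algebraMap A D a, 1, one_ne_zero, E.algebraMap_mem a, one_mem _, by
        rw [map_one, mul_one, ← IsScalarTower.algebraMap_apply]⟩
    · exact ⟨d, 1, one_ne_zero, hsE (Finset.mem_image_of_mem _ hd), one_mem _, by rw [map_one, mul_one]⟩)
  intro x hx
  obtain ⟨p, q, hq, hp, hqE, h⟩ := htop (Subfield.mem_top (algebraMap D F ⟨x, hx⟩))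
  rw [← map_mul] at h
  have h1 : (q : S) * x = (p : S) := by
    rw [← congrArg Subtype.val (IsFractionRing.injective D F h), Subalgebra.coe_mul, mul_comm]
  obtain ⟨y, hy, hqy⟩ := hdiv _ hp _ hqE x h1
  have hq0 : (q : S) ≠ 0 := fun h0 => hq (Subtype.ext h0)
  rwa [mul_left_cancel₀ hq0 (h1.trans hqy.symm)]

theorem exists_isEssentiallyEtale_le (D : Subalgebra A S) [IsLocalRing D]
    [IsLocalHom (algebraMap D S)] [IsIntegrallyClosed D] (s : Finset S) (hs : (s : Set S) ⊆ D) :
    ∃ D' : Subalgebra A S, D' ≤ D ∧ (s : Set S) ⊆ (D' : Set S) ∧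
      ∃ _ : IsLocalRing D', IsLocalHom (algebraMap D' S) ∧ EGA4loc.IsEssentiallyEtale A D' := by
  haveI hdS : IsDomain S := ((Hens.strictHenselization_normal_iff A S).2 ⟨inferInstance, inferInstance⟩).1
  obtain ⟨E, hsE, ⟨hEl, hE⟩, hdiv⟩ := exists_essEtale_ge A S s
  haveI := hEl
  haveI := isLocalHom_of_dvd A S E hdiv
  haveI hlh : IsLocalHom (algebraMap ↥(D ⊓ E) S) := ⟨fun x hx => by
    obtain ⟨u, hu⟩ := (isUnit_of_map_unit (algebraMap D S) (⟨x, x.2.1⟩ : D) hx).exists_right_inv
    obtain ⟨v, hv⟩ := (isUnit_of_map_unit (algebraMap E S) (⟨x, x.2.2⟩ : E) hx).exists_right_inv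
    have hu' : (x : S) * u = 1 := congrArg Subtype.val hu
    have hv' : (x : S) * v = 1 := congrArg Subtype.val hv
    have huv : (u : S) = v := left_inv_eq_right_inv (by rw [mul_comm]; exact hu') hv'
    exact IsUnit.of_mul_eq_one (⟨u, u.2, huv ▸ v.2⟩ : ↥(D ⊓ E)) (Subtype.ext hu')⟩
  haveI : IsLocalRing ↥(D ⊓ E) := RingHom.domain_isLocalRing (algebraMap ↥(D ⊓ E) S)
  haveI : IsIntegrallyClosed ↥(D ⊓ E) := by
    obtain ⟨hdE, hnE⟩ : IsDomain E ∧ IsIntegrallyClosed E := by
      obtain ⟨C₀, _, _, q, _, hC₀, -, ⟨e⟩⟩ := hE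
      haveI := hC₀
      exact Hens.isNormal_of_algEquiv e.symm.toRingEquiv (normal_localization_of_etale A C₀ q)
    refine (isIntegrallyClosed_iff (FractionRing ↥(D ⊓ E))).2 fun {z} hz => ?_
    obtain ⟨a, b, hb, rfl⟩ := IsFractionRing.div_surjective ↥(D ⊓ E) z
    have hb0 : (b : S) ≠ 0 := fun h0 => nonZeroDivisors.ne_zero hb (Subtype.ext h0)
    have key : ∀ (B : Subalgebra A S) [IsIntegrallyClosed B] (h : D ⊓ E ≤ B), ∃ w ∈ B, (b : S) * w = a := by
      intro B _ h
      let i : ↥(D ⊓ E) →ₐ[A] B := Subalgebra.inclusion h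
      have hib : i b ≠ 0 := fun h0 => hb0 (congrArg Subtype.val h0)
      let g : FractionRing ↥(D ⊓ E) →+* FractionRing B :=
        IsFractionRing.map (j := i.toRingHom) (Subalgebra.inclusion_injective h)
      have hg : ∀ x, g (algebraMap _ _ x) = algebraMap B (FractionRing B) (i x) := fun x =>
        IsLocalization.map_eq _ x
      have h1 : IsIntegral B (g (algebraMap _ _ a / algebraMap _ _ b)) := by
        obtain ⟨p, hp, hpz⟩ := hz
        refine ⟨p.map i.toRingHom, hp.map _, ?_⟩
        have h2 := congrArg g hpz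
        rw [map_zero, Polynomial.hom_eval₂] at h2
        rw [Polynomial.eval₂_map, ← h2]
        congr 1
        exact RingHom.ext fun x => (hg x).symm
      obtain ⟨w, hw⟩ := IsIntegrallyClosed.isIntegral_iff.1 h1
      refine ⟨w, w.2, ?_⟩
      rw [map_div₀, hg, hg, eq_div_iff ((map_ne_zero_iff _ (IsFractionRing.injective B (FractionRing B))).2 hib),
        ← map_mul] at hw
      rw [mul_comm]
      exact congrArg Subtype.val (IsFractionRing.injective B (FractionRing B) hw)
    obtain ⟨w, hwD, hw⟩ := key D inf_le_left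
    obtain ⟨w', hwE, hw'⟩ := key E inf_le_right
    have hww : w = w' := mul_left_cancel₀ hb0 (hw.trans hw'.symm)
    refine ⟨⟨w, hwD, hww ▸ hwE⟩, ?_⟩
    rw [eq_div_iff (IsFractionRing.to_map_ne_zero_of_mem_nonZeroDivisors hb), ← map_mul, mul_comm]
    exact congrArg _ (Subtype.ext hw)
  exact ⟨D ⊓ E, inf_le_left, fun x hx => ⟨hs hx, hsE hx⟩, inferInstance, hlh,
    isEssentiallyEtale_of_normal_le A S (D ⊓ E) E inf_le_right hE⟩

end Groth.Agent.SHens6
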